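import Mathlib

/-!
# Colourings of an elementary abelian group with trivial affine stabiliser

Five colours always suffice and three do when the prime is at least five.
-/

set_option autoImplicit false

universe u

namespace CfsgLib.CoprimeBase

variable {r : ℕ} [Fact r.Prime] {M : Type u} [AddCommGroup M] [Module (ZMod r) M]

/-- The vectors of a basis, indexed by naturals. -/
noncomputable def bv {d : ℕ} (b : Module.Basis (Fin d) (ZMod r) M) (j : ℕ) : M := if h : j < d then b ⟨j, h⟩ else 0

variable {d : ℕ} (b : Module.Basis (Fin d) (ZMod r) M)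

theorem repr_bv {a j : ℕ} (ha : a < d) (hj : j < d) :
    b.repr (bv b a) ⟨j, hj⟩ = if a = j then 1 else 0 := by
  simp [bv, ha, Finsupp.single_apply, Fin.ext_iff]

/-- The sum of the coordinates. -/
noncomputable def wt (x : M) : ZMod r := ∑ j : Fin d, b.repr x j

theorem wt_add (x y : M) : wt b (x + y) = wt b x + wt b y := by
  simp [wt, Finset.sum_add_distrib]

theorem wt_bv {a : ℕ} (ha : a < d) : wt b (bv b a) = 1 := by
  simp [wt, bv, ha, Finsupp.single_apply]

theorem bv_ne_zero {a : ℕ} (ha : a < d) : bv b a ≠ 0 := fun h => by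
  have := repr_bv b ha ha
  simp [h] at this

theorem bv_sum {a c k : ℕ} (ha : a < d) (hc : c < d) (hk : k + 1 < d)
    (h : bv b a + bv b c = bv b k + bv b (k + 1)) : (a = k ∧ c = k + 1) ∨ (a = k + 1 ∧ c = k) := by
  have hr : ∀ j, ∀ hj : j < d, (if a = j then (1 : ZMod r) else 0) + (if c = j then 1 else 0) =
      (if k = j then 1 else 0) + (if k + 1 = j then 1 else 0) := fun j hj => by
    have h1 := congrArg (fun x => b.repr x ⟨j, hj⟩) h
    simpa only [map_add, Finsupp.add_apply, repr_bv b ha hj, repr_bv b hc hj,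
      repr_bv b (show k < d by omega) hj, repr_bv b hk hj] using h1
  have h1 := hr k (by omega)
  have h2 := hr (k + 1) hk
  simp only [show k + 1 ≠ k by omega, show k ≠ k + 1 by omega, if_true, if_false, add_zero, zero_add] at h1 h2
  by_cases ha1 : a = k
  · subst ha1
    left
    refine ⟨rfl, ?_⟩
    by_contra hne
    simp [hne, show a ≠ a + 1 by omega] at h2
  · by_cases ha2 : a = k + 1
    · subst ha2
      right
      refine ⟨rfl, ?_⟩
      by_contra hne
      simp [hne, ha1] at h1
    · exfalso
      by_cases hc1 : c = k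
      · subst hc1; simp [ha2, show c ≠ c + 1 by omega] at h2
      · simp [ha1, hc1] at h1

theorem bv_injOn {a c : ℕ} (ha : a < d) (hc : c < d) (h : bv b a = bv b c) : a = c := by
  by_contra hne
  have h1 := repr_bv b ha ha
  rw [h, repr_bv b hc ha] at h1
  simp [Ne.symm hne] at h1

omit [Module (ZMod r) M] in
theorem eq_id_of_fixes [Module (ZMod r) M] (b : Module.Basis (Fin d) (ZMod r) M) (f : M →+ M)
    (h : ∀ i, i < d → f (bv b i) = bv b i) (x : M) : f x = x := by
  have h1 : f.toZModLinearMap r = LinearMap.id := b.ext fun i => by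
    have := h i i.2
    simpa [bv, i.2] using this
  exact LinearMap.congr_fun h1 x

/-- Five colours. -/
theorem five (b : Module.Basis (Fin d) (ZMod r) M) :
    ∃ c : M → ℕ, (∀ x, c x < 5) ∧ ∀ (f : M →+ M), Function.Injective f → ∀ m : M,
      (∀ x, c (f x + m) = c x) → m = 0 ∧ ∀ x, f x = x := by
  classical
  let IsB : M → Prop := fun x => ∃ j, 1 ≤ j ∧ j < d ∧ x = bv b j
  let IsC : M → Prop := fun x => ∃ k, k + 1 < d ∧ x = bv b k + bv b (k + 1)
  refine ⟨fun x => if x = 0 then 0 else if x = bv b 0 then 1 else if IsB x then 2 else if IsC x then 3 else 4,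
    fun x => by dsimp only; split_ifs <;> norm_num, fun f hf m hg => ?_⟩
  have hm : m = 0 := by
    have h0 := hg 0
    simp only [map_zero, zero_add, if_true] at h0
    split_ifs at h0 with h1 <;> first | exact h1 | simp at h0
  subst hm
  simp only [add_zero] at hg
  refine ⟨rfl, eq_id_of_fixes b f ?_⟩
  have hf0 : ∀ {x : M}, x ≠ 0 → f x ≠ 0 := fun hx h => hx (hf (h.trans (map_zero f).symm))
  have hC : ∀ k, k + 1 < d → IsC (bv b k + bv b (k + 1)) ∧ ¬ IsB (bv b k + bv b (k + 1)) ∧
      bv b k + bv b (k + 1) ≠ bv b 0 ∧ bv b k + bv b (k + 1) ≠ 0 := by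
    intro k hk
    have hne : ∀ j, j < d → bv b k + bv b (k + 1) ≠ bv b j := fun j hj h => by
      rcases eq_or_ne j k with rfl | hjk
      · exact bv_ne_zero b hk (by rwa [add_eq_left] at h)
      · have h1 := congrArg (fun x => b.repr x ⟨k, by omega⟩) h
        simp only [map_add, Finsupp.add_apply, repr_bv b (show k < d by omega) (show k < d by omega),
          repr_bv b hk (show k < d by omega), repr_bv b hj (show k < d by omega)] at h1
        simp [hjk] at h1
    refine ⟨⟨k, hk, rfl⟩, fun ⟨j, _, hj, h⟩ => hne j hj h, hne 0 (by omega), fun h => ?_⟩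
    have h1 := congrArg (fun x => b.repr x ⟨k, by omega⟩) h
    simp [repr_bv b (show k < d by omega) (show k < d by omega), repr_bv b hk (show k < d by omega)] at h1
  intro i
  induction i using Nat.strong_induction_on with
  | _ i ih =>
    intro hi
    rcases i with _ | i
    · have h0 := hg (bv b 0)
      simp only [if_neg (bv_ne_zero b hi), if_true, if_neg (hf0 (bv_ne_zero b hi))] at h0
      split_ifs at h0 with h1 h2 h3 <;> first | exact h1 | simp at h0
    · have hne0 : bv b (i + 1) ≠ bv b 0 := fun h => by simpa using bv_injOn b hi (by omega) h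
      have hB : IsB (bv b (i + 1)) := ⟨i + 1, by omega, hi, rfl⟩
      have h0 := hg (bv b (i + 1))
      simp only [if_neg (bv_ne_zero b hi), if_neg hne0, if_pos hB, if_neg (hf0 (bv_ne_zero b hi))] at h0
      obtain ⟨j, -, hj, hfj⟩ : IsB (f (bv b (i + 1))) := by
        split_ifs at h0 with h1 h2 h3 <;> first | exact h2 | simp at h0
      obtain ⟨hCi, hCB, hC0, hCz⟩ := hC i hi
      have h1 := hg (bv b i + bv b (i + 1))
      simp only [if_neg hCz, if_neg hC0, if_neg hCB, if_pos hCi, if_neg (hf0 hCz)] at h1
      obtain ⟨k, hk, hfk⟩ : IsC (f (bv b i + bv b (i + 1))) := by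
        split_ifs at h1 with g1 g2 g3 <;> first | exact g3 | simp at h1
      rw [map_add, ih i (by omega) (by omega), hfj] at hfk
      rw [hfj]
      rcases bv_sum b (by omega) hj hk hfk with ⟨rfl, h⟩ | ⟨rfl, h⟩
      · rw [h]
      · exfalso
        have h2 := ih k (by omega) (by omega)
        rw [h] at hfj
        have := bv_injOn b hi (by omega) (hf (hfj.trans h2.symm))
        omega

/-- Three colours for a prime at least five. -/
theorem three (hr : 5 ≤ r) (b : Module.Basis (Fin d) (ZMod r) M) (hd : 0 < d) :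
    ∃ c : M → ℕ, (∀ x, c x < 3) ∧ ∀ (f : M →+ M), Function.Injective f → ∀ m : M,
      (∀ x, c (f x + m) = c x) → m = 0 ∧ ∀ x, f x = x := by
  classical
  let IsX : M → Prop := fun x =>
    (∃ j, j < d ∧ x = bv b j) ∨ x = bv b 0 + bv b 0 ∨ ∃ k, k + 1 < d ∧ x = bv b k + bv b (k + 1)
  refine ⟨fun x => if x = 0 then 0 else if IsX x then 1 else 2,
    fun x => by dsimp only; split_ifs <;> norm_num, fun f hf m hg => ?_⟩
  have hm : m = 0 := by
    have h0 := hg 0
    simp only [map_zero, zero_add, if_true] at h0
    split_ifs at h0 with h1 <;> first | exact h1 | simp at h0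
  subst hm
  simp only [add_zero] at hg
  refine ⟨rfl, eq_id_of_fixes b f ?_⟩
  have hnum : ∀ n : ℕ, 0 < n → n < 5 → ((n : ℕ) : ZMod r) ≠ 0 := fun n hn hn5 h => by
    rw [ZMod.natCast_eq_zero_iff] at h
    have := Nat.le_of_dvd hn h
    omega
  have hwt : ∀ x, IsX x → wt b x = 1 ∨ wt b x = 2 := by
    rintro x (⟨j, hj, rfl⟩ | rfl | ⟨k, hk, rfl⟩)
    · exact Or.inl (wt_bv b hj)
    · right; rw [wt_add, wt_bv b hd]; norm_num
    · right; rw [wt_add, wt_bv b (by omega), wt_bv b hk]; norm_num
  have hX0 : ∀ x, IsX x → x ≠ 0 := fun x hx h => by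
    rcases hwt x hx with h1 | h1 <;> rw [h] at h1 <;> simp [wt] at h1
    exact hnum 2 (by norm_num) (by norm_num) (by exact_mod_cast h1.symm)
  have hfX : ∀ x, IsX x → IsX (f x) := fun x hx => by
    have h0 := hg x
    simp only [if_neg (hX0 x hx), if_pos hx] at h0
    split_ifs at h0 with h1 h2 <;> first | exact h2 | simp at h0
  have hsingle : ∀ x y, IsX x → IsX y → IsX (x + y) → wt b x = 1 → ∃ j, j < d ∧ y = bv b j := by
    rintro x y - hy hxy hx
    have hy1 : wt b y = 1 := by
      rcases hwt y hy with h | h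
      · exact h
      · exfalso
        rcases hwt _ hxy with h' | h' <;> rw [wt_add, hx, h] at h'
        · exact hnum 2 (by norm_num) (by norm_num) (by push_cast; linear_combination h')
        · exact hnum 1 (by norm_num) (by norm_num) (by push_cast; linear_combination h')
    rcases hy with h | h | ⟨k, hk, h⟩
    · exact h
    · exfalso
      rw [h, wt_add, wt_bv b hd] at hy1
      exact hnum 1 (by norm_num) (by norm_num) (by push_cast; linear_combination hy1)
    · exfalso
      rw [h, wt_add, wt_bv b (by omega), wt_bv b hk] at hy1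
      exact hnum 1 (by norm_num) (by norm_num) (by push_cast; linear_combination hy1)
  -- the marked basis vector
  have hzero : f (bv b 0) = bv b 0 := by
    have h1 := hfX _ (Or.inl ⟨0, hd, rfl⟩)
    have h2 := hfX _ (Or.inr (Or.inl rfl))
    rw [map_add] at h2
    have hy1 : wt b (f (bv b 0)) = 1 := by
      rcases hwt _ h1 with h | h
      · exact h
      · exfalso
        rcases hwt _ h2 with h' | h' <;> rw [wt_add, h] at h'
        · exact hnum 3 (by norm_num) (by norm_num) (by push_cast; linear_combination h')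
        · exact hnum 2 (by norm_num) (by norm_num) (by push_cast; linear_combination h')
    obtain ⟨j, hj, hfj⟩ := hsingle _ _ h1 h1 h2 hy1
    rw [hfj] at h2 ⊢
    rcases h2 with ⟨i, hi, h⟩ | h | ⟨k, hk, h⟩
    · exfalso
      have h' := congrArg (wt b) h
      rw [wt_add, wt_bv b hj, wt_bv b hi] at h'
      exact hnum 1 (by norm_num) (by norm_num) (by push_cast; linear_combination h')
    · by_contra hne
      have h' := congrArg (fun x => b.repr x ⟨j, hj⟩) h
      have hj0 : ¬ (0 = j) := fun e => hne (by rw [← e])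
      simp [repr_bv b hd hj, repr_bv b hj hj, hj0] at h'
      exact hnum 2 (by norm_num) (by norm_num) (by push_cast; linear_combination h')
    · exfalso
      rcases bv_sum b hj hj hk h with ⟨h3, h4⟩ | ⟨h3, h4⟩ <;> omega
  intro i
  induction i using Nat.strong_induction_on with
  | _ i ih =>
    intro hi
    rcases i with _ | i
    · exact hzero
    · have hfi := ih i (by omega) (by omega)
      have h2 := hfX _ (Or.inr (Or.inr ⟨i, hi, rfl⟩))
      rw [map_add, hfi] at h2
      obtain ⟨j, hj, hfj⟩ := hsingle _ _ (Or.inl ⟨i, by omega, rfl⟩) (hfX _ (Or.inl ⟨i + 1, hi, rfl⟩)) h2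
        (wt_bv b (by omega))
      rw [hfj] at h2 ⊢
      have hne : ∀ k, k ≤ i → j ≠ k := fun k hk e => by
        have := bv_injOn b hi (by omega) (hf (hfj.trans (e ▸ (ih k (by omega) (by omega)).symm)))
        omega
      rcases h2 with ⟨k, hk, h⟩ | h | ⟨k, hk, h⟩
      · exfalso
        have h' := congrArg (wt b) h
        rw [wt_add, wt_bv b (by omega), wt_bv b hj, wt_bv b hk] at h'
        exact hnum 1 (by norm_num) (by norm_num) (by push_cast; linear_combination h')
      · exfalso
        have h' := congrArg (fun x => b.repr x ⟨j, hj⟩) h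
        simp [repr_bv b (show i < d by omega) hj, repr_bv b hj hj, repr_bv b hd hj, (hne i le_rfl).symm,
          (hne 0 (Nat.zero_le _)).symm] at h'
      · rcases bv_sum b (by omega) hj hk h with ⟨rfl, h'⟩ | ⟨rfl, h'⟩
        · rw [h']
        · exact absurd h' (hne k (by omega))

end CfsgLib.CoprimeBase
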