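import Mathlib
import Cfsg.Agent.Lib.FgsC.BaseTwo.Basic

/-!
# Regular pairs for coprime soluble groups: definitions and the shift trick

For `p` prime to the order of the group, a regular pair `(v, w)` gives the pairwise inequivalent
regular pairs `(v, w + i v)`, and a distinguishing colouring `c` gives the inequivalent `c + i`.
-/

set_option autoImplicit false

universe u v

namespace CfsgLib.CoprimeBase

open CfsgLib.BaseTwo

/-- A colouring with `p` colours whose stabiliser acts trivially. -/
def HasColour (p : ℕ) (G : Type u) [Group G] (Ω : Type v) [MulAction G Ω] : Prop :=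
  ∃ c : Ω → ZMod p, ∀ g : G, (∀ x, c (g • x) = c x) → ∀ x : Ω, g • x = x

/-- The statement for modules of exponent `p` of order below `N`. -/
def PairBelow (p N : ℕ) : Prop :=
  ∀ (A : Type u) [Group A] [Finite A], Group.IsSolvable A → ¬ p ∣ Nat.card A →
    ∀ (V : Type u) [AddCommGroup V] [Finite V] [DistribMulAction A V],
      (∀ v : V, p • v = 0) → Nat.card V < N → HasPair A V

variable {p : ℕ} [Fact p.Prime]

/-- An element of order prime to `p` fixes what its `p`-th power fixes. -/
theorem fixed_of_pow {G : Type u} [Group G] [Finite G] (hG : ¬ p ∣ Nat.card G) {X : Type v}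
    [MulAction G X] {g : G} {x : X} (h : g ^ p • x = x) : g • x = x := by
  have hcop : (orderOf g).Coprime p := by
    rw [Nat.coprime_comm, (Fact.out : p.Prime).coprime_iff_not_dvd]
    exact fun hd => hG (hd.trans (orderOf_dvd_natCard g))
  obtain ⟨m, hm⟩ := exists_pow_eq_self_of_coprime (x := g) hcop.symm
  have h1 : g ^ p ∈ MulAction.stabilizer G x := MulAction.mem_stabilizer_iff.2 h
  rw [← MulAction.mem_stabilizer_iff, ← hm]
  exact pow_mem h1 m

/-- A pair that only moves by a shift along `v` is fixed. -/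
theorem shift_pair {A : Type u} [Group A] [Finite A] (hA : ¬ p ∣ Nat.card A) {V : Type v}
    [AddCommGroup V] [DistribMulAction A V] (hexp : ∀ x : V, p • x = 0) {a : A} {v w d : V}
    (hv : a • v = v) (hd : a • d = d) (hw : a • w = w + d)
    (hreg : ∀ b : A, b • v = v → b • w = w → ∀ x : V, b • x = x) : (∀ x : V, a • x = x) ∧ d = 0 := by
  have hk : ∀ k : ℕ, a ^ k • w = w + k • d := by
    intro k
    induction k with
    | zero => simp
    | succ k ih =>
      have h1 : a ^ k • d = d := MulAction.mem_stabilizer_iff.1 (pow_mem (MulAction.mem_stabilizer_iff.2 hd) k)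
      rw [pow_succ, mul_smul, hw, smul_add, ih, h1, succ_nsmul, add_assoc]
  have hpv : a ^ p • v = v := MulAction.mem_stabilizer_iff.1 (pow_mem (MulAction.mem_stabilizer_iff.2 hv) p)
  have h : ∀ x : V, a • x = x := fun x => fixed_of_pow hA (hreg (a ^ p) hpv (by rw [hk, hexp, add_zero]) x)
  exact ⟨h, add_left_cancel (a := w) (by rw [← hw, h w, add_zero])⟩

/-- A regular pair gives `p` inequivalent ones. -/
theorem exists_pairs {A : Type u} [Group A] [Finite A] (hA : ¬ p ∣ Nat.card A) {V : Type v} [AddCommGroup V]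
    [DistribMulAction A V] [Nontrivial V] (hexp : ∀ x : V, p • x = 0) (h : HasPair A V) :
    ∃ P : ZMod p → V × V, (∀ i, ∀ a : A, a • P i = P i → ∀ x : V, a • x = x) ∧
      ∀ i j, ∀ a : A, a • P i = P j → i = j := by
  obtain ⟨v, w, hv0, hvw⟩ : ∃ v w : V, v ≠ 0 ∧ ∀ a : A, a • v = v → a • w = w → ∀ x : V, a • x = x := by
    obtain ⟨v, w, hvw⟩ := h
    by_cases hv : v = 0
    · by_cases hw : w = 0
      · obtain ⟨u, hu⟩ := exists_ne (0 : V)
        exact ⟨u, 0, hu, fun a _ _ => hvw a (by rw [hv, smul_zero]) (by rw [hw, smul_zero])⟩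
      · exact ⟨w, v, hw, fun a h1 h2 => hvw a h2 h1⟩
    · exact ⟨v, w, hv, hvw⟩
  refine ⟨fun i => (v, w + i.val • v), fun i a ha => ?_, fun i j a ha => ?_⟩
  · have h1 : a • v = v := congrArg Prod.fst ha
    have h2 : a • (w + i.val • v) = w + i.val • v := congrArg Prod.snd ha
    rw [smul_add, smul_comm a i.val v, h1, add_left_inj] at h2
    exact hvw a h1 h2
  · have h1 : a • v = v := congrArg Prod.fst ha
    have h2 : a • (w + i.val • v) = w + j.val • v := congrArg Prod.snd ha
    rw [smul_add, smul_comm a i.val v, h1, ← eq_sub_iff_add_eq, add_sub_assoc] at h2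
    obtain ⟨-, hd⟩ := shift_pair hA hexp h1 (by rw [smul_sub, smul_comm a j.val v, smul_comm a i.val v, h1]) h2 hvw
    rw [sub_eq_zero] at hd
    have hord : addOrderOf v = p := addOrderOf_eq_prime (hexp v) hv0
    have hmod := nsmul_eq_nsmul_iff_modEq.1 hd
    rw [hord] at hmod
    refine (ZMod.val_injective p ?_).symm
    rwa [Nat.ModEq, Nat.mod_eq_of_lt (ZMod.val_lt j), Nat.mod_eq_of_lt (ZMod.val_lt i)] at hmod

/-- A colouring that only moves by a constant is fixed. -/
theorem shift_colour {G : Type u} [Group G] [Finite G] (hG : ¬ p ∣ Nat.card G) {Ω : Type v} [MulAction G Ω]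
    (S : Set Ω) (F : Ω → ZMod p) {g : G} (hS : ∀ y ∈ S, g • y ∈ S) {δ : ZMod p}
    (hF : ∀ y ∈ S, F (g • y) = F y + δ)
    (hreg : ∀ h : G, (∀ y ∈ S, h • y ∈ S) → (∀ y ∈ S, F (h • y) = F y) → ∀ y ∈ S, h • y = y) :
    ∀ y ∈ S, g • y = y ∧ δ = 0 := by
  have hk : ∀ k : ℕ, ∀ y ∈ S, g ^ k • y ∈ S ∧ F (g ^ k • y) = F y + k * δ := by
    intro k
    induction k with
    | zero => intro y hy; simp [hy]
    | succ k ih =>
      intro y hy
      obtain ⟨h1, h2⟩ := ih y hy
      rw [pow_succ', mul_smul]
      exact ⟨hS _ h1, by rw [hF _ h1, h2]; push_cast; ring⟩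
  intro y hy
  have hfix : g • y = y := fixed_of_pow hG (hreg (g ^ p) (fun z hz => (hk p z hz).1)
    (fun z hz => by rw [(hk p z hz).2, ZMod.natCast_self, zero_mul, add_zero]) y hy)
  refine ⟨hfix, ?_⟩
  have := hF y hy
  rw [hfix] at this
  exact left_eq_add.1 this

end CfsgLib.CoprimeBase
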