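import Mathlib

/-!
# Linear groups of class two over the scalars and good pairs for their normalisers

`Ext N`: `N` contains the scalars, has scalar commutators and centre, and squarefree exponent modulo
scalars. `Good N H`: a pair whose fixer in `H` centralises `N`, in the form the induction needs.
-/

set_option autoImplicit false

universe u v

namespace CfsgLib.CoprimeBase

open scoped commutatorElement

variable {K : Type u} [Field K] {V : Type v} [AddCommGroup V] [Module K V]

/-- A map acting as a scalar. -/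
def IsScalar (g : V ≃ₗ[K] V) : Prop := ∃ a : K, ∀ v : V, g v = a • v

/-- The hypotheses on `N`. -/
structure Ext (N : Subgroup (V ≃ₗ[K] V)) : Prop where
  scalar_mem : ∀ g : V ≃ₗ[K] V, IsScalar g → g ∈ N
  comm : ∀ x ∈ N, ∀ y ∈ N, IsScalar ⁅x, y⁆
  centre : ∀ x ∈ N, (∀ y ∈ N, x * y = y * x) → IsScalar x
  sqfree : ∀ x ∈ N, ∀ r : ℕ, r.Prime → IsScalar (x ^ (r * r)) → IsScalar (x ^ r)

/-- The elements of `H` fixing both vectors centralise `N`. -/
def Reg (N H : Subgroup (V ≃ₗ[K] V)) (u u' : V) : Prop :=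
  ∀ g ∈ H, g u = u → g u' = u' → ∀ x ∈ N, g * x = x * g

/-- Only scalars of `N` fix the line of `u`. -/
def LineFree (N : Subgroup (V ≃ₗ[K] V)) (u : V) : Prop :=
  ∀ x ∈ N, ∀ a : K, x u = a • u → IsScalar x

/-- The second vector avoids the translates of the line of the first. -/
def Avoids (N : Subgroup (V ≃ₗ[K] V)) (u u' : V) : Prop :=
  ∀ x ∈ N, ∀ a : K, x u' ≠ a • u

/-- A pair that can be fed into the induction. -/
def Good (N H : Subgroup (V ≃ₗ[K] V)) : Prop :=
  ∃ u u' : V, u ≠ 0 ∧ Reg N H u u' ∧ LineFree N u ∧ Avoids N u u'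

/-- A group of order prime to `p` normalising `N`. -/
structure Acts (p : ℕ) (N H : Subgroup (V ≃ₗ[K] V)) : Prop where
  not_dvd : ¬ p ∣ Nat.card H
  normalises : ∀ g ∈ H, ∀ x ∈ N, g * x * g⁻¹ ∈ N

end CfsgLib.CoprimeBase
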