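import Mathlib
import Cfsg.Agent.Lib.FgsC.CoprimeBase.Data

/-!
# Scalars, commutation factors and powers in a linear group of class two over the scalars
-/

set_option autoImplicit false

universe u v

namespace CfsgLib.CoprimeBase

open scoped commutatorElement

variable {K : Type u} [Field K] {V : Type v} [AddCommGroup V] [Module K V]

/-- Multiplication by a unit. -/
def sc (a : Kˣ) : V ≃ₗ[K] V := LinearEquiv.smulOfUnit a

@[simp] theorem sc_apply (a : Kˣ) (v : V) : sc a v = (a : K) • v := rfl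

theorem isScalar_sc (a : Kˣ) : IsScalar (sc a : V ≃ₗ[K] V) := ⟨a, fun _ => rfl⟩

theorem isScalar_one : IsScalar (1 : V ≃ₗ[K] V) := ⟨1, fun v => (one_smul K v).symm⟩

theorem IsScalar.mul {g h : V ≃ₗ[K] V} (hg : IsScalar g) (hh : IsScalar h) : IsScalar (g * h) := by
  obtain ⟨a, ha⟩ := hg
  obtain ⟨b, hb⟩ := hh
  exact ⟨a * b, fun v => by rw [LinearEquiv.mul_apply, hb, ha, mul_smul]⟩

theorem IsScalar.comm {g : V ≃ₗ[K] V} (hg : IsScalar g) (h : V ≃ₗ[K] V) : g * h = h * g := by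
  obtain ⟨a, ha⟩ := hg
  exact LinearEquiv.ext fun v => by rw [LinearEquiv.mul_apply, LinearEquiv.mul_apply, ha, ha, map_smul]

theorem IsScalar.inv {g : V ≃ₗ[K] V} (hg : IsScalar g) : IsScalar g⁻¹ := by
  obtain ⟨a, ha⟩ := hg
  refine ⟨a⁻¹, fun v => ?_⟩
  by_cases ha0 : a = 0
  · have hz : ∀ x : V, x = 0 := fun x => g.map_eq_zero_iff.1 (by rw [ha, ha0, zero_smul])
    rw [hz (g⁻¹ v), hz (a⁻¹ • v)]
  · refine g.injective ?_
    rw [← LinearEquiv.mul_apply, mul_inv_cancel, ha, smul_smul, mul_inv_cancel₀ ha0, one_smul]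
    rfl

theorem IsScalar.pow {g : V ≃ₗ[K] V} (hg : IsScalar g) (k : ℕ) : IsScalar (g ^ k) := by
  induction k with
  | zero => exact isScalar_one
  | succ k ih => exact pow_succ g k ▸ ih.mul hg

theorem IsScalar.exists_unit [Nontrivial V] {g : V ≃ₗ[K] V} (hg : IsScalar g) : ∃ a : Kˣ, g = sc a := by
  obtain ⟨a, ha⟩ := hg
  have ha0 : a ≠ 0 := by
    rintro rfl
    obtain ⟨v, hv⟩ := exists_ne (0 : V)
    exact hv (g.map_eq_zero_iff.1 (by rw [ha, zero_smul]))
  exact ⟨Units.mk0 a ha0, LinearEquiv.ext fun v => ha v⟩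

/-- `x` and `y` commute up to the factor `ζ`. -/
def Twist (x y : V ≃ₗ[K] V) (ζ : K) : Prop := ∀ v : V, x (y v) = ζ • y (x v)

theorem twist_one_iff {x y : V ≃ₗ[K] V} : Twist x y 1 ↔ x * y = y * x := by
  constructor
  · exact fun h => LinearEquiv.ext fun v => (h v).trans (one_smul K _)
  · intro h v
    rw [one_smul]
    exact LinearEquiv.congr_fun h v

theorem twist_self (x : V ≃ₗ[K] V) : Twist x x 1 := twist_one_iff.2 rfl

theorem Twist.unique [Nontrivial V] {x y : V ≃ₗ[K] V} {a b : K} (h : Twist x y a) (h' : Twist x y b) : a = b := by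
  obtain ⟨v, hv⟩ := exists_ne (0 : V)
  exact smul_left_injective K (fun e => hv (x.map_eq_zero_iff.1 (y.map_eq_zero_iff.1 e)))
    ((h v).symm.trans (h' v))

theorem Twist.mul_right {x y z : V ≃ₗ[K] V} {a b : K} (h : Twist x y a) (h' : Twist x z b) :
    Twist x (y * z) (a * b) := fun v => by
  rw [LinearEquiv.mul_apply, LinearEquiv.mul_apply, h, h', map_smul, smul_smul]

theorem Twist.mul_left {x y z : V ≃ₗ[K] V} {a b : K} (h : Twist x z a) (h' : Twist y z b) :
    Twist (x * y) z (b * a) := fun v => by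
  rw [LinearEquiv.mul_apply, LinearEquiv.mul_apply, h', map_smul, h, smul_smul]

theorem Twist.pow_right {x y : V ≃ₗ[K] V} {a : K} (h : Twist x y a) (k : ℕ) : Twist x (y ^ k) (a ^ k) := by
  induction k with
  | zero => rw [pow_zero, pow_zero]; exact twist_one_iff.2 (by rw [one_mul, mul_one])
  | succ k ih => rw [pow_succ, pow_succ]; exact ih.mul_right h

theorem Twist.pow_left {x y : V ≃ₗ[K] V} {a : K} (h : Twist x y a) (k : ℕ) : Twist (x ^ k) y (a ^ k) := by
  induction k with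
  | zero => rw [pow_zero, pow_zero]; exact twist_one_iff.2 (by rw [one_mul, mul_one])
  | succ k ih => rw [pow_succ', pow_succ]; exact h.mul_left ih

theorem IsScalar.twist {g : V ≃ₗ[K] V} (hg : IsScalar g) (h : V ≃ₗ[K] V) : Twist g h 1 :=
  twist_one_iff.2 (hg.comm h)

theorem Twist.symm {x y : V ≃ₗ[K] V} {a : K} (h : Twist x y a) (ha : a ≠ 0) : Twist y x a⁻¹ := fun v => by
  rw [h v, smul_smul, inv_mul_cancel₀ ha, one_smul]

/-- Powers of a product of twisted elements. -/
theorem Twist.mul_pow {x y : V ≃ₗ[K] V} {a : K} (h : Twist y x a) (k : ℕ) (v : V) :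
    ((x * y) ^ k) v = a ^ k.choose 2 • (x ^ k) ((y ^ k) v) := by
  induction k generalizing v with
  | zero => simp
  | succ k ih =>
    rw [pow_succ, LinearEquiv.mul_apply, ih, LinearEquiv.mul_apply, pow_succ x, LinearEquiv.mul_apply,
      pow_succ y, LinearEquiv.mul_apply]
    rw [(h.pow_left k) (y v), map_smul, smul_smul, ← pow_add]
    congr 2
    rw [Nat.choose_succ_succ, Nat.choose_one_right]
    exact Nat.add_comm _ _

section Group

variable {N : Subgroup (V ≃ₗ[K] V)} (hN : Ext N)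
include hN

theorem Ext.sc_mem (a : Kˣ) : sc a ∈ N := hN.scalar_mem _ (isScalar_sc a)

/-- The commutation factor. -/
theorem Ext.exists_twist [Nontrivial V] {x y : V ≃ₗ[K] V} (hx : x ∈ N) (hy : y ∈ N) :
    ∃ a : K, a ≠ 0 ∧ Twist x y a := by
  obtain ⟨a, ha⟩ := (hN.comm x hx y hy).exists_unit
  refine ⟨a, a.ne_zero, fun v => ?_⟩
  have h := LinearEquiv.congr_fun ha (y (x v))
  rw [commutatorElement_def, sc_apply] at h
  simp only [LinearEquiv.mul_apply] at h
  rw [show y⁻¹ (y (x v)) = x v by rw [← LinearEquiv.mul_apply, inv_mul_cancel]; rfl,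
    show x⁻¹ (x v) = v by rw [← LinearEquiv.mul_apply, inv_mul_cancel]; rfl] at h
  exact h

/-- A non-scalar element is moved by some element. -/
theorem Ext.exists_partner [Nontrivial V] {x : V ≃ₗ[K] V} (hx : x ∈ N) (hns : ¬ IsScalar x) :
    ∃ y ∈ N, ∃ a : K, a ≠ 0 ∧ a ≠ 1 ∧ Twist x y a := by
  by_contra hcon
  push Not at hcon
  refine hns (hN.centre x hx fun y hy => ?_)
  obtain ⟨a, ha0, ha⟩ := hN.exists_twist hx hy
  rcases eq_or_ne a 1 with rfl | ha1
  · exact twist_one_iff.1 ha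
  · exact absurd ha (hcon y hy a ha0 ha1)

/-- An element killed by a power of `r` modulo scalars is killed by `r`. -/
theorem Ext.isScalar_pow_prime {r : ℕ} (hr : r.Prime) :
    ∀ (j : ℕ) (x : V ≃ₗ[K] V), x ∈ N → IsScalar (x ^ r ^ j) → IsScalar (x ^ r) := by
  intro j
  induction j with
  | zero => intro x _ h; rw [pow_zero, pow_one] at h; exact h.pow r
  | succ j ih =>
    intro x hx h
    rw [pow_succ', pow_mul] at h
    have h2 := ih (x ^ r) (N.pow_mem hx r) h
    rw [← pow_mul] at h2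
    exact hN.sqfree x hx r hr h2

/-- A non-scalar element has a non-scalar power of prime order modulo scalars. -/
theorem Ext.exists_prime_power [Finite V] {x : V ≃ₗ[K] V} (hx : x ∈ N) (hns : ¬ IsScalar x) :
    ∃ (r e : ℕ), r.Prime ∧ ¬ IsScalar (x ^ e) ∧ IsScalar ((x ^ e) ^ r) := by
  classical
  haveI : Finite (V ≃ₗ[K] V) := Finite.of_injective (fun f => (f : V → V)) DFunLike.coe_injective
  have hex : ∃ m, 0 < m ∧ IsScalar (x ^ m) :=
    ⟨orderOf x, orderOf_pos x, by rw [pow_orderOf_eq_one]; exact isScalar_one⟩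
  obtain ⟨hm0, hm⟩ := Nat.find_spec hex
  set m := Nat.find hex with hmdef
  have hm1 : m ≠ 1 := fun h => hns (by rw [h, pow_one] at hm; exact hm)
  obtain ⟨r, hr, hrm⟩ := Nat.exists_prime_and_dvd hm1
  refine ⟨r, m / r, hr, fun h => ?_, by rw [← pow_mul, Nat.div_mul_cancel hrm]; exact hm⟩
  have hlt : m / r < m := Nat.div_lt_self hm0 hr.one_lt
  exact Nat.find_min hex hlt ⟨Nat.div_pos (Nat.le_of_dvd hm0 hrm) hr.pos, h⟩

end Group

end CfsgLib.CoprimeBase
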