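import Mathlib
import Cfsg.Agent.Lib.FgsC.CoprimeBase.Linear

/-!
# An eigenvector pair or an anisotropic quaternion pair

A non-scalar group of class two over the scalars contains `w` with `w ^ r = 1` twisted with some `t` by
a primitive `r`-th root of unity, unless it is, modulo scalars, a four group without eigenvectors.
-/

set_option autoImplicit false

universe u v

namespace CfsgLib.CoprimeBase

variable {K : Type u} [Field K] {V : Type v} [AddCommGroup V] [Module K V]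

/-- A split pair. -/
structure Split (N : Subgroup (V ≃ₗ[K] V)) (r : ℕ) (w t : V ≃ₗ[K] V) (ζ τ : K) : Prop where
  prime : r.Prime
  hw : w ∈ N
  ht : t ∈ N
  root : IsPrimitiveRoot ζ r
  wr : w ^ r = 1
  tr : ∀ v : V, (t ^ r) v = τ • v
  twist : Twist w t ζ

/-- An anisotropic pair exhausting `N`. -/
structure Aniso (N : Subgroup (V ≃ₗ[K] V)) (n t : V ≃ₗ[K] V) : Prop where
  hn : n ∈ N
  ht : t ∈ N
  n2 : ∀ v : V, n (n v) = -v
  t2 : ∀ v : V, t (t v) = -v
  anti : Twist n t (-1)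
  nonsq : ¬ IsSquare (-1 : K)
  exhaust : ∀ x ∈ N, ∃ a : Kˣ, x = sc a ∨ x = sc a * n ∨ x = sc a * t ∨ x = sc a * (n * t)

/-- Power classes of the multiplicative group are cyclic. -/
theorem exists_pow_class [Finite K] {r : ℕ} (hr : r.Prime) {l : Kˣ} (hl : ¬ ∃ ν : Kˣ, ν ^ r = l) (m : Kˣ) :
    ∃ j < r, ∃ ν : Kˣ, ν ^ r = m * l ^ j := by
  obtain ⟨g, hg⟩ := IsCyclic.exists_generator (α := Kˣ)
  obtain ⟨a, rfl⟩ : ∃ a : ℕ, g ^ a = l := (IsOfFinOrder.mem_powers_iff_mem_zpowers (isOfFinOrder_of_finite g)).2 (hg l)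
  obtain ⟨b, rfl⟩ : ∃ b : ℕ, g ^ b = m := (IsOfFinOrder.mem_powers_iff_mem_zpowers (isOfFinOrder_of_finite g)).2 (hg m)
  haveI : Fact r.Prime := ⟨hr⟩
  have ha : (a : ZMod r) ≠ 0 := fun h => by
    obtain ⟨c, rfl⟩ := (ZMod.natCast_eq_zero_iff a r).1 h
    exact hl ⟨g ^ c, by rw [← pow_mul, mul_comm]⟩
  refine ⟨(-(b : ZMod r) / a).val, ZMod.val_lt _, ?_⟩
  have h0 : ((b + a * (-(b : ZMod r) / a).val : ℕ) : ZMod r) = 0 := by
    rw [Nat.cast_add, Nat.cast_mul, ZMod.natCast_zmod_val, mul_div_cancel₀ _ ha, add_neg_cancel]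
  obtain ⟨c, hc⟩ := (ZMod.natCast_eq_zero_iff _ r).1 h0
  exact ⟨g ^ c, by rw [← pow_mul, mul_comm, ← hc, pow_add, pow_mul]⟩

theorem pow_scale {x : V ≃ₗ[K] V} {r : ℕ} {l ν : Kˣ} (hx : ∀ v : V, (x ^ r) v = (l : K) • v) (hν : ν ^ r = l)
    (v : V) : ((sc ν⁻¹ * x : V ≃ₗ[K] V) ^ r) v = v := by
  have hc : Commute (sc ν⁻¹ : V ≃ₗ[K] V) x := (isScalar_sc ν⁻¹).comm x
  rw [hc.mul_pow, LinearEquiv.mul_apply, hx]
  have h : ∀ (k : ℕ) (v : V), ((sc ν⁻¹ : V ≃ₗ[K] V) ^ k) v = ((ν⁻¹ ^ k : Kˣ) : K) • v := by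
    intro k
    induction k with
    | zero => simp
    | succ k ih =>
      intro v
      rw [pow_succ, pow_succ, LinearEquiv.mul_apply, ih, sc_apply, smul_smul, Units.val_mul]
  rw [h, smul_smul, ← Units.val_mul, inv_pow, hν, inv_mul_cancel, Units.val_one, one_smul]

variable {N : Subgroup (V ≃ₗ[K] V)} (hN : Ext N) [Nontrivial V] [Finite V]
include hN

/-- A partner of prime order modulo scalars. -/
theorem exists_twisted {x : V ≃ₗ[K] V} (hx : x ∈ N) (hns : ¬ IsScalar x) {r : ℕ} (hr : r.Prime)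
    (hxr : IsScalar (x ^ r)) :
    ∃ t ∈ N, ∃ ζ : K, IsPrimitiveRoot ζ r ∧ Twist x t ζ ∧ IsScalar (t ^ r) := by
  classical
  haveI : Finite (V ≃ₗ[K] V) := Finite.of_injective (fun f => (f : V → V)) DFunLike.coe_injective
  obtain ⟨y, hy, a, -, ha1, ha⟩ := hN.exists_partner hx hns
  haveI : Fact r.Prime := ⟨hr⟩
  have har : a ^ r = 1 := (ha.pow_left r).unique (hxr.twist y)
  have hprim : IsPrimitiveRoot a r := by
    rw [IsPrimitiveRoot.iff_orderOf]
    exact orderOf_eq_prime har ha1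
  have hae : a ^ orderOf y = 1 := by
    refine (ha.pow_right (orderOf y)).unique ?_
    rw [pow_orderOf_eq_one]
    exact twist_one_iff.2 (by rw [one_mul, mul_one])
  obtain ⟨j, f, hf, he⟩ := Nat.exists_eq_pow_mul_and_not_dvd (orderOf_pos y).ne' r hr.ne_one
  refine ⟨y ^ f, N.pow_mem hy f, a ^ f, hprim.pow_of_coprime f ?_, ha.pow_right f,
    hN.isScalar_pow_prime hr j _ (N.pow_mem hy f) ?_⟩
  · exact ((hr.coprime_iff_not_dvd).2 hf).symm
  · rw [← pow_mul, mul_comm, ← he, pow_orderOf_eq_one]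
    exact isScalar_one

/-- Splitting off a twisted pair. -/
theorem split_or_root [Finite K] {x : V ≃ₗ[K] V} (hx : x ∈ N) {t : V ≃ₗ[K] V} (ht : t ∈ N) {r : ℕ}
    (hr : r.Prime) {ζ : K} (hζ : IsPrimitiveRoot ζ r) (htw : Twist x t ζ) {l m : Kˣ}
    (hl : ∀ v : V, (x ^ r) v = (l : K) • v) (hm : ∀ v : V, (t ^ r) v = (m : K) • v) :
    (∃ r' w' t' ζ' τ', Split N r' w' t' ζ' τ') ∨
      ((¬ ∃ ν : Kˣ, ν ^ r = l) ∧ ¬ ∃ ν : K, ν ^ r = ζ ^ r.choose 2) := by
  by_cases hlp : ∃ ν : Kˣ, ν ^ r = l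
  · obtain ⟨ν, hν⟩ := hlp
    refine Or.inl ⟨r, sc ν⁻¹ * x, t, ζ, m, hr, N.mul_mem (hN.sc_mem _) hx, ht, hζ,
      LinearEquiv.ext (pow_scale hl hν), hm, ?_⟩
    have := ((isScalar_sc (V := V) ν⁻¹).twist t).mul_left htw
    rwa [mul_one] at this
  by_cases hε : ∃ ν : K, ν ^ r = ζ ^ r.choose 2
  · obtain ⟨ε, hε⟩ := hε
    obtain ⟨j, -, ν, hν⟩ := exists_pow_class hr hlp m
    have hε0 : ε ≠ 0 := by
      rintro rfl
      rw [zero_pow hr.pos.ne'] at hε
      exact pow_ne_zero _ (hζ.ne_zero hr.pos.ne') hε.symm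
    have hν' : (ν * Units.mk0 ε hε0 ^ j) ^ r = Units.mk0 (ζ ^ r.choose 2) (pow_ne_zero _ (hζ.ne_zero hr.pos.ne')) ^ j * (m * l ^ j) := by
      rw [mul_pow, hν, mul_comm, ← pow_mul, mul_comm j r, pow_mul]
      congr 2
      exact Units.ext (by simpa using hε)
    have hpow : ∀ v : V, ((t * x ^ j) ^ r) v =
        ((Units.mk0 (ζ ^ r.choose 2) (pow_ne_zero _ (hζ.ne_zero hr.pos.ne')) ^ j * (m * l ^ j) : Kˣ) : K) • v := by
      intro v
      rw [(htw.pow_left j).mul_pow r v, ← pow_mul x, mul_comm j r, pow_mul x, ← pow_mul ζ]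
      have h1 : ∀ (k : ℕ) (v : V), ((x ^ r) ^ k) v = ((l : K) ^ k) • v := by
        intro k
        induction k with
        | zero => simp
        | succ k ih =>
          intro v
          rw [pow_succ, pow_succ, LinearEquiv.mul_apply, ih, hl, smul_smul]
      rw [h1, map_smul, hm, smul_smul, smul_smul]
      congr 1
      push_cast
      rw [mul_comm j, pow_mul]
      simp only [Units.val_mk0]
      ring
    refine Or.inl ⟨r, sc (ν * Units.mk0 ε hε0 ^ j)⁻¹ * (t * x ^ j), x, ζ⁻¹, l, hr,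
      N.mul_mem (hN.sc_mem _) (N.mul_mem ht (N.pow_mem hx j)), hx, hζ.inv,
      LinearEquiv.ext (pow_scale hpow hν'), hl, ?_⟩
    have h1 : Twist (t * x ^ j) x ζ⁻¹ := by
      have h2 := (htw.symm (hζ.ne_zero hr.pos.ne')).mul_left ((twist_self x).pow_left j)
      rwa [one_pow, one_mul] at h2
    have := ((isScalar_sc (V := V) (ν * Units.mk0 ε hε0 ^ j)⁻¹).twist x).mul_left h1
    rwa [mul_one] at this
  exact Or.inr ⟨hlp, hε⟩

/-- Every non-scalar element of prime order modulo scalars is anisotropic unless there is a split pair. -/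
theorem aniso_of_no_split [Finite K] (hno : ¬ ∃ r w t ζ τ, Split N r w t ζ τ) {x : V ≃ₗ[K] V} (hx : x ∈ N)
    (hns : ¬ IsScalar x) {r : ℕ} (hr : r.Prime) (hxr : IsScalar (x ^ r)) :
    r = 2 ∧ ¬ IsSquare (-1 : K) ∧ ∃ n : V ≃ₗ[K] V, n ∈ N ∧ (∀ v : V, n (n v) = -v) ∧
      ∃ a : Kˣ, x = sc a * n := by
  obtain ⟨t, ht, ζ, hζ, htw, htr⟩ := exists_twisted hN hx hns hr hxr
  obtain ⟨l, hl⟩ := hxr.exists_unit
  obtain ⟨m, hm⟩ := htr.exists_unit
  obtain h | ⟨hlp, hε⟩ := split_or_root hN hx ht hr hζ htw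
    (fun v => by rw [hl]; rfl) (fun v => by rw [hm]; rfl)
  · exact absurd h hno
  have hr2 : r = 2 := by
    by_contra hne
    have hodd := hr.odd_of_ne_two hne
    obtain ⟨k, hk⟩ := hodd
    refine hε ⟨1, ?_⟩
    rw [one_pow, show r.choose 2 = r * k by
        rw [Nat.choose_two_right, hk, Nat.add_sub_cancel, mul_left_comm, Nat.mul_div_cancel_left _ two_pos],
      pow_mul, hζ.pow_eq_one, one_pow]
  subst hr2
  have hζ' : ζ = -1 := hζ.eq_neg_one_of_two_right
  have hsq : ¬ IsSquare (-1 : K) := fun ⟨ν, hν⟩ => hε ⟨ν, by rw [hζ', Nat.choose_self, pow_one, hν, pow_two]⟩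
  refine ⟨rfl, hsq, ?_⟩
  obtain ⟨j, hj, ν, hν⟩ := exists_pow_class Nat.prime_two hlp (-1)
  interval_cases j
  · refine absurd ⟨(ν : K), ?_⟩ hsq
    rw [← pow_two, ← Units.val_pow_eq_pow_val, hν]
    simp
  refine ⟨sc ν⁻¹ * x, N.mul_mem (hN.sc_mem _) hx, fun v => ?_, ν, ?_⟩
  · rw [LinearEquiv.mul_apply, LinearEquiv.mul_apply, sc_apply, sc_apply, map_smul,
      show x (x v) = (l : K) • v by rw [← LinearEquiv.mul_apply, ← pow_two, hl]; rfl, smul_smul, smul_smul]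
    have h2 : (l : K) = -((ν : K) * ν) := by
      have := congrArg (fun z : Kˣ => (z : K)) hν
      simp [pow_two] at this
      rw [this, neg_neg]
    rw [h2]
    have : ((ν⁻¹ : Kˣ) : K) * ν = 1 := by rw [← Units.val_mul, inv_mul_cancel, Units.val_one]
    rw [show ((ν⁻¹ : Kˣ) : K) * ((ν⁻¹ : Kˣ) : K) * -((ν : K) * ν) = -((((ν⁻¹ : Kˣ) : K) * ν) * (((ν⁻¹ : Kˣ) : K) * ν)) by ring,
      this, one_mul, neg_one_smul]
  · rw [← mul_assoc]
    refine LinearEquiv.ext fun v => ?_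
    rw [LinearEquiv.mul_apply, LinearEquiv.mul_apply, sc_apply, sc_apply, smul_smul, ← Units.val_mul,
      mul_inv_cancel, Units.val_one, one_smul]

/-- A non-scalar group has a split pair or is anisotropic. -/
theorem split_or_aniso [Finite K] (hns : ∃ x ∈ N, ¬ IsScalar x) :
    (∃ r w t ζ τ, Split N r w t ζ τ) ∨ ∃ n t, Aniso N n t := by
  classical
  by_cases hno : ∃ r w t ζ τ, Split N r w t ζ τ
  · exact Or.inl hno
  refine Or.inr ?_
  obtain ⟨x, hx, hxns⟩ := hns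
  obtain ⟨r, e, hr, he, her⟩ := hN.exists_prime_power hx hxns
  obtain ⟨rfl, hsq, n, hn, hn2, a, hna⟩ := aniso_of_no_split hN hno (N.pow_mem hx e) he hr her
  have hscn : ∀ {m : V ≃ₗ[K] V}, (∀ v : V, m (m v) = -v) → IsScalar (m ^ 2) := fun {m} h =>
    ⟨-1, fun v => by rw [pow_two, LinearEquiv.mul_apply, h, neg_one_smul]⟩
  have hnns : ¬ IsScalar n := fun h => he (hna ▸ (isScalar_sc a).mul h)
  obtain ⟨t0, ht0, ζ, hζ, htw, ht0r⟩ := exists_twisted hN hn hnns Nat.prime_two (hscn hn2)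
  have hζ' : ζ = -1 := hζ.eq_neg_one_of_two_right
  subst hζ'
  have h11 : (-1 : K) ≠ 1 := fun h => hsq ⟨1, by rw [h, mul_one]⟩
  have ht0ns : ¬ IsScalar t0 := fun h => h11 (htw.unique (twist_one_iff.2 (h.comm n).symm))
  obtain ⟨-, -, t, ht, ht2, b, htb⟩ := aniso_of_no_split hN hno ht0 ht0ns Nat.prime_two ht0r
  have hanti : Twist n t (-1) := fun v => by
    have h1 := htw v
    rw [htb, LinearEquiv.mul_apply, LinearEquiv.mul_apply, sc_apply, sc_apply, map_smul, smul_comm (-1 : K)] at h1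
    exact (smul_right_injective V b.ne_zero) h1
  -- nothing else commutes with the pair
  have hcent : ∀ z ∈ N, Twist z n 1 → Twist z t 1 → IsScalar z := by
    intro z hz hzn hzt
    by_contra hzns
    obtain ⟨r, e, hr, he, her⟩ := hN.exists_prime_power hz hzns
    obtain ⟨rfl, -, y, hy, hy2, c, hyc⟩ := aniso_of_no_split hN hno (N.pow_mem hz e) he hr her
    have hy1 : ∀ m : V ≃ₗ[K] V, Twist z m 1 → Twist y m 1 := fun m hm v => by
      have h1 := (hm.pow_left e) v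
      rw [hyc, one_pow, LinearEquiv.mul_apply, LinearEquiv.mul_apply, sc_apply, sc_apply, map_smul, one_smul] at h1
      rw [one_smul]
      exact smul_right_injective V c.ne_zero h1
    have hyn := hy1 n hzn
    have hyt := hy1 t hzt
    have hsq1 : (y * n) ^ 2 = 1 := LinearEquiv.ext fun v => by
      rw [pow_two, LinearEquiv.mul_apply, LinearEquiv.mul_apply, LinearEquiv.mul_apply,
        (hyn v), one_smul, hn2, map_neg, hy2, neg_neg]
      rfl
    have hns' : ¬ IsScalar (y * n) := fun h => h11 ((hyt.mul_left hanti).unique (twist_one_iff.2 (h.comm t)) |> fun h2 => by simpa using h2)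
    obtain ⟨-, -, w, -, hw2, c', hwc⟩ := aniso_of_no_split hN hno (N.mul_mem hy hn) hns' Nat.prime_two
      (by rw [hsq1]; exact isScalar_one)
    obtain ⟨v, hv⟩ := exists_ne (0 : V)
    have h1 := LinearEquiv.congr_fun hsq1 v
    rw [hwc, pow_two, LinearEquiv.mul_apply, LinearEquiv.mul_apply, LinearEquiv.mul_apply, sc_apply, sc_apply,
      map_smul, hw2, smul_smul, smul_neg, ← neg_smul] at h1
    refine hsq ⟨((c'⁻¹ : Kˣ) : K), ?_⟩
    have h2 : -((c' : K) * c') = 1 := smul_left_injective K hv (h1.trans (one_smul K v).symm)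
    have h3 : ((c'⁻¹ : Kˣ) : K) * c' = 1 := by rw [← Units.val_mul, inv_mul_cancel, Units.val_one]
    linear_combination (((c'⁻¹ : Kˣ) : K) * ((c'⁻¹ : Kˣ) : K)) * h2 + (((c'⁻¹ : Kˣ) : K) * c' + 1) * h3
  refine ⟨n, t, hn, ht, hn2, ht2, hanti, hsq, fun x hx => ?_⟩
  have hsign : ∀ m ∈ N, (∀ v : V, m (m v) = -v) → Twist x m 1 ∨ Twist x m (-1) := by
    intro m hm hm2
    obtain ⟨c, -, hc⟩ := hN.exists_twist hx hm
    have h1 := (hc.pow_right 2).unique (twist_one_iff.2 ((hscn hm2).comm x).symm)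
    rcases sq_eq_one_iff.1 h1 with rfl | rfl
    · exact Or.inl hc
    · exact Or.inr hc
  have hnn : Twist n n 1 := twist_self n
  have htt : Twist t t 1 := twist_self t
  have htn : Twist t n (-1) := by simpa using hanti.symm (by simp)
  have hinv : ∀ (z m : V ≃ₗ[K] V) (c : Kˣ), z * m = sc c → (∀ v : V, m (m v) = -v) → z = sc (-c) * m := by
    intro z m c h h2
    refine LinearEquiv.ext fun v => ?_
    have h3 := LinearEquiv.congr_fun h (-(m v))
    rw [LinearEquiv.mul_apply, map_neg, h2, neg_neg, sc_apply, smul_neg, ← neg_smul] at h3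
    rw [h3, LinearEquiv.mul_apply, sc_apply, Units.val_neg]
  rcases hsign n hn hn2 with ha | ha <;> rcases hsign t ht ht2 with hb | hb
  · obtain ⟨c, hc⟩ := (hcent x hx ha hb).exists_unit
    exact ⟨c, Or.inl hc⟩
  · obtain ⟨c, hc⟩ := (hcent _ (N.mul_mem hx hn) (by simpa using ha.mul_left hnn)
      (by simpa using hb.mul_left hanti)).exists_unit
    exact ⟨-c, Or.inr (Or.inl (hinv x n c hc hn2))⟩
  · obtain ⟨c, hc⟩ := (hcent _ (N.mul_mem hx ht) (by simpa using ha.mul_left htn)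
      (by simpa using hb.mul_left htt)).exists_unit
    exact ⟨-c, Or.inr (Or.inr (Or.inl (hinv x t c hc ht2)))⟩
  · obtain ⟨c, hc⟩ := (hcent _ (N.mul_mem hx (N.mul_mem hn ht)) (by simpa using ha.mul_left (hnn.mul_left htn))
      (by simpa using hb.mul_left (hanti.mul_left htt))).exists_unit
    refine ⟨-c, Or.inr (Or.inr (Or.inr (hinv x (n * t) c hc fun v => ?_)))⟩
    rw [LinearEquiv.mul_apply, LinearEquiv.mul_apply, htn (t v), map_smul, hn2, ht2]
    simp

end CfsgLib.CoprimeBase
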