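import Mathlib
import Cfsg.Agent.Lib.FgsC.CoprimeBase.Split

/-!
# The eigenspace of a split pair and the groups induced on it

For a split pair `(w, t)` the space is the sum of the `t ^ i` translates of the fixed space of `w`, and
the elements of `N` commuting with `w` and `t` induce there a group with the same hypotheses.
-/

set_option autoImplicit false

universe u v

namespace CfsgLib.CoprimeBase

variable {K : Type u} [Field K] {V : Type v} [AddCommGroup V] [Module K V]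

/-- The fixed space. -/
def eig (w : V ≃ₗ[K] V) : Submodule K V where
  carrier := {v | w v = v}
  zero_mem' := map_zero w
  add_mem' {a b} (ha : w a = a) (hb : w b = b) := show w (a + b) = a + b by rw [map_add, ha, hb]
  smul_mem' c v (hv : w v = v) := show w (c • v) = c • v by rw [map_smul, hv]

theorem mem_eig {w : V ≃ₗ[K] V} {v : V} : v ∈ eig w ↔ w v = v := Iff.rfl

theorem apply_inv (g : V ≃ₗ[K] V) (v : V) : g (g⁻¹ v) = v := by
  rw [← LinearEquiv.mul_apply, mul_inv_cancel]; rfl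

theorem inv_apply_self (g : V ≃ₗ[K] V) (v : V) : g⁻¹ (g v) = v := by
  rw [← LinearEquiv.mul_apply, inv_mul_cancel]; rfl

theorem pow_apply_eig {w : V ≃ₗ[K] V} {x : V} {μ : K} (h : w x = μ • x) (k : ℕ) : (w ^ k) x = μ ^ k • x := by
  induction k with
  | zero => simp
  | succ k ih => rw [pow_succ', LinearEquiv.mul_apply, ih, map_smul, h, smul_smul, pow_succ]

theorem sum_pow_eq_zero {q : K} {r : ℕ} (hq1 : q ≠ 1) (hqr : q ^ r = 1) : ∑ k ∈ Finset.range r, q ^ k = 0 := by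
  rw [geom_sum_eq hq1, hqr, sub_self, zero_div]

namespace Split

variable {N : Subgroup (V ≃ₗ[K] V)} {r : ℕ} {w t : V ≃ₗ[K] V} {ζ τ : K} (hs : Split N r w t ζ τ)
include hs

theorem zeta_ne_zero : ζ ≠ 0 := hs.root.ne_zero hs.prime.pos.ne'

theorem cast_ne_zero : (r : K) ≠ 0 := fun h => by
  haveI : Fact r.Prime := ⟨hs.prime⟩
  obtain ⟨p, hp⟩ := CharP.exists K
  have hpr : p = r := by
    rcases (Nat.dvd_prime hs.prime).1 ((CharP.cast_eq_zero_iff K p r).1 h) with h1 | h1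
    · exact absurd h1 (CharP.char_ne_one K p)
    · exact h1
  subst hpr
  haveI := hp
  have h1 := sub_pow_char (R := K) (p := p) ζ 1
  rw [hs.root.pow_eq_one, one_pow, sub_self] at h1
  exact hs.root.ne_one hs.prime.one_lt (sub_eq_zero.1 ((pow_eq_zero_iff hs.prime.pos.ne').1 h1))

theorem twist_tw (k : ℕ) : Twist w (t ^ k) (ζ ^ k) := hs.twist.pow_right k

theorem w_tpow {v : V} (hv : v ∈ eig w) (i : ℕ) : w ((t ^ i) v) = ζ ^ i • (t ^ i) v := by
  rw [hs.twist_tw i v, mem_eig.1 hv]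

theorem t_pow_r (v : V) : (t ^ r) v = τ • v := hs.tr v

theorem tau_ne_zero [Nontrivial V] : τ ≠ 0 := by
  rintro rfl
  obtain ⟨v, hv⟩ := exists_ne (0 : V)
  exact hv ((t ^ r).map_eq_zero_iff.1 (by rw [hs.t_pow_r, zero_smul]))

theorem tpow_mod (i : ℕ) (v : V) : (t ^ i) v = τ ^ (i / r) • (t ^ (i % r)) v := by
  conv_lhs => rw [← Nat.div_add_mod i r, pow_add, pow_mul, LinearEquiv.mul_apply,
    pow_apply_eig (hs.t_pow_r ((t ^ (i % r)) v))]

end Split

/-- The component of a vector in the `ζ ^ i` eigenspace of `w`. -/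
noncomputable def cp (r : ℕ) (w : V ≃ₗ[K] V) (ζ : K) (i : ℕ) : V →ₗ[K] V :=
  (r : K)⁻¹ • ∑ k ∈ Finset.range r, ((ζ ^ i)⁻¹) ^ k • ((w ^ k : V ≃ₗ[K] V) : V →ₗ[K] V)

theorem cp_apply (r : ℕ) (w : V ≃ₗ[K] V) (ζ : K) (i : ℕ) (v : V) :
    cp r w ζ i v = (r : K)⁻¹ • ∑ k ∈ Finset.range r, ((ζ ^ i)⁻¹) ^ k • (w ^ k) v := by
  simp [cp, LinearMap.sum_apply]

namespace Split

variable {N : Subgroup (V ≃ₗ[K] V)} {r : ℕ} {w t : V ≃ₗ[K] V} {ζ τ : K} (hs : Split N r w t ζ τ)
include hs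

theorem cp_eigen {j : ℕ} {x : V} (hx : w x = ζ ^ j • x) (hj : j < r) {i : ℕ} (hi : i < r) :
    cp r w ζ i x = if i = j then x else 0 := by
  have hz := hs.zeta_ne_zero
  rw [cp_apply]
  simp only [pow_apply_eig hx, smul_smul, ← mul_pow, ← Finset.sum_smul]
  split_ifs with hij
  · subst hij
    simp [inv_mul_cancel₀ (pow_ne_zero i hz), hs.cast_ne_zero]
  · rw [sum_pow_eq_zero ?_ ?_, mul_zero, zero_smul]
    · intro h
      rw [inv_mul_eq_one₀ (pow_ne_zero _ hz)] at h
      exact hij (hs.root.pow_inj hi hj h)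
    · rw [mul_pow, inv_pow, ← pow_mul, ← pow_mul, mul_comm i, mul_comm j, pow_mul, pow_mul, hs.root.pow_eq_one,
        one_pow, one_pow, inv_one, one_mul]

theorem cp_tpow {v : V} (hv : v ∈ eig w) {i j : ℕ} (hj : j < r) (hi : i < r) :
    cp r w ζ i ((t ^ j) v) = if i = j then (t ^ j) v else 0 := hs.cp_eigen (hs.w_tpow hv j) hj hi

/-- The component of any translate. -/
theorem cp_tpow_any {v : V} (hv : v ∈ eig w) (j : ℕ) {i : ℕ} (hi : i < r) :
    cp r w ζ i ((t ^ j) v) = if i = j % r then (t ^ j) v else 0 := by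
  rw [hs.tpow_mod j v, map_smul, hs.cp_tpow hv (Nat.mod_lt _ hs.prime.pos) hi]
  split_ifs <;> simp

theorem w_cp (i : ℕ) (v : V) : w (cp r w ζ i v) = ζ ^ i • cp r w ζ i v := by
  have hz := pow_ne_zero i hs.zeta_ne_zero
  have hq : ((ζ ^ i)⁻¹) ^ r = 1 := by
    rw [inv_pow, ← pow_mul, mul_comm, pow_mul, hs.root.pow_eq_one, one_pow, inv_one]
  rw [cp_apply, map_smul, map_sum, smul_comm (ζ ^ i)]
  congr 1
  have h1 := Finset.sum_range_succ' (fun k => ((ζ ^ i)⁻¹) ^ k • (w ^ k) v) r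
  rw [Finset.sum_range_succ, hq, hs.wr, pow_zero, pow_zero] at h1
  rw [add_right_cancel h1, Finset.smul_sum]
  refine Finset.sum_congr rfl fun k _ => ?_
  rw [map_smul, ← LinearEquiv.mul_apply, ← pow_succ', smul_smul, pow_succ' ((ζ ^ i)⁻¹), ← mul_assoc,
    mul_inv_cancel₀ hz, one_mul]

theorem sum_cp (v : V) : ∑ i ∈ Finset.range r, cp r w ζ i v = v := by
  simp only [cp_apply, ← Finset.smul_sum]
  rw [Finset.sum_comm]
  simp only [← Finset.sum_smul]
  rw [Finset.sum_eq_single 0]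
  · simp [hs.cast_ne_zero]
  · intro k hk hk0
    rw [show ∑ i ∈ Finset.range r, ((ζ ^ i)⁻¹) ^ k = ∑ i ∈ Finset.range r, ((ζ ^ k)⁻¹) ^ i from
      Finset.sum_congr rfl fun i _ => by simp only [inv_pow, ← pow_mul, mul_comm i k],
      sum_pow_eq_zero ?_ ?_, zero_smul]
    · intro h
      rw [inv_eq_one] at h
      exact hs.root.pow_ne_one_of_pos_of_lt hk0 (Finset.mem_range.1 hk) h
    · rw [inv_pow, ← pow_mul, mul_comm, pow_mul, hs.root.pow_eq_one, one_pow, inv_one]
  · intro h; exact absurd (Finset.mem_range.2 hs.prime.pos) h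

theorem inv_tpow_cp_mem (i : ℕ) (v : V) : (t ^ i)⁻¹ (cp r w ζ i v) ∈ eig w := by
  have h := hs.w_cp i v
  rw [← apply_inv (t ^ i) (cp r w ζ i v), hs.twist_tw i] at h
  rw [mem_eig]
  exact (t ^ i).injective (smul_right_injective V (pow_ne_zero i hs.zeta_ne_zero) h)

theorem dim_eq [Finite V] : Module.finrank K V = r * Module.finrank K (eig w) := by
  let Φ : (Fin r → eig w) →ₗ[K] V :=
    ∑ i : Fin r, ((t ^ (i : ℕ) : V ≃ₗ[K] V) : V →ₗ[K] V) ∘ₗ (eig w).subtype ∘ₗ LinearMap.proj i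
  have hΦ : ∀ f, Φ f = ∑ i : Fin r, (t ^ (i : ℕ)) (f i : V) := fun f => by simp [Φ, LinearMap.sum_apply]
  have hb : Function.Bijective Φ := by
    constructor
    · rw [← LinearMap.ker_eq_bot, LinearMap.ker_eq_bot']
      intro f hf
      rw [hΦ] at hf
      funext i
      have h1 := congrArg (cp r w ζ (i : ℕ)) hf
      rw [map_sum, map_zero, Finset.sum_eq_single i] at h1
      · rw [hs.cp_tpow (f i).2 i.2 i.2, if_pos rfl] at h1
        exact Subtype.ext ((t ^ (i : ℕ)).map_eq_zero_iff.1 h1)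
      · intro j _ hj
        rw [hs.cp_tpow (f j).2 j.2 i.2, if_neg (fun e => hj (Fin.ext e).symm)]
      · intro h; exact absurd (Finset.mem_univ i) h
    · intro v
      refine ⟨fun i => ⟨(t ^ (i : ℕ))⁻¹ (cp r w ζ i v), hs.inv_tpow_cp_mem _ v⟩, ?_⟩
      rw [hΦ]
      simp only [apply_inv]
      rw [Fin.sum_univ_eq_sum_range fun i => cp r w ζ i v]
      exact hs.sum_cp v
  haveI : Module.Free K (eig w) := Module.Free.of_divisionRing K _
  haveI : Module.Finite K (eig w) := Module.Finite.of_finite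
  rw [← (LinearEquiv.ofBijective Φ hb).finrank_eq, Module.finrank_pi_fintype, Finset.sum_const,
    Finset.card_univ, Fintype.card_fin, smul_eq_mul]

theorem finrank_lt [Finite V] [Nontrivial V] : Module.finrank K (eig w) < Module.finrank K V := by
  haveI : Module.Finite K V := Module.Finite.of_finite
  have h := hs.dim_eq
  have h0 : 0 < Module.finrank K V := Module.finrank_pos
  have h2 := hs.prime.two_le
  rcases Nat.eq_zero_or_pos (Module.finrank K (eig w)) with h1 | h1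
  · omega
  · nlinarith

theorem eig_nontrivial [Finite V] [Nontrivial V] : Nontrivial (eig w) := by
  haveI : Module.Finite K V := Module.Finite.of_finite
  refine Module.nontrivial_of_finrank_pos (R := K) ?_
  have h := hs.dim_eq
  have h0 : 0 < Module.finrank K V := Module.finrank_pos
  rw [h] at h0
  exact Nat.pos_of_mul_pos_left h0

/-- An element commuting with `t` is determined on the fixed space. -/
theorem eq_of_agree {x y : V ≃ₗ[K] V} (hx : x * t = t * x) (hy : y * t = t * y)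
    (h : ∀ a ∈ eig w, x a = y a) : x = y := LinearEquiv.ext fun v => by
  rw [← hs.sum_cp v, map_sum, map_sum]
  refine Finset.sum_congr rfl fun i _ => ?_
  have hc : ∀ {z : V ≃ₗ[K] V}, z * t = t * z → ∀ a, z ((t ^ i) a) = (t ^ i) (z a) := fun {z} hz a =>
    LinearEquiv.congr_fun ((show Commute z t from hz).pow_right i).eq a
  rw [← apply_inv (t ^ i) (cp r w ζ i v), hc hx, hc hy, h _ (hs.inv_tpow_cp_mem i v)]

theorem isScalar_of_eig {x : V ≃ₗ[K] V} (hx : x * t = t * x) [Nontrivial V] [Finite V] {a : K}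
    (h : ∀ v ∈ eig w, x v = a • v) : IsScalar x := by
  haveI := hs.eig_nontrivial
  obtain ⟨v, hv⟩ := exists_ne (0 : eig w)
  have ha : a ≠ 0 := by
    rintro rfl
    exact hv (Subtype.ext (x.map_eq_zero_iff.1 (by rw [h _ v.2, zero_smul])))
  rw [hs.eq_of_agree hx ((isScalar_sc (Units.mk0 a ha)).comm t) fun y hy => h y hy]
  exact isScalar_sc _

variable (hN : Ext N)
include hN

/-- A normal form for the elements of `N`. -/
theorem exists_form [Nontrivial V] {x : V ≃ₗ[K] V} (hx : x ∈ N) :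
    ∃ j < r, ∃ l < r, ∃ z ∈ N, z * w = w * z ∧ z * t = t * z ∧
      ∀ v : V, x v = τ⁻¹ • (t ^ j) ((w ^ l) (z v)) := by
  haveI : NeZero r := ⟨hs.prime.pos.ne'⟩
  obtain ⟨a, -, ha⟩ := hN.exists_twist hs.hw hx
  obtain ⟨j, hj, rfl⟩ := hs.root.eq_pow_of_pow_eq_one
    ((ha.pow_left r).unique (twist_one_iff.2 (by rw [hs.wr, one_mul, mul_one])))
  set z1 := t ^ (r - j) * x with hz1
  have hz1w : Twist w z1 1 := by
    have h := (hs.twist_tw (r - j)).mul_right ha
    rwa [← pow_add, show r - j + j = r by omega, hs.root.pow_eq_one] at h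
  have hz1N : z1 ∈ N := N.mul_mem (N.pow_mem hs.ht _) hx
  obtain ⟨b, -, hb⟩ := hN.exists_twist hz1N hs.ht
  have hbr : b ^ r = 1 := by
    refine (hb.pow_right r).unique (twist_one_iff.2 ?_)
    exact ((IsScalar.comm ⟨τ, hs.tr⟩ z1)).symm
  obtain ⟨l, hl, rfl⟩ := hs.root.eq_pow_of_pow_eq_one hbr
  set z := w ^ (r - l) * z1 with hz
  have hzt : Twist z t 1 := by
    have h := (hs.twist.pow_left (r - l)).mul_left hb
    rwa [← pow_add, show l + (r - l) = r by omega, hs.root.pow_eq_one] at h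
  have hzw : Twist w z 1 := by
    have h := ((twist_self w).pow_right (r - l)).mul_right hz1w
    rwa [one_pow, one_mul] at h
  refine ⟨j, hj, l, hl, z, N.mul_mem (N.pow_mem hs.hw _) hz1N, (twist_one_iff.1 hzw).symm, twist_one_iff.1 hzt,
    fun v => ?_⟩
  rw [hz, ← LinearEquiv.mul_apply (w ^ l), ← mul_assoc, ← pow_add, show l + (r - l) = r by omega, hs.wr,
    one_mul, hz1, ← LinearEquiv.mul_apply (t ^ j), ← mul_assoc, ← pow_add, show j + (r - j) = r by omega,
    LinearEquiv.mul_apply, hs.tr, inv_smul_smul₀ hs.tau_ne_zero]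

end Split

/-- The elements of `N` commuting with the pair, on the fixed space. -/
def N0 (N : Subgroup (V ≃ₗ[K] V)) (w t : V ≃ₗ[K] V) : Subgroup (eig w ≃ₗ[K] eig w) where
  carrier := {y | ∃ x ∈ N, x * w = w * x ∧ x * t = t * x ∧ ∀ v : eig w, (y v : V) = x v}
  one_mem' := ⟨1, N.one_mem, by simp, by simp, fun _ => rfl⟩
  mul_mem' {a b} := by
    rintro ⟨x, hx, hxw, hxt, ha⟩ ⟨y, hy, hyw, hyt, hb⟩
    exact ⟨x * y, N.mul_mem hx hy, (show Commute x w from hxw).mul_left hyw,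
      (show Commute x t from hxt).mul_left hyt, fun v => by
      rw [LinearEquiv.mul_apply, LinearEquiv.mul_apply, ha, hb]⟩
  inv_mem' {a} := by
    rintro ⟨x, hx, hxw, hxt, ha⟩
    exact ⟨x⁻¹, N.inv_mem hx, (show Commute x w from hxw).inv_left, (show Commute x t from hxt).inv_left,
      fun v => x.injective (by rw [← ha, apply_inv, apply_inv])⟩

/-- The elements of `H` preserving the fixed space of `w` and the centraliser of `w` in `N`. -/
def stab (N H : Subgroup (V ≃ₗ[K] V)) (w : V ≃ₗ[K] V) : Subgroup (V ≃ₗ[K] V) where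
  carrier := {g | g ∈ H ∧ (∀ v, v ∈ eig w ↔ g v ∈ eig w) ∧
    ∀ x, (x ∈ N ∧ x * w = w * x) ↔ (g * x * g⁻¹ ∈ N ∧ g * x * g⁻¹ * w = w * (g * x * g⁻¹))}
  one_mem' := ⟨H.one_mem, fun _ => Iff.rfl, fun x => by simp⟩
  mul_mem' {a b} := by
    rintro ⟨ha, ha1, ha2⟩ ⟨hb, hb1, hb2⟩
    refine ⟨H.mul_mem ha hb, fun v => (hb1 v).trans (ha1 (b v)), fun x => ?_⟩
    rw [hb2 x, ha2 (b * x * b⁻¹), show a * (b * x * b⁻¹) * a⁻¹ = a * b * x * (a * b)⁻¹ by group]
  inv_mem' {a} := by
    rintro ⟨ha, ha1, ha2⟩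
    refine ⟨H.inv_mem ha, fun v => ?_, fun x => ?_⟩
    · rw [ha1 (a⁻¹ v), apply_inv]
    · rw [ha2 (a⁻¹ * x * a⁻¹⁻¹), show a * (a⁻¹ * x * a⁻¹⁻¹) * a⁻¹ = x by group]

/-- Restriction of an element of the stabiliser. -/
def res (N H : Subgroup (V ≃ₗ[K] V)) (w : V ≃ₗ[K] V) : stab N H w →* (eig w ≃ₗ[K] eig w) where
  toFun g :=
    { toFun := fun v => ⟨g.1 v, (g.2.2.1 v).1 v.2⟩
      map_add' := fun x y => Subtype.ext (map_add g.1 (x : V) y)
      map_smul' := fun c x => Subtype.ext (map_smul g.1 c (x : V))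
      invFun := fun v => ⟨g.1⁻¹ v, (g.2.2.1 _).2 (by rw [apply_inv]; exact v.2)⟩
      left_inv := fun v => Subtype.ext (inv_apply_self g.1 v)
      right_inv := fun v => Subtype.ext (apply_inv g.1 v) }
  map_one' := LinearEquiv.ext fun _ => rfl
  map_mul' g h := LinearEquiv.ext fun _ => rfl

/-- The group induced by `H`. -/
def H0 (N H : Subgroup (V ≃ₗ[K] V)) (w : V ≃ₗ[K] V) : Subgroup (eig w ≃ₗ[K] eig w) := (res N H w).range

namespace Split

variable {N : Subgroup (V ≃ₗ[K] V)} {r : ℕ} {w t : V ≃ₗ[K] V} {ζ τ : K} (hs : Split N r w t ζ τ) (hN : Ext N)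
  [Nontrivial V] [Finite V]
include hs hN

theorem mem_N0_of_comm {z : V ≃ₗ[K] V} (hz : z ∈ N) (hzw : z * w = w * z) (hzt : z * t = t * z) :
    ∃ y ∈ N0 N w t, ∀ v : eig w, (y v : V) = z v := by
  have hmap : ∀ v : V, v ∈ eig w → z v ∈ eig w := fun v hv => by
    rw [mem_eig, ← LinearEquiv.mul_apply, ← hzw, LinearEquiv.mul_apply, mem_eig.1 hv]
  have hmap' : ∀ v : V, v ∈ eig w → z⁻¹ v ∈ eig w := fun v hv => by
    rw [mem_eig, ← LinearEquiv.mul_apply, ← (show Commute z w from hzw).inv_left.eq, LinearEquiv.mul_apply, mem_eig.1 hv]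
  let y : eig w ≃ₗ[K] eig w :=
    { toFun := fun v => ⟨z v, hmap v v.2⟩
      map_add' := fun a b => Subtype.ext (map_add z (a : V) b)
      map_smul' := fun c a => Subtype.ext (map_smul z c (a : V))
      invFun := fun v => ⟨z⁻¹ v, hmap' v v.2⟩
      left_inv := fun v => Subtype.ext (inv_apply_self z v)
      right_inv := fun v => Subtype.ext (apply_inv z v) }
  exact ⟨y, ⟨z, hz, hzw, hzt, fun _ => rfl⟩, fun _ => rfl⟩

/-- A lift is scalar if its restriction is. -/
theorem isScalar_lift {z : V ≃ₗ[K] V} (hzt : z * t = t * z) {y : eig w ≃ₗ[K] eig w}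
    (hy : ∀ v : eig w, (y v : V) = z v) (h : IsScalar y) : IsScalar z := by
  obtain ⟨a, ha⟩ := h
  exact hs.isScalar_of_eig hzt (a := a) fun v hv => by rw [← hy ⟨v, hv⟩, ha]; rfl

theorem ext0 : Ext (N0 N w t) := by
  haveI := hs.eig_nontrivial
  have hres : ∀ {x : V ≃ₗ[K] V} {y : eig w ≃ₗ[K] eig w}, (∀ v : eig w, (y v : V) = x v) → IsScalar x → IsScalar y := by
    rintro x y hy ⟨a, ha⟩
    exact ⟨a, fun v => Subtype.ext (by rw [hy, ha]; rfl)⟩
  have hpow : ∀ {x : V ≃ₗ[K] V} {y : eig w ≃ₗ[K] eig w}, (∀ v : eig w, (y v : V) = x v) →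
      ∀ (k : ℕ) (v : eig w), ((y ^ k) v : V) = (x ^ k) v := by
    intro x y hy k
    induction k with
    | zero => intro v; rfl
    | succ k ih => intro v; rw [pow_succ', pow_succ', LinearEquiv.mul_apply, LinearEquiv.mul_apply, hy, ih]
  refine ⟨fun g hg => ?_, ?_, ?_, ?_⟩
  · obtain ⟨a, rfl⟩ := hg.exists_unit
    exact ⟨sc a, hN.sc_mem a, (isScalar_sc a).comm w, (isScalar_sc a).comm t, fun _ => rfl⟩
  · rintro a ⟨x, hx, -, -, ha⟩ b ⟨y, hy, -, -, hb⟩
    refine hres (fun v => ?_) (hN.comm x hx y hy)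
    simp only [commutatorElement_def, LinearEquiv.mul_apply]
    have hi : ∀ {x : V ≃ₗ[K] V} {a : eig w ≃ₗ[K] eig w}, (∀ v : eig w, (a v : V) = x v) →
        ∀ v : eig w, ((a⁻¹ v : eig w) : V) = x⁻¹ v := fun {x a} ha v =>
      x.injective (by rw [← ha, apply_inv, apply_inv])
    rw [ha, hb, hi ha, hi hb]
  · rintro a ⟨x, hx, hxw, hxt, ha⟩ hcen
    refine hres ha (hN.centre x hx fun y hy => ?_)
    obtain ⟨j, -, l, -, z, hz, hzw, hzt, hform⟩ := hs.exists_form hN hy
    obtain ⟨b, hb, hbz⟩ := hs.mem_N0_of_comm hN hz hzw hzt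
    have hxz : x * z = z * x := by
      refine hs.eq_of_agree ((show Commute x t from hxt).mul_left hzt) ((show Commute z t from hzt).mul_left hxt) fun v hv => ?_
      have h1 := congrArg Subtype.val (LinearEquiv.congr_fun (hcen b hb) ⟨v, hv⟩)
      simp only [LinearEquiv.mul_apply] at h1 ⊢
      rwa [ha, hbz, hbz, ha] at h1
    refine LinearEquiv.ext fun v => ?_
    rw [LinearEquiv.mul_apply, LinearEquiv.mul_apply, hform, hform, map_smul]
    congr 1
    have h2 : ∀ k (u : V), x ((t ^ k) u) = (t ^ k) (x u) := fun k u =>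
      LinearEquiv.congr_fun ((show Commute x t from hxt).pow_right k).eq u
    have h3 : ∀ k (u : V), x ((w ^ k) u) = (w ^ k) (x u) := fun k u =>
      LinearEquiv.congr_fun ((show Commute x w from hxw).pow_right k).eq u
    rw [h2, h3, ← LinearEquiv.mul_apply x z, hxz, LinearEquiv.mul_apply]
  · rintro a ⟨x, hx, -, hxt, ha⟩ k hk h
    refine hres (hpow ha k) (hN.sqfree x hx k hk ?_)
    exact hs.isScalar_lift hN ((show Commute x t from hxt).pow_left (k * k)).eq (hpow ha _) h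

omit hs hN [Nontrivial V] [Finite V] in
theorem acts0 [Finite V] {p : ℕ} {H : Subgroup (V ≃ₗ[K] V)} (hH : Acts p N H) (hs : Split N r w t ζ τ) (hN : Ext N)
    [Nontrivial V] : Acts p (N0 N w t) (H0 N H w) := by
  haveI : Finite (V ≃ₗ[K] V) := Finite.of_injective (fun f => (f : V → V)) DFunLike.coe_injective
  refine ⟨fun h => hH.not_dvd ?_, ?_⟩
  · refine (h.trans (Subgroup.card_range_dvd _)).trans (Subgroup.card_dvd_of_le fun g hg => hg.1)
  · rintro _ ⟨g, rfl⟩ y ⟨x, hx, hxw, hxt, hy⟩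
    obtain ⟨hgN, hgw⟩ := (g.2.2.2 x).1 ⟨hx, hxw⟩
    obtain ⟨j, hj, l, -, z, hz, hzw, hzt, hform⟩ := hs.exists_form hN hgN
    -- on the fixed space the conjugate is a multiple of `z`
    have hmap : ∀ v : eig w, g.1 (x (g.1⁻¹ v)) = τ⁻¹ • (t ^ j) (z v) := fun v => by
      have h1 := hform v
      rw [LinearEquiv.mul_apply, LinearEquiv.mul_apply] at h1
      have hzv : z v ∈ eig w := by
        rw [mem_eig, ← LinearEquiv.mul_apply, ← hzw, LinearEquiv.mul_apply, mem_eig.1 v.2]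
      rwa [pow_apply_eig (μ := (1 : K)) (show w (z v) = (1 : K) • z v by rw [mem_eig.1 hzv, one_smul]), one_pow, one_smul] at h1
    have hj0 : j = 0 := by
      haveI := hs.eig_nontrivial
      obtain ⟨v, hv⟩ := exists_ne (0 : eig w)
      have h1 := hgw
      have h2 := congrArg (cp r w ζ 0) (hmap v)
      have h3 : g.1 (x (g.1⁻¹ v)) ∈ eig w := by
        rw [mem_eig, ← LinearEquiv.mul_apply g.1 x, ← LinearEquiv.mul_apply (g.1 * x), ← LinearEquiv.mul_apply w, ← h1,
          LinearEquiv.mul_apply, mem_eig.1 v.2]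
      rw [hs.cp_eigen (j := 0) (by rw [mem_eig.1 h3, pow_zero, one_smul]) hs.prime.pos hs.prime.pos, if_pos rfl,
        map_smul, hs.cp_tpow ?_ hj hs.prime.pos] at h2
      · by_contra hne
        rw [if_neg (Ne.symm hne), smul_zero] at h2
        exact hv (Subtype.ext ((g.1⁻¹).map_eq_zero_iff.1 (x.map_eq_zero_iff.1 (g.1.map_eq_zero_iff.1 h2))))
      · rw [mem_eig, ← LinearEquiv.mul_apply, ← hzw, LinearEquiv.mul_apply, mem_eig.1 v.2]
    subst hj0
    have hz' : τ⁻¹ ≠ 0 := inv_ne_zero hs.tau_ne_zero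
    refine ⟨sc (Units.mk0 _ hz') * z, N.mul_mem (hN.sc_mem _) hz, ?_, ?_, fun v => ?_⟩
    · exact (show Commute (sc (Units.mk0 _ hz')) w from (isScalar_sc _).comm w).mul_left hzw
    · exact (show Commute (sc (Units.mk0 _ hz')) t from (isScalar_sc _).comm t).mul_left hzt
    · show g.1 (y ⟨g.1⁻¹ v, _⟩ : eig w) = _
      rw [hy, hmap]
      rfl

end Split

end CfsgLib.CoprimeBase
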