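import Mathlib
import Cfsg.Agent.Lib.FgsC.CoprimeBase.Peel

/-!
# The induction step along a split pair

From a pair `(u, u')` on the fixed space of `w` one gets the pair `(u' + t u + c t² u, u)`.
-/

set_option autoImplicit false

universe u v

namespace CfsgLib.CoprimeBase

variable {K : Type u} [Field K] {V : Type v} [AddCommGroup V] [Module K V]

theorem one_app (v : V) : (1 : V ≃ₗ[K] V) v = v := rfl

/-- The glued vector. -/
def glue (t : V ≃ₗ[K] V) (c : K) (u u' : V) : V := u' + t u + c • (t ^ 2) u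

namespace Split

variable {N : Subgroup (V ≃ₗ[K] V)} {r : ℕ} {w t : V ≃ₗ[K] V} {ζ τ : K} (hs : Split N r w t ζ τ) (hN : Ext N)
  [Nontrivial V] [Finite V]

omit [Nontrivial V] [Finite V] in
include hs in
theorem cp_glue {u u' : V} (hu : u ∈ eig w) (hu' : u' ∈ eig w) (c : K) {i : ℕ} (hi : i < r) :
    cp r w ζ i (glue t c u u') =
      (if i = 0 then u' else 0) + (if i = 1 then t u else 0) + (if i = 2 % r then c • (t ^ 2) u else 0) := by
  have h0 := hs.cp_tpow_any hu' 0 hi
  have h1 := hs.cp_tpow_any hu 1 hi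
  have h2 := hs.cp_tpow_any hu 2 hi
  rw [Nat.zero_mod, pow_zero, one_app] at h0
  rw [Nat.mod_eq_of_lt hs.prime.one_lt, pow_one] at h1
  rw [glue, map_add, map_add, map_smul, h0, h1, h2]
  split_ifs <;> simp

include hs in
omit [Finite V] in
theorem w_ne_one : w ≠ 1 := fun e => hs.root.ne_one hs.prime.one_lt
  ((e ▸ hs.twist : Twist (1 : V ≃ₗ[K] V) t ζ).unique (twist_one_iff.2 (by rw [one_mul, mul_one])))

include hs in
omit [Finite V] in
/-- Proper powers of `w` generate the same group. -/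
theorem exists_w_pow {l : ℕ} (hl : l < r) (hl0 : l ≠ 0) : ∃ m : ℕ, (w ^ l) ^ m = w := by
  haveI : Fact r.Prime := ⟨hs.prime⟩
  refine exists_pow_eq_self_of_coprime (x := w) (n := l) ?_
  rw [orderOf_eq_prime hs.wr hs.w_ne_one]
  exact Nat.Coprime.symm ((hs.prime.coprime_iff_not_dvd).2 (Nat.not_dvd_of_pos_of_lt (Nat.pos_of_ne_zero hl0) hl))

omit [Nontrivial V] [Finite V] in
include hs in
theorem z_mem_eig {z : V ≃ₗ[K] V} (hzw : z * w = w * z) {a : V} (ha : a ∈ eig w) : z a ∈ eig w := by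
  rw [mem_eig, ← LinearEquiv.mul_apply, ← hzw, LinearEquiv.mul_apply, mem_eig.1 ha]

omit [Nontrivial V] [Finite V] in
include hs in
/-- A normal form applied to a translate. -/
theorem form_apply {x : V ≃ₗ[K] V} {j l : ℕ} {z : V ≃ₗ[K] V} (hzw : z * w = w * z) (hzt : z * t = t * z)
    (hform : ∀ v : V, x v = τ⁻¹ • (t ^ j) ((w ^ l) (z v))) {a : V} (ha : a ∈ eig w) (i : ℕ) :
    x ((t ^ i) a) = (τ⁻¹ * (ζ ^ i) ^ l) • (t ^ (j + i)) (z a) := by
  have h1 : z ((t ^ i) a) = (t ^ i) (z a) :=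
    LinearEquiv.congr_fun ((show Commute z t from hzt).pow_right i).eq a
  rw [hform, h1, pow_apply_eig (hs.w_tpow (hs.z_mem_eig hzw ha) i), map_smul, smul_smul, pow_add,
    LinearEquiv.mul_apply]

include hs hN

/-- A lift of a scalar on the distinguished line. -/
theorem scalar_of_line {u : eig w} (hfree : LineFree (N0 N w t) u) {z : V ≃ₗ[K] V} (hz : z ∈ N)
    (hzw : z * w = w * z) (hzt : z * t = t * z) {b : K} (hb : z u = b • (u : V)) (hu : u ≠ 0) :
    ∀ v : V, z v = b • v := by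
  obtain ⟨y, hy, hyz⟩ := hs.mem_N0_of_comm hN hz hzw hzt
  obtain ⟨a, ha⟩ := hs.isScalar_lift hN hzt hyz (hfree y hy b (Subtype.ext (by rw [hyz, hb]; rfl)))
  have hab : a = b := smul_left_injective K (fun e => hu (Subtype.ext e)) ((ha u).symm.trans hb)
  exact hab ▸ ha

/-- Regularity goes up. -/
theorem peel_reg {p : ℕ} {H : Subgroup (V ≃ₗ[K] V)} (hH : Acts p N H) {u u' : eig w} (hu : u ≠ 0)
    (hfree : LineFree (N0 N w t) u) (hreg : Reg (N0 N w t) (H0 N H w) u u') {c : K}
    (hc : (r = 2 ∧ c = 0) ∨ (3 ≤ r ∧ c ≠ 0 ∧ c ^ 3 * τ ≠ 1)) :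
    Reg N H (glue t c (u : V) u') u := by
  intro g hg hX hgu
  have hr2 := hs.prime.two_le
  have hτ := hs.tau_ne_zero
  have hu0 : (u : V) ≠ 0 := fun e => hu (Subtype.ext e)
  have hζ := hs.zeta_ne_zero
  -- the conjugate of `w` is a power of `w`
  obtain ⟨j, hj, l, hl, z, hz, hzw, hzt, hform⟩ := hs.exists_form hN (hH.normalises g hg w hs.hw)
  have hgwu : (g * w * g⁻¹) (u : V) = u := by
    rw [LinearEquiv.mul_apply, LinearEquiv.mul_apply, show g⁻¹ (u : V) = u from g.injective (by rw [apply_inv, hgu]),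
      mem_eig.1 u.2, hgu]
  have h1 := congrArg (cp r w ζ 0) (hs.form_apply hzw hzt hform u.2 0)
  rw [pow_zero, one_app, hgwu, map_smul, Nat.add_zero,
    hs.cp_tpow (hs.z_mem_eig hzw u.2) hj hs.prime.pos,
    hs.cp_eigen (j := 0) (by rw [mem_eig.1 u.2, pow_zero, one_smul]) hs.prime.pos hs.prime.pos, if_pos rfl] at h1
  have hj0 : j = 0 := by
    by_contra hne
    rw [if_neg (Ne.symm hne), smul_zero] at h1
    exact hu0 h1
  subst hj0
  simp only [if_true, pow_zero, one_pow, mul_one, one_app] at h1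
  have hzb : ∀ v, z v = τ • v := hs.scalar_of_line hN hfree hz hzw hzt
    (by rw [eq_comm, inv_smul_eq_iff₀ hτ] at h1; exact h1) hu
  have hw' : g * w * g⁻¹ = w ^ l := LinearEquiv.ext fun v => by
    rw [hform, hzb, map_smul, pow_zero, one_app, inv_smul_smul₀ hτ]
  have hl0 : l ≠ 0 := by
    rintro rfl
    rw [pow_zero, mul_inv_eq_one, mul_eq_left] at hw'
    exact hs.w_ne_one hw'
  -- the stabiliser
  have hwpow : ∀ {x : V ≃ₗ[K] V}, x * w ^ l = w ^ l * x → x * w = w * x := fun {x} hx => by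
    obtain ⟨m, hm⟩ := hs.exists_w_pow hl hl0
    rw [← hm]
    exact ((show Commute x (w ^ l) from hx).pow_right m).eq
  have hgw : ∀ v, (w ^ l) (g v) = g (w v) := fun v => by
    rw [← hw', LinearEquiv.mul_apply, LinearEquiv.mul_apply, inv_apply_self]
  have heig : ∀ v, v ∈ eig w ↔ g v ∈ eig w := fun v => by
    constructor
    · intro hv
      have h2 := hgw v
      rw [mem_eig.1 hv] at h2
      obtain ⟨m, hm⟩ := hs.exists_w_pow hl hl0
      rw [mem_eig, ← hm, pow_apply_eig (μ := (1 : K)) (by rw [h2, one_smul]), one_pow, one_smul]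
    · intro hv
      have h2 := hgw v
      rw [pow_apply_eig (μ := (1 : K)) (show w (g v) = (1 : K) • g v by rw [mem_eig.1 hv, one_smul]), one_pow,
        one_smul] at h2
      exact (g.injective h2).symm
  have hstab : g ∈ stab N H w := by
    refine ⟨hg, heig, fun x => ?_⟩
    constructor
    · rintro ⟨hx, hxw⟩
      refine ⟨hH.normalises g hg x hx, hwpow ?_⟩
      rw [← hw']
      calc g * x * g⁻¹ * (g * w * g⁻¹) = g * (x * w) * g⁻¹ := by group
        _ = g * (w * x) * g⁻¹ := by rw [hxw]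
        _ = _ := by group
    · rintro ⟨hx, hxw⟩
      have hxN : x ∈ N := by
        have h2 := hH.normalises g⁻¹ (H.inv_mem hg) _ hx
        rwa [show g⁻¹ * (g * x * g⁻¹) * g⁻¹⁻¹ = x by group] at h2
      refine ⟨hxN, ?_⟩
      have h2 : g * x * g⁻¹ * (g * w * g⁻¹) = g * w * g⁻¹ * (g * x * g⁻¹) := by
        rw [hw']; exact ((show Commute (g * x * g⁻¹) w from hxw).pow_right l).eq
      calc x * w = g⁻¹ * (g * x * g⁻¹ * (g * w * g⁻¹)) * g := by group
        _ = g⁻¹ * (g * w * g⁻¹ * (g * x * g⁻¹)) * g := by rw [h2]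
        _ = w * x := by group
  -- the conjugate of `t`
  obtain ⟨j, hj, m, hm, z', hz', hzw', hzt', hform'⟩ := hs.exists_form hN (hH.normalises g hg t hs.ht)
  have hgt : ∀ v, g (t v) = (g * t * g⁻¹) (g v) := fun v => by
    rw [LinearEquiv.mul_apply, LinearEquiv.mul_apply, inv_apply_self]
  have hlj : (ζ ^ j) ^ l = ζ := by
    have hA : Twist (w ^ l) (g * t * g⁻¹) ζ := fun v => by
      rw [← hw']
      simp only [LinearEquiv.mul_apply, inv_apply_self]
      rw [hs.twist, map_smul]
    have hB : Twist w (g * t * g⁻¹) (ζ ^ j) := fun v => by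
      have hwz : ∀ a, w ((w ^ m) (z' a)) = (w ^ m) (z' (w a)) := fun a => by
        rw [← LinearEquiv.mul_apply w (w ^ m), (Commute.self_pow w m).eq, LinearEquiv.mul_apply,
          ← LinearEquiv.mul_apply w z', ← hzw', LinearEquiv.mul_apply]
      rw [hform', map_smul, hs.twist_tw j, hwz, hform', smul_comm]
    exact (hB.pow_left l).unique hA
  have hj0 : j ≠ 0 := by
    rintro rfl
    rw [pow_zero, one_pow] at hlj
    exact hs.root.ne_one hs.prime.one_lt hlj.symm
  have hgtu : g (t u) = τ⁻¹ • (t ^ j) (z' u) := by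
    rw [hgt, hgu]
    simpa using hs.form_apply hzw' hzt' hform' u.2 0
  have hgttu : g ((t ^ 2) u) = (τ⁻¹ * (τ⁻¹ * (ζ ^ j) ^ m)) • (t ^ (j + j)) (z' (z' u)) := by
    rw [pow_two, LinearEquiv.mul_apply, hgt, hgtu, map_smul,
      hs.form_apply hzw' hzt' hform' (hs.z_mem_eig hzw' u.2) j, smul_smul]
  have hgu' : g (u' : V) ∈ eig w := (heig _).1 u'.2
  have hkey : ∀ i < r, ((if i = 0 then g u' else 0) + (if i = j then τ⁻¹ • (t ^ j) (z' u) else 0) +
      (if i = (j + j) % r then c • (τ⁻¹ * (τ⁻¹ * (ζ ^ j) ^ m)) • (t ^ (j + j)) (z' (z' u)) else 0) : V) =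
      (if i = 0 then (u' : V) else 0) + (if i = 1 then t u else 0) +
        (if i = 2 % r then c • (t ^ 2) (u : V) else 0) := by
    intro i hi
    rw [← hs.cp_glue u.2 u'.2 c hi]
    conv_rhs => rw [← hX]
    simp only [glue, map_add, map_smul]
    rw [hgtu, hgttu, map_smul, map_smul, hs.cp_tpow (hs.z_mem_eig hzw' u.2) hj hi,
      hs.cp_tpow_any (hs.z_mem_eig hzw' (hs.z_mem_eig hzw' u.2)) (j + j) hi,
      hs.cp_eigen (j := 0) (by rw [mem_eig.1 hgu', pow_zero, one_smul]) hs.prime.pos hi]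
    split_ifs <;> simp
  have hjj : c = 0 ∨ (j + j) % r ≠ 0 := by
    rcases hc with ⟨-, hc⟩ | ⟨h3, -, -⟩
    · exact Or.inl hc
    · refine Or.inr fun h => ?_
      obtain ⟨k, hk⟩ := Nat.dvd_of_mod_eq_zero h
      have hk1 : k = 1 := by
        rcases k with _ | _ | k
        · omega
        · rfl
        · nlinarith
      obtain ⟨a, ha⟩ := hs.prime.odd_of_ne_two (by omega)
      subst hk1; omega
  have hfix' : g u' = u' := by
    have h2 := hkey 0 hs.prime.pos
    rw [if_pos rfl, if_neg (Ne.symm hj0), if_pos rfl, if_neg zero_ne_one, add_zero, add_zero] at h2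
    rcases hjj with h | h
    · simpa [h] using h2
    · rw [if_neg (Ne.symm h), add_zero] at h2
      rcases hc with ⟨hr, hc⟩ | ⟨h3, -, -⟩
      · simpa [hc] using h2
      · rw [if_neg (by rw [Nat.mod_eq_of_lt (by omega : 2 < r)]; norm_num), add_zero] at h2
        exact h2
  let g0 : eig w ≃ₗ[K] eig w := res N H w ⟨g, hstab⟩
  have hg0 : ∀ y ∈ N0 N w t, g0 * y = y * g0 :=
    hreg g0 ⟨⟨g, hstab⟩, rfl⟩ (Subtype.ext hgu) (Subtype.ext hfix')
  -- the conjugate of `t` is `t`
  have hmain : g * w * g⁻¹ = w ∧ g * t * g⁻¹ = t := by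
    have ht2 : ∀ v : V, t (t v) = (t ^ 2) v := fun v => by rw [pow_two, LinearEquiv.mul_apply]
    by_cases hj1 : j = 1
    · subst hj1
      rw [pow_one] at hlj
      have hl1 : l = 1 := hs.root.pow_inj hl hs.prime.one_lt (by rw [hlj, pow_one])
      subst hl1
      refine ⟨by rw [hw', pow_one], ?_⟩
      have h2 := hkey 1 hs.prime.one_lt
      have hzu : z' u = τ • (u : V) := by
        have h3 : τ⁻¹ • (t ^ 1) (z' u) = t u := by
          rw [if_neg one_ne_zero, if_pos rfl, if_neg one_ne_zero, if_pos rfl, zero_add, zero_add] at h2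
          rcases hc with ⟨-, hc⟩ | ⟨h3, -, -⟩
          · simpa [hc] using h2
          · rw [if_neg (by rw [Nat.mod_eq_of_lt (by omega : 1 + 1 < r)]; norm_num),
              if_neg (by rw [Nat.mod_eq_of_lt (by omega : 2 < r)]; norm_num), add_zero, add_zero] at h2
            exact h2
        rw [pow_one, inv_smul_eq_iff₀ hτ, ← map_smul] at h3
        exact t.injective h3
      have hzb' := hs.scalar_of_line hN hfree hz' hzw' hzt' hzu hu
      have ht' : ∀ v, (g * t * g⁻¹) v = t ((w ^ m) v) := fun v => by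
        rw [hform', hzb', map_smul, map_smul, pow_one, inv_smul_smul₀ hτ]
      have hm0 : (ζ ^ 1) ^ m = 1 := by
        rcases hc with ⟨hr, -⟩ | ⟨h3, hc0, -⟩
        · -- the square
          subst hr
          have h4 : ∀ v, (g * t * g⁻¹) ((g * t * g⁻¹) v) = τ • v := fun v => by
            simp only [LinearEquiv.mul_apply, inv_apply_self, ht2]
            rw [hs.tr, map_smul, apply_inv]
          have h5 := h4 u
          rw [ht', ht', pow_apply_eig (μ := (1 : K)) (show w (u : V) = (1 : K) • (u : V) by rw [mem_eig.1 u.2, one_smul]),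
            one_pow, one_smul, pow_apply_eig (show w (t u) = ζ • t u by rw [hs.twist, mem_eig.1 u.2]), map_smul,
            ht2, hs.tr, smul_smul] at h5
          have h6 := smul_left_injective K hu0 h5
          rw [pow_one]
          exact (mul_eq_right₀ hτ).1 h6
        · have h4 := hkey 2 (by omega)
          rw [if_neg two_ne_zero, if_neg (by norm_num), if_pos (Nat.mod_eq_of_lt (by omega : 1 + 1 < r)).symm,
            if_neg two_ne_zero, if_neg (by norm_num), if_pos (Nat.mod_eq_of_lt (by omega : 2 < r)).symm] at h4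
          simp only [zero_add, hzb', map_smul, smul_smul] at h4
          have hne : (t ^ 2) (u : V) ≠ 0 := fun e => hu0 ((t ^ 2).map_eq_zero_iff.1 e)
          have h5 := smul_left_injective K hne h4
          field_simp at h5
          rw [pow_one]; exact h5
      rw [pow_one] at hm0
      have hm' : m = 0 := hs.root.pow_inj hm hs.prime.pos (by rw [hm0, pow_zero])
      exact LinearEquiv.ext fun v => by rw [ht', hm', pow_zero, one_app]
    · exfalso
      rcases hc with ⟨hr, -⟩ | ⟨h3, hc0, hc3⟩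
      · omega
      have h22 : 2 % r = 2 := Nat.mod_eq_of_lt (by omega)
      have hne : (t ^ j) (z' u) ≠ 0 := fun e => hu0 (z'.map_eq_zero_iff.1 ((t ^ j).map_eq_zero_iff.1 e))
      have hjj2 : (j + j) % r ≠ j := fun h => hj0 (by
        have h2 := Nat.div_add_mod (j + j) r
        rw [h] at h2
        rcases Nat.eq_zero_or_pos ((j + j) / r) with h4 | h4
        · rw [h4] at h2; omega
        · have : r ≤ r * ((j + j) / r) := Nat.le_mul_of_pos_right r h4
          omega)
      have hj2 : j = 2 := by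
        by_contra hne2
        have h2 := hkey j hj
        rw [if_neg hj0, if_pos rfl, if_neg (Ne.symm hjj2), if_neg hj0, if_neg hj1, if_neg (by rw [h22]; exact hne2),
          zero_add, add_zero, add_zero, add_zero] at h2
        exact hne ((smul_eq_zero_iff_right (inv_ne_zero hτ)).1 h2)
      subst hj2
      have hr3 : r = 3 := by
        by_contra hne3
        have h2 := hkey 1 hs.prime.one_lt
        have h41 : ¬ 1 = (2 + 2) % r := fun h => by
          have : r ≠ 4 := fun e => by subst e; exact absurd hs.prime (by norm_num)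
          rw [Nat.mod_eq_of_lt (by omega : 2 + 2 < r)] at h
          omega
        rw [if_neg one_ne_zero, if_neg (by norm_num), if_neg h41, if_neg one_ne_zero, if_pos rfl,
          if_neg (by rw [h22]; norm_num)] at h2
        simp only [add_zero, zero_add] at h2
        exact hu0 (t.map_eq_zero_iff.1 h2.symm)
      subst hr3
      have h2 := hkey 2 (by norm_num)
      norm_num at h2
      have hzu : z' u = (c * τ) • (u : V) := by
        rw [inv_smul_eq_iff₀ hτ, smul_comm, ← map_smul, ← map_smul] at h2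
        rw [(t ^ 2).injective h2, smul_smul]
      have hzb' := hs.scalar_of_line hN hfree hz' hzw' hzt' hzu hu
      have ht' : ∀ i, (g * t * g⁻¹) ((t ^ i) (u : V)) = (c * (ζ ^ i) ^ m) • (t ^ (2 + i)) (u : V) := fun i => by
        rw [hs.form_apply hzw' hzt' hform' u.2 i, hzb', map_smul, smul_smul]
        congr 1
        field_simp
      have h4 : (g * t * g⁻¹) ((g * t * g⁻¹) ((g * t * g⁻¹) ((t ^ 0) (u : V)))) = τ • (u : V) := by
        have h3' : ∀ a : V, t (t (t a)) = τ • a := fun a => by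
          rw [← hs.tr a, pow_succ, pow_two, LinearEquiv.mul_apply, LinearEquiv.mul_apply]
        simp only [LinearEquiv.mul_apply, pow_zero, one_app, inv_apply_self, h3', map_smul, apply_inv]
      rw [ht', map_smul, ht', map_smul, map_smul, ht', smul_smul, smul_smul,
        show (t ^ (2 + (2 + (2 + 0)))) (u : V) = (τ * τ) • (u : V) by
          rw [show 2 + (2 + (2 + 0)) = 3 + 3 from rfl, pow_add, LinearEquiv.mul_apply, hs.tr, hs.tr, smul_smul],
        smul_smul] at h4
      have h5 := smul_left_injective K hu0 h4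
      have h6 : (ζ ^ (2 + 0)) ^ m * (ζ ^ (2 + (2 + 0))) ^ m = 1 := by
        rw [← mul_pow, ← pow_add, show 2 + 0 + (2 + (2 + 0)) = 3 * 2 from rfl, pow_mul, hs.root.pow_eq_one, one_pow, one_pow]
      refine hc3 (mul_right_cancel₀ hτ ?_)
      rw [pow_zero, one_pow, mul_one] at h5
      linear_combination h5 - (c ^ 3 * (τ * τ)) * h6
  obtain ⟨hgw1, hgt1⟩ := hmain
  have hcw : g * w = w * g := mul_inv_eq_iff_eq_mul.1 hgw1
  have hct : g * t = t * g := mul_inv_eq_iff_eq_mul.1 hgt1
  intro x hx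
  obtain ⟨a, -, b, -, y, hy, hyw, hyt, hxf⟩ := hs.exists_form hN hx
  have hgy : g * y = y * g := by
    obtain ⟨y0, hy0, hy0e⟩ := hs.mem_N0_of_comm hN hy hyw hyt
    refine hs.eq_of_agree ((show Commute g t from hct).mul_left hyt) ((show Commute y t from hyt).mul_left hct) fun v hv => ?_
    have h2 := congrArg Subtype.val (LinearEquiv.congr_fun (hg0 y0 hy0) ⟨v, hv⟩)
    simp only [LinearEquiv.mul_apply] at h2 ⊢
    change g (y0 ⟨v, hv⟩ : V) = _ at h2
    rw [hy0e] at h2
    rw [h2, hy0e]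
    rfl
  refine LinearEquiv.ext fun v => ?_
  rw [LinearEquiv.mul_apply, LinearEquiv.mul_apply, hxf, hxf, map_smul,
    ← LinearEquiv.mul_apply g (t ^ a), ((show Commute g t from hct).pow_right a).eq, LinearEquiv.mul_apply,
    ← LinearEquiv.mul_apply g (w ^ b), ((show Commute g w from hcw).pow_right b).eq, LinearEquiv.mul_apply,
    ← LinearEquiv.mul_apply g y, hgy, LinearEquiv.mul_apply]

/-- The glued vector is fixed by scalars only, given that no translate can keep it. -/
theorem peel_free {u u' : eig w} (hu : u ≠ 0) (hfree : LineFree (N0 N w t) u) {c : K}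
    (hc : (r = 2 ∧ c = 0) ∨ (3 ≤ r ∧ c ≠ 0)) (hnz : u' ≠ 0 ∨ c ≠ 0)
    (hshift : ∀ j < r, j ≠ 0 → ∀ l : ℕ, ∀ x z : V ≃ₗ[K] V, z ∈ N → z * w = w * z → z * t = t * z →
      (∀ v : V, x v = τ⁻¹ • (t ^ j) ((w ^ l) (z v))) → ∀ a : K, x (glue t c (u : V) u') ≠ a • glue t c (u : V) u') :
    LineFree N (glue t c (u : V) u') := by
  intro x hx a hxa
  have hu0 : (u : V) ≠ 0 := fun e => hu (Subtype.ext e)
  have hτ := hs.tau_ne_zero
  obtain ⟨j, hj, l, hl, z, hz, hzw, hzt, hform⟩ := hs.exists_form hN hx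
  by_cases hj0 : j = 0
  swap
  · exact absurd hxa (hshift j hj hj0 l x z hz hzw hzt hform a)
  subst hj0
  have hkey : ∀ i < r, (if i = 0 then τ⁻¹ • z (u' : V) else 0) + (if i = 1 then (τ⁻¹ * ζ ^ l) • t (z u) else 0) +
      (if i = 2 % r then (c * (τ⁻¹ * (ζ ^ 2) ^ l)) • (t ^ 2) (z u) else 0) =
      (if i = 0 then a • (u' : V) else 0) + (if i = 1 then a • t u else 0) +
        (if i = 2 % r then a • c • (t ^ 2) (u : V) else 0) := by
    intro i hi
    have h1 := congrArg (cp r w ζ i) hxa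
    have e0 := hs.form_apply hzw hzt hform u'.2 0
    have e1 := hs.form_apply hzw hzt hform u.2 1
    have e2 := hs.form_apply hzw hzt hform u.2 2
    simp only [pow_zero, one_app, pow_one, Nat.zero_add, one_pow, mul_one] at e0 e1 e2
    rw [map_smul, hs.cp_glue u.2 u'.2 c hi] at h1
    simp only [glue, map_add, map_smul] at h1
    rw [e0, e1, e2, map_smul, map_smul, map_smul,
      hs.cp_eigen (j := 0) (by rw [mem_eig.1 (hs.z_mem_eig hzw u'.2), pow_zero, one_smul]) hs.prime.pos hi,
      hs.cp_tpow_any (hs.z_mem_eig hzw u.2) 2 hi] at h1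
    have e3 := hs.cp_tpow (hs.z_mem_eig hzw u.2) hs.prime.one_lt hi
    rw [pow_one] at e3
    rw [e3] at h1
    revert h1
    split_ifs <;> simp_all [smul_add, smul_smul]
  have h21 : c = 0 ∨ ¬ 1 = 2 % r := by
    rcases hc with ⟨-, hc⟩ | ⟨h3, -⟩
    · exact Or.inl hc
    · exact Or.inr (by rw [Nat.mod_eq_of_lt (by omega : 2 < r)]; norm_num)
  have h1 := hkey 1 hs.prime.one_lt
  have hzu : z u = (τ * a * (ζ ^ l)⁻¹) • (u : V) := by
    have h1' : (τ⁻¹ * ζ ^ l) • t (z u) = a • t u := by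
      rw [if_neg one_ne_zero, if_pos rfl, if_neg one_ne_zero, if_pos rfl, zero_add, zero_add] at h1
      rcases h21 with h | h
      · simpa [h] using h1
      · rwa [if_neg h, if_neg h, add_zero, add_zero] at h1
    have hne : τ⁻¹ * ζ ^ l ≠ 0 := mul_ne_zero (inv_ne_zero hτ) (pow_ne_zero _ hs.zeta_ne_zero)
    rw [← map_smul t, ← map_smul t] at h1'
    have h2 := t.injective h1'
    rw [← eq_inv_smul_iff₀ hne, smul_smul] at h2
    rw [h2]
    congr 1
    field_simp
  have hzb := hs.scalar_of_line hN hfree hz hzw hzt hzu hu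
  have hzl := pow_ne_zero l hs.zeta_ne_zero
  have hl0 : ζ ^ l = 1 := by
    have ha0 : a ≠ 0 := by
      rintro rfl
      exact hu0 (z.map_eq_zero_iff.1 (by rw [hzb]; simp))
    rcases hnz with h | hc0
    · have h0 := hkey 0 hs.prime.pos
      have h20 : c = 0 ∨ ¬ 0 = 2 % r := by
        rcases hc with ⟨-, hc⟩ | ⟨h3, -⟩
        · exact Or.inl hc
        · exact Or.inr (by rw [Nat.mod_eq_of_lt (by omega : 2 < r)]; norm_num)
      have h0' : τ⁻¹ • z (u' : V) = a • (u' : V) := by
        rw [if_pos rfl, if_neg zero_ne_one, if_pos rfl, if_neg zero_ne_one, add_zero, add_zero] at h0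
        rcases h20 with h' | h'
        · simpa [h'] using h0
        · rwa [if_neg h', if_neg h', add_zero, add_zero] at h0
      rw [hzb, smul_smul] at h0'
      have h2 := smul_left_injective K (fun e => h (Subtype.ext e)) h0'
      field_simp at h2
      exact h2.symm
    · rcases hc with ⟨-, hc⟩ | ⟨h3, -⟩
      · exact absurd hc hc0
      have h2' := hkey 2 (by omega)
      rw [if_neg two_ne_zero, if_neg (by norm_num), if_pos (Nat.mod_eq_of_lt (by omega : 2 < r)).symm,
        if_neg two_ne_zero, if_neg (by norm_num), if_pos (Nat.mod_eq_of_lt (by omega : 2 < r)).symm] at h2'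
      simp only [zero_add, hzb, map_smul, smul_smul] at h2'
      have hne : (t ^ 2) (u : V) ≠ 0 := fun e => hu0 ((t ^ 2).map_eq_zero_iff.1 e)
      have h2 := smul_left_injective K hne h2'
      rw [← pow_mul, mul_comm 2 l, pow_mul, pow_two] at h2
      field_simp at h2
      exact h2
  refine ⟨a, fun v => ?_⟩
  have hwl : w ^ l = 1 := by
    have hl' : l = 0 := hs.root.pow_inj hl hs.prime.pos (by rw [hl0, pow_zero])
    rw [hl', pow_zero]
  rw [hform, hzb, hwl, pow_zero, one_app, one_app, hl0, inv_one, mul_one, smul_smul,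
    inv_mul_cancel_left₀ hτ]

/-- The old first vector avoids the line of the glued one. -/
theorem peel_avoids {u u' : eig w} (hu : u ≠ 0) {c : K} (hc : (r = 2 ∧ c = 0) ∨ (3 ≤ r ∧ c ≠ 0))
    (hnz : u' ≠ 0 ∨ c ≠ 0) : Avoids N (glue t c (u : V) u') u := by
  intro x hx a hxa
  have hu0 : (u : V) ≠ 0 := fun e => hu (Subtype.ext e)
  obtain ⟨j, hj, l, -, z, -, hzw, hzt, hform⟩ := hs.exists_form hN hx
  have ha : a ≠ 0 := by
    rintro rfl
    exact hu0 (x.map_eq_zero_iff.1 (by rw [hxa, zero_smul]))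
  have e0 := hs.form_apply hzw hzt hform u.2 0
  rw [pow_zero, one_app, hxa, Nat.add_zero] at e0
  have hk : ∀ i < r, i ≠ j → cp r w ζ i (glue t c (u : V) u') = 0 := fun i hi hne => by
    have h1 := congrArg (cp r w ζ i) e0
    rw [map_smul, map_smul, hs.cp_tpow (hs.z_mem_eig hzw u.2) hj hi, if_neg hne, smul_zero] at h1
    exact (smul_eq_zero_iff_right ha).1 h1
  have h1 : j = 1 := by
    by_contra hne
    have h1 := hk 1 hs.prime.one_lt (Ne.symm hne)
    rw [hs.cp_glue u.2 u'.2 c hs.prime.one_lt, if_neg one_ne_zero, if_pos rfl, zero_add] at h1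
    rcases hc with ⟨-, hc⟩ | ⟨h3, -⟩
    · rw [hc] at h1
      exact hu0 (t.map_eq_zero_iff.1 (by simpa using h1))
    · rw [if_neg (by rw [Nat.mod_eq_of_lt (by omega : 2 < r)]; norm_num), add_zero] at h1
      exact hu0 (t.map_eq_zero_iff.1 h1)
  subst h1
  rcases hnz with h | hc0
  · have h2 := hk 0 hs.prime.pos zero_ne_one
    rw [hs.cp_glue u.2 u'.2 c hs.prime.pos, if_pos rfl, if_neg zero_ne_one, add_zero] at h2
    rcases hc with ⟨-, hc⟩ | ⟨h3, -⟩
    · rw [hc] at h2
      exact h (Subtype.ext (by simpa using h2))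
    · rw [if_neg (by rw [Nat.mod_eq_of_lt (by omega : 2 < r)]; norm_num), add_zero] at h2
      exact h (Subtype.ext h2)
  · rcases hc with ⟨-, hc⟩ | ⟨h3, -⟩
    · exact hc0 hc
    have h2 := hk 2 (by omega) (by norm_num)
    rw [hs.cp_glue u.2 u'.2 c (by omega), if_neg two_ne_zero, if_neg (by norm_num),
      if_pos (Nat.mod_eq_of_lt (by omega : 2 < r)).symm, zero_add, zero_add] at h2
    exact hu0 ((t ^ 2).map_eq_zero_iff.1 ((smul_eq_zero_iff_right hc0).1 h2))

/-- The shift condition from an avoided line. -/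
theorem shift_of_avoids {u u' : eig w} (hav : Avoids (N0 N w t) u u') {c : K}
    (hc : (r = 2 ∧ c = 0) ∨ (3 ≤ r ∧ c ≠ 0)) :
    ∀ j < r, j ≠ 0 → ∀ l : ℕ, ∀ x z : V ≃ₗ[K] V, z ∈ N → z * w = w * z → z * t = t * z →
      (∀ v : V, x v = τ⁻¹ • (t ^ j) ((w ^ l) (z v))) → ∀ a : K, x (glue t c (u : V) u') ≠ a • glue t c (u : V) u' := by
  intro j hj hj0 l x z hz hzw hzt hform a hxa
  have hτ := hs.tau_ne_zero
  obtain ⟨y, hy, hye⟩ := hs.mem_N0_of_comm hN hz hzw hzt
  have h1 := congrArg (cp r w ζ j) hxa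
  rw [map_smul, hs.cp_glue u.2 u'.2 c hj, if_neg hj0, zero_add] at h1
  simp only [glue, map_add, map_smul] at h1
  rw [show x (u' : V) = x ((t ^ 0) u') by simp, show x (t (u : V)) = x ((t ^ 1) u) by simp,
    hs.form_apply hzw hzt hform u'.2 0, hs.form_apply hzw hzt hform u.2 1, hs.form_apply hzw hzt hform u.2 2,
    map_smul, map_smul, map_smul, hs.cp_tpow_any (hs.z_mem_eig hzw u'.2) (j + 0) hj,
    hs.cp_tpow_any (hs.z_mem_eig hzw u.2) (j + 1) hj, hs.cp_tpow_any (hs.z_mem_eig hzw u.2) (j + 2) hj,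
    Nat.add_zero, Nat.mod_eq_of_lt hj, if_pos rfl, pow_zero, one_pow, mul_one] at h1
  have hne1 : ¬ j = (j + 1) % r := fun h => by
    have h2 := Nat.div_add_mod (j + 1) r
    rw [← h] at h2
    have := hs.prime.two_le
    rcases Nat.eq_zero_or_pos ((j + 1) / r) with h4 | h4
    · rw [h4] at h2; omega
    · have : r ≤ r * ((j + 1) / r) := Nat.le_mul_of_pos_right r h4
      omega
  rw [if_neg hne1, smul_zero, add_zero] at h1
  have hne2 : c = 0 ∨ ¬ j = (j + 2) % r := by
    rcases hc with ⟨-, hc⟩ | ⟨h3, -⟩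
    · exact Or.inl hc
    · refine Or.inr fun h => ?_
      have h2 := Nat.div_add_mod (j + 2) r
      rw [← h] at h2
      rcases Nat.eq_zero_or_pos ((j + 2) / r) with h4 | h4
      · rw [h4] at h2; omega
      · have : r ≤ r * ((j + 2) / r) := Nat.le_mul_of_pos_right r h4
        omega
  have h2 : τ⁻¹ • (t ^ j) (z (u' : V)) = a • ((if j = 1 then t (u : V) else 0) + (if j = 2 % r then c • (t ^ 2) (u : V) else 0)) := by
    rcases hne2 with h | h
    · simpa [h] using h1
    · rwa [if_neg h, smul_zero, smul_zero, add_zero] at h1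
  obtain ⟨e, he⟩ : ∃ e : K, (if j = 1 then t (u : V) else 0) + (if j = 2 % r then c • (t ^ 2) (u : V) else 0) =
      e • (t ^ j) (u : V) := by
    refine ⟨(if j = 1 then 1 else 0) + (if j = 2 % r then c else 0), ?_⟩
    have h2r : c = 0 ∨ 2 % r = 2 := by
      rcases hc with ⟨-, hc⟩ | ⟨h3, -⟩
      · exact Or.inl hc
      · exact Or.inr (Nat.mod_eq_of_lt (by omega))
    rw [add_smul]
    congr 1
    · split_ifs with hh
      · subst hh; rw [one_smul, pow_one]
      · rw [zero_smul]
    · split_ifs with hh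
      · rcases h2r with h' | h'
        · rw [h', zero_smul, zero_smul]
        · rw [h'] at hh; rw [hh]
      · rw [zero_smul]
  rw [he, inv_smul_eq_iff₀ hτ, smul_smul, smul_smul, ← map_smul] at h2
  exact hav y hy (τ * (a * e)) (Subtype.ext (by rw [hye, (t ^ j).injective h2, mul_assoc]; rfl))

/-- The induction step. -/
theorem peel_good {p : ℕ} {H : Subgroup (V ≃ₗ[K] V)} (hH : Acts p N H)
    (hgood : Good (N0 N w t) (H0 N H w)) {c : K}
    (hc : (r = 2 ∧ c = 0) ∨ (3 ≤ r ∧ c ≠ 0 ∧ c ^ 3 * τ ≠ 1)) : Good N H := by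
  obtain ⟨u, u', hu, hreg, hfree, hav⟩ := hgood
  have hc' : (r = 2 ∧ c = 0) ∨ (3 ≤ r ∧ c ≠ 0) := hc.imp id fun h => ⟨h.1, h.2.1⟩
  have hu' : u' ≠ 0 := by
    rintro rfl
    exact hav 1 (N0 N w t).one_mem 0 (by simp)
  have hav' := hs.peel_avoids hN hu hc' (Or.inl hu')
  refine ⟨_, u, fun e => ?_, hs.peel_reg hN hH hu hfree hreg hc,
    hs.peel_free hN hu hfree hc' (Or.inl hu') (hs.shift_of_avoids hN hav hc'), hav'⟩
  have h1 := congrArg (cp r w ζ 1) e
  rw [map_zero, hs.cp_glue u.2 u'.2 c hs.prime.one_lt, if_neg one_ne_zero, if_pos rfl, zero_add] at h1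
  rcases hc' with ⟨-, hc0⟩ | ⟨h3, -⟩
  · rw [hc0] at h1
    exact hu (Subtype.ext (t.map_eq_zero_iff.1 (by simpa using h1)))
  · rw [if_neg (by rw [Nat.mod_eq_of_lt (by omega : 2 < r)]; norm_num), add_zero] at h1
    exact hu (Subtype.ext (t.map_eq_zero_iff.1 h1))

end Split

end CfsgLib.CoprimeBase
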