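import Mathlib
import Cfsg.Agent.Lib.FgsC.CoprimeBase.Basic
import Cfsg.Agent.Lib.FgsC.CoprimeBase.Step

/-!
# The ends of the induction: scalar groups, lines and anisotropic pairs
-/

set_option autoImplicit false

universe u v

namespace CfsgLib.CoprimeBase

variable {K : Type u} [Field K] {V : Type v} [AddCommGroup V] [Module K V] {N H : Subgroup (V ≃ₗ[K] V)}

/-- A scalar group leaves everything regular. -/
theorem reg_of_scalar (hsc : ∀ x ∈ N, IsScalar x) (u u' : V) : Reg N H u u' :=
  fun g _ _ _ x hx => ((hsc x hx).comm g).symm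

/-- Scalars on a space of dimension at least two. -/
theorem good_of_scalar [Finite V] (hd : 2 ≤ Module.finrank K V) (hsc : ∀ x ∈ N, IsScalar x) : Good N H := by
  haveI : Module.Finite K V := Module.Finite.of_finite
  haveI : Module.Free K V := Module.Free.of_divisionRing K V
  let b := Module.finBasis K V
  refine ⟨b ⟨0, by omega⟩, b ⟨1, by omega⟩, b.ne_zero _, reg_of_scalar hsc _ _, fun x hx _ _ => hsc x hx,
    fun x hx a h => ?_⟩
  obtain ⟨c, hc⟩ := hsc x hx
  rw [hc] at h
  have h1 := congrArg (fun v => b.repr v ⟨1, by omega⟩) h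
  simp [Finsupp.single_apply, Fin.ext_iff] at h1
  subst h1
  exact b.ne_zero ⟨1, by omega⟩ (x.map_eq_zero_iff.1 (by rw [hc, zero_smul]))

/-- A plane has a pair of independent vectors. -/
theorem reg_of_plane [Finite V] (hd : Module.finrank K V = 2) : ∃ u u' : V, u ≠ 0 ∧ Reg N H u u' := by
  haveI : Module.Finite K V := Module.Finite.of_finite
  let b := Module.finBasisOfFinrankEq K V hd
  refine ⟨b 0, b 1, b.ne_zero _, fun g _ h0 h1 x _ => ?_⟩
  have hg : g = 1 := LinearEquiv.toLinearMap_injective (b.ext fun i => by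
    fin_cases i
    · exact h0
    · exact h1)
  rw [hg, one_mul, mul_one]

/-- Some non-zero `c` has `c ^ 3 * τ ≠ 1`. -/
theorem exists_cube_ne [Finite K] (hq : 5 ≤ Nat.card K) (τ : K) : ∃ c : K, c ≠ 0 ∧ c ^ 3 * τ ≠ 1 := by
  by_contra hcon
  push Not at hcon
  obtain ⟨g, hg⟩ := IsCyclic.exists_generator (α := Kˣ)
  have h1 := hcon 1 one_ne_zero
  rw [one_pow, one_mul] at h1
  have h2 := hcon (g : K) g.ne_zero
  rw [h1, mul_one, ← Units.val_pow_eq_pow_val] at h2
  have h3 : orderOf g ∣ 3 := orderOf_dvd_of_pow_eq_one (Units.ext h2)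
  rw [orderOf_eq_card_of_forall_mem_zpowers hg, Nat.card_units] at h3
  have := Nat.le_of_dvd (by norm_num) h3
  omega

namespace Split

variable {r : ℕ} {w t : V ≃ₗ[K] V} {ζ τ : K} (hs : Split N r w t ζ τ) (hN : Ext N) [Nontrivial V] [Finite V]

omit hN [Nontrivial V] [Finite V] in
include hs in
theorem prime_dvd_card [Finite K] : r ∣ Nat.card K - 1 := by
  rw [← Nat.card_units K]
  have h : (Units.mk0 ζ hs.zeta_ne_zero) ^ r = 1 := Units.ext (by simpa using hs.root.pow_eq_one)
  haveI : Fact r.Prime := ⟨hs.prime⟩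
  rw [← orderOf_eq_prime h (fun e => hs.root.ne_one hs.prime.one_lt (by simpa using congrArg Units.val e))]
  exact orderOf_dvd_natCard _

include hs hN

/-- The step from a line. -/
theorem good_of_line {p : ℕ} (hH : Acts p N H) (hd : Module.finrank K (eig w) = 1) {c e : K}
    (hce : (r = 2 ∧ c = 0 ∧ e ≠ 0 ∧ e * e ≠ τ ∧ e * e ≠ -τ) ∨ (3 ≤ r ∧ c ≠ 0 ∧ c ^ 3 * τ ≠ 1 ∧ e = 0)) :
    Good N H := by
  haveI := hs.eig_nontrivial
  have hτ := hs.tau_ne_zero
  obtain ⟨u, hu⟩ := exists_ne (0 : eig w)
  have hu0 : (u : V) ≠ 0 := fun h => hu (Subtype.ext h)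
  have hsc : ∀ y : eig w ≃ₗ[K] eig w, IsScalar y := fun y => by
    obtain ⟨a, ha⟩ := (finrank_eq_one_iff_of_nonzero' u hu).1 hd (y u)
    refine ⟨a, fun v => ?_⟩
    obtain ⟨b, rfl⟩ := (finrank_eq_one_iff_of_nonzero' u hu).1 hd v
    rw [map_smul, ← ha, smul_comm]
  have hfree : LineFree (N0 N w t) u := fun y _ _ _ => hsc y
  have hc : (r = 2 ∧ c = 0) ∨ (3 ≤ r ∧ c ≠ 0 ∧ c ^ 3 * τ ≠ 1) :=
    hce.imp (fun h => ⟨h.1, h.2.1⟩) fun h => ⟨h.1, h.2.1, h.2.2.1⟩
  have hc' : (r = 2 ∧ c = 0) ∨ (3 ≤ r ∧ c ≠ 0) := hc.imp id fun h => ⟨h.1, h.2.1⟩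
  have hnz : e • u ≠ 0 ∨ c ≠ 0 := hce.imp (fun h => smul_ne_zero h.2.2.1 hu) fun h => h.2.1
  refine ⟨glue t c (u : V) (e • u : eig w), u, fun he => ?_,
    hs.peel_reg hN hH hu hfree (reg_of_scalar (fun y _ => hsc y) _ _) hc,
    hs.peel_free hN hu hfree hc' hnz ?_, hs.peel_avoids hN hu hc' hnz⟩
  · have h1 := congrArg (cp r w ζ 1) he
    rw [map_zero, hs.cp_glue u.2 (e • u : eig w).2 c hs.prime.one_lt, if_neg one_ne_zero, if_pos rfl, zero_add] at h1
    rcases hc' with ⟨-, hc0⟩ | ⟨h3, -⟩
    · rw [hc0] at h1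
      exact hu0 (t.map_eq_zero_iff.1 (by simpa using h1))
    · rw [if_neg (by rw [Nat.mod_eq_of_lt (by omega : 2 < r)]; norm_num), add_zero] at h1
      exact hu0 (t.map_eq_zero_iff.1 h1)
  intro j hj hj0 l x z hz hzw hzt hform a hxa
  obtain ⟨y, -, hye⟩ := hs.mem_N0_of_comm hN hz hzw hzt
  obtain ⟨b, hb⟩ := hsc y
  have hzu : z u = b • (u : V) := by rw [← hye, hb]; rfl
  have hb0 : b ≠ 0 := by
    rintro rfl
    exact hu0 (z.map_eq_zero_iff.1 (by rw [hzu, zero_smul]))
  rcases hce with ⟨rfl, rfl, he0, he1, he2⟩ | ⟨h3, hc0, -, rfl⟩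
  · obtain rfl : j = 1 := by omega
    have h0 := congrArg (cp 2 w ζ 0) hxa
    have h1 := congrArg (cp 2 w ζ 1) hxa
    have e0 := hs.form_apply hzw hzt hform u.2 0
    have e1 := hs.form_apply hzw hzt hform u.2 1
    simp only [pow_zero, one_app, pow_one, one_pow, mul_one, Nat.add_zero, hzu, map_smul] at e0 e1
    rw [show (t ^ (1 + 1)) (u : V) = τ • (u : V) from hs.tr _, smul_smul] at e1
    have c0 := hs.cp_tpow u.2 (show 0 < 2 by norm_num) (show 0 < 2 by norm_num)
    have c1 := hs.cp_tpow u.2 (show 1 < 2 by norm_num) (show 0 < 2 by norm_num)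
    have d0 := hs.cp_tpow u.2 (show 0 < 2 by norm_num) (show 1 < 2 by norm_num)
    have d1 := hs.cp_tpow u.2 (show 1 < 2 by norm_num) (show 1 < 2 by norm_num)
    simp only [pow_zero, one_app, pow_one, if_true, if_false, zero_ne_one, one_ne_zero] at c0 c1 d0 d1
    simp only [glue, Submodule.coe_smul, map_add, map_smul, zero_smul, add_zero, e0, e1, c0, c1, d0, d1,
      smul_zero, zero_add, smul_smul] at h0 h1
    have k0 := smul_left_injective K hu0 h0
    have k1 := smul_left_injective K (fun h => hu0 (t.map_eq_zero_iff.1 h)) h1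
    have hζ : ζ = -1 := hs.root.eq_neg_one_of_two_right
    have hl : ζ ^ l = 1 ∨ ζ ^ l = -1 := by
      rw [hζ]; exact neg_one_pow_eq_or K l
    field_simp at k0 k1
    rcases hl with h | h <;> rw [h] at k0
    · exact he1 (mul_left_cancel₀ hb0 (by linear_combination e * k1 - τ * k0))
    · exact he2 (mul_left_cancel₀ hb0 (by linear_combination e * k1 - τ * k0))
  · simp only [zero_smul] at hxa
    have h21 : 2 % r = 2 := Nat.mod_eq_of_lt (by omega)
    have hmem : z u ∈ eig w := hs.z_mem_eig hzw u.2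
    have hx : ∀ i < r, cp r w ζ i (x (glue t c (u : V) (0 : eig w))) =
        (if i = (j + 1) % r then (τ⁻¹ * (ζ ^ 1) ^ l) • (t ^ (j + 1)) (z u) else 0) +
          (if i = (j + 2) % r then c • (τ⁻¹ * (ζ ^ 2) ^ l) • (t ^ (j + 2)) (z u) else 0) := fun i hi => by
      have e1 := hs.form_apply hzw hzt hform u.2 1
      rw [pow_one t] at e1
      simp only [glue, Submodule.coe_zero, zero_add, map_add, map_smul]
      rw [e1, hs.form_apply hzw hzt hform u.2 2]
      simp only [map_smul, hs.cp_tpow_any hmem _ hi]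
      split_ifs <;> simp
    have hne : ∀ k, (t ^ k) (z (u : V)) ≠ 0 := fun k h =>
      hu0 (z.map_eq_zero_iff.1 ((t ^ k).map_eq_zero_iff.1 h))
    have hk : ∀ i, τ⁻¹ * (ζ ^ i) ^ l ≠ 0 := fun i =>
      mul_ne_zero (inv_ne_zero hτ) (pow_ne_zero _ (pow_ne_zero _ hs.zeta_ne_zero))
    have hmod : ∀ k, k ≤ 2 → (j + k) % r = if j + k < r then j + k else j + k - r := fun k hk => by
      split_ifs with h
      · exact Nat.mod_eq_of_lt h
      · rw [Nat.mod_eq_sub_mod (by omega), Nat.mod_eq_of_lt (by omega)]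
    have h0 := congrArg (cp r w ζ 0) hxa
    rw [hx 0 hs.prime.pos, map_smul, hs.cp_glue u.2 (0 : eig w).2 c hs.prime.pos, h21, hmod 1 (by omega),
      hmod 2 (by omega), if_pos rfl, if_neg zero_ne_one, if_neg (show ¬ (0 : ℕ) = 2 by norm_num)] at h0
    simp only [Submodule.coe_zero, add_zero, smul_zero] at h0
    by_cases hj2 : j + 2 = r
    · rw [if_pos (show j + 1 < r by omega), if_neg (show ¬ j + 2 < r by omega),
        if_neg (show ¬ 0 = j + 1 by omega), if_pos (show 0 = j + 2 - r by omega), zero_add, smul_smul] at h0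
      exact hne _ ((smul_eq_zero_iff_right (mul_ne_zero hc0 (hk 2))).1 h0)
    by_cases hj1 : j + 1 = r
    · rw [if_neg (show ¬ j + 1 < r by omega), if_pos (show 0 = j + 1 - r by omega),
        if_neg (show ¬ j + 2 < r by omega), if_neg (show ¬ 0 = j + 2 - r by omega), add_zero] at h0
      exact hne _ ((smul_eq_zero_iff_right (hk 1)).1 h0)
    have h1 := congrArg (cp r w ζ 1) hxa
    rw [hx 1 hs.prime.one_lt, map_smul, hs.cp_glue u.2 (0 : eig w).2 c hs.prime.one_lt, h21, hmod 1 (by omega),
      hmod 2 (by omega), if_neg one_ne_zero, if_pos rfl, if_neg (show ¬ (1 : ℕ) = 2 by norm_num),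
      if_pos (show j + 1 < r by omega), if_pos (show j + 2 < r by omega), if_neg (show ¬ 1 = j + 1 by omega),
      if_neg (show ¬ 1 = j + 2 by omega), zero_add, zero_add, add_zero] at h1
    rcases smul_eq_zero.1 h1.symm with h | h
    · rw [h, zero_smul] at hxa
      have h2 := x.map_eq_zero_iff.1 hxa
      have h3 := congrArg (cp r w ζ 1) h2
      rw [map_zero, hs.cp_glue u.2 (0 : eig w).2 c hs.prime.one_lt, h21, if_neg one_ne_zero, if_pos rfl,
        if_neg (by norm_num), zero_add, add_zero] at h3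
      exact hu0 (t.map_eq_zero_iff.1 h3)
    · exact hu0 (t.map_eq_zero_iff.1 h)

end Split

namespace Aniso

variable {n t : V ≃ₗ[K] V} (ha : Aniso N n t)
include ha

theorem nsq {x : V} (hx : x ≠ 0) {μ : K} (h : n x = μ • x) : False := by
  refine ha.nonsq ⟨μ, ?_⟩
  have h1 := ha.n2 x
  rw [h, map_smul, h, smul_smul, ← neg_one_smul K x] at h1
  exact (smul_left_injective K hx h1).symm

/-- No non-scalar element has an eigenvector. -/
theorem free {u : V} (hu : u ≠ 0) : LineFree N u := by
  intro x hx a hxa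
  obtain ⟨s, h | h | h | h⟩ := ha.exhaust x hx <;> subst h
  · exact isScalar_sc s
  all_goals exfalso; rw [LinearEquiv.mul_apply, sc_apply] at hxa
  · refine ha.nsq hu (μ := (s : K)⁻¹ * a) ?_
    rw [mul_smul, ← hxa, inv_smul_smul₀ s.ne_zero]
  · refine ha.nonsq ⟨(s : K)⁻¹ * a, ?_⟩
    have h1 : t u = ((s : K)⁻¹ * a) • u := by rw [mul_smul, ← hxa, inv_smul_smul₀ s.ne_zero]
    have h2 := ha.t2 u
    rw [h1, map_smul, h1, smul_smul, ← neg_one_smul K u] at h2
    exact (smul_left_injective K hu h2).symm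
  · refine ha.nonsq ⟨(s : K)⁻¹ * a, ?_⟩
    rw [LinearEquiv.mul_apply] at hxa
    have h1 : n (t u) = ((s : K)⁻¹ * a) • u := by rw [mul_smul, ← hxa, inv_smul_smul₀ s.ne_zero]
    have h2 : n (t (n (t u))) = -u := by
      rw [ha.anti, neg_one_smul, ha.n2, map_neg, ha.t2, neg_neg]
    rw [h1, map_smul, map_smul, h1, smul_smul, ← neg_one_smul K u] at h2
    exact (smul_left_injective K hu h2).symm

/-- The pair on an anisotropic group, given a suitable combination. -/
theorem plane {a b : K} (hab : a * a + b * b = -1) {u : V} (hu : u ≠ 0)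
    (hz : a • n u + b • t u = u) : b ≠ 0 ∧ t u = b⁻¹ • (u - a • n u) ∧
      ∀ x ∈ N, ∃ A B : K, x u = A • u + B • n u := by
  have hb : b ≠ 0 := by
    rintro rfl
    exact ha.nonsq ⟨a, by linear_combination -hab⟩
  have ht : t u = b⁻¹ • (u - a • n u) := by
    rw [eq_inv_smul_iff₀ hb, eq_sub_iff_add_eq, add_comm]
    exact hz
  refine ⟨hb, ht, fun x hx => ?_⟩
  obtain ⟨s, h | h | h | h⟩ := ha.exhaust x hx <;> subst h
  · exact ⟨s, 0, by simp⟩
  · exact ⟨0, s, by simp⟩
  · refine ⟨(s : K) * b⁻¹, -((s : K) * (b⁻¹ * a)), ?_⟩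
    rw [LinearEquiv.mul_apply, sc_apply, ht]
    module
  · refine ⟨(s : K) * (b⁻¹ * a), (s : K) * b⁻¹, ?_⟩
    rw [LinearEquiv.mul_apply, LinearEquiv.mul_apply, sc_apply, ht, map_smul, map_sub, map_smul, ha.n2]
    module

theorem exists_vector [Finite K] [Nontrivial V] (h2 : (2 : K) ≠ 0) :
    ∃ (a b : K) (u : V), u ≠ 0 ∧ a * a + b * b = -1 ∧ a • n u + b • t u = u := by
  classical
  haveI := Fintype.ofFinite K
  obtain ⟨a, b, hab⟩ := FiniteField.exists_root_sum_quadratic (R := K) (f := Polynomial.X ^ 2)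
    (g := Polynomial.X ^ 2 - Polynomial.C (-1)) (Polynomial.degree_X_pow 2)
    (Polynomial.degree_X_pow_sub_C (by norm_num) _)
    (by
      haveI : CharP K (ringChar K) := ringChar.charP K
      have hchar : ringChar K ≠ 2 := fun h => h2 (by
        have := ringChar.Nat.cast_ringChar (R := K)
        rwa [h, Nat.cast_ofNat] at this)
      exact FiniteField.odd_card_of_char_ne_two hchar)
  simp only [Polynomial.eval_pow, Polynomial.eval_X, Polynomial.eval_sub, Polynomial.eval_C] at hab
  have hab' : a * a + b * b = -1 := by linear_combination hab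
  obtain ⟨v, hv⟩ := exists_ne (0 : V)
  by_cases hsum : v + (a • n v + b • t v) = 0
  · refine ⟨a, b, n (t v), fun h => hv (t.map_eq_zero_iff.1 (n.map_eq_zero_iff.1 h)), hab', ?_⟩
    have hz : a • n v + b • t v = -v := eq_neg_of_add_eq_zero_right hsum
    have h1 : a • n (n (t v)) + b • t (n (t v)) = -(n (t (a • n v + b • t v))) := by
      rw [ha.n2, map_add, map_add, map_smul, map_smul, map_smul, map_smul, ha.t2, map_neg]
      have h3 : n (t (n v)) = t v := by
        rw [ha.anti, neg_one_smul, ha.n2, map_neg, neg_neg]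
      have h4 : t (n (t v)) = n v := by
        have h5 := ha.anti (t v)
        rw [ha.t2, map_neg, neg_one_smul, neg_inj] at h5
        exact h5.symm
      rw [h3, h4]
      module
    rw [h1, hz, map_neg, map_neg, neg_neg]
  · refine ⟨a, b, _, hsum, hab', ?_⟩
    have h3 : n (t v) = -t (n v) := by rw [ha.anti, neg_one_smul]
    simp only [map_add, map_smul, ha.n2, ha.t2, h3]
    match_scalars <;> first | linear_combination hab' | linear_combination -hab' | ring

variable {p : ℕ} [Fact p.Prime] (hN : Ext N) (hH : Acts p N H) [Finite V]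

omit [Fact p.Prime] hH in
include hN in
/-- Fixing the plane pointwise centralises. -/
theorem reg_of_plane_fixed (hH : Acts p N H) {u : V} (hu : u ≠ 0) {g : V ≃ₗ[K] V} (hg : g ∈ H) (hgu : g u = u)
    (hP : ∀ x ∈ N, ∃ A B : K, x u = A • u + B • n u) (hgn : g (n u) = n u) : ∀ x ∈ N, g * x = x * g := by
  haveI : Nontrivial V := nontrivial_of_ne u 0 hu
  intro x hx
  have hx' : g * x * g⁻¹ ∈ N := hH.normalises g hg x hx
  obtain ⟨A, B, hAB⟩ := hP x hx
  have hfix : (x⁻¹ * (g * x * g⁻¹)) u = (1 : K) • u := by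
    have h1 : g⁻¹ u = u := g.injective (by rw [apply_inv, hgu])
    rw [one_smul, LinearEquiv.mul_apply, LinearEquiv.mul_apply, LinearEquiv.mul_apply, h1, hAB, map_add, map_smul,
      map_smul, hgu, hgn, ← hAB, inv_apply_self]
  obtain ⟨c, hc⟩ := ha.free hu _ (N.mul_mem (N.inv_mem hx) hx') 1 hfix
  have hc1 : c = 1 := smul_left_injective K hu ((hc u).symm.trans hfix)
  subst hc1
  have h2 : x⁻¹ * (g * x * g⁻¹) = 1 := LinearEquiv.ext fun v => by rw [hc, one_smul]; rfl
  exact mul_inv_eq_iff_eq_mul.1 (inv_mul_eq_one.1 h2).symm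

include hN in
/-- The anisotropic case. -/
theorem good [Finite K] (hH : Acts p N H) (hp : (p : K) = 0) (h2 : (2 : K) ≠ 0) [Nontrivial V]
    (hbig : 4 ≤ Nat.card K ∨ 3 ≤ Module.finrank K V) : Good N H := by
  classical
  obtain ⟨a, b, u, hu, hab, hz⟩ := ha.exists_vector h2
  obtain ⟨hb, ht, hP⟩ := ha.plane hab hu hz
  have hind : ∀ A B : K, A • u + B • n u = 0 → A = 0 ∧ B = 0 := by
    intro A B h
    by_cases hB : B = 0
    · rw [hB, zero_smul, add_zero, smul_eq_zero] at h
      exact ⟨h.resolve_right hu, hB⟩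
    · refine (ha.nsq hu (μ := -(B⁻¹ * A)) ?_).elim
      rw [add_eq_zero_iff_eq_neg'] at h
      calc n u = B⁻¹ • (B • n u) := (inv_smul_smul₀ hB _).symm
        _ = _ := by rw [h]; module
  rcases hbig with hq | hd
  · -- a vector of the plane off the four lines
    obtain ⟨k, hk0, hka, hkb⟩ : ∃ k : K, k ≠ 0 ∧ k ≠ -a ∧ k * a ≠ 1 := by
      haveI := Fintype.ofFinite K
      obtain ⟨k, hk⟩ : ∃ k : K, k ∉ ({0, -a, a⁻¹} : Finset K) := by
        by_contra hall
        push Not at hall
        have h := Finset.card_le_card (show (Finset.univ : Finset K) ⊆ {0, -a, a⁻¹} from fun k _ => hall k)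
        rw [Finset.card_univ, ← Nat.card_eq_fintype_card] at h
        have h3 := Finset.card_le_three (a := (0 : K)) (b := -a) (c := a⁻¹)
        omega
      simp only [Finset.mem_insert, Finset.mem_singleton, not_or] at hk
      exact ⟨k, hk.1, hk.2.1, fun h => hk.2.2 (eq_inv_of_mul_eq_one_left h)⟩
    refine ⟨u, u + k • n u, hu, fun g hg hgu hgu' => ?_, ha.free hu, fun x hx c hxc => ?_⟩
    · refine ha.reg_of_plane_fixed hN hH hu hg hgu hP ?_
      rw [map_add, map_smul, hgu, add_right_inj] at hgu'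
      exact smul_right_injective V hk0 hgu'
    · obtain ⟨s, h | h | h | h⟩ := ha.exhaust x hx <;> subst h <;>
        simp only [LinearEquiv.mul_apply, sc_apply, map_add, map_smul, ha.n2] at hxc
      · obtain ⟨-, h2⟩ := hind ((s : K) - c) ((s : K) * k) (by linear_combination (norm := module) hxc)
        exact mul_ne_zero s.ne_zero hk0 h2
      · obtain ⟨-, h2⟩ := hind (-((s : K) * k) - c) (s : K) (by linear_combination (norm := module) hxc)
        exact s.ne_zero h2
      · rw [ha.anti.symm (by simp) u, inv_neg, inv_one, ht, map_smul, map_sub, map_smul, ha.n2] at hxc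
        obtain ⟨-, h2⟩ := hind ((s : K) * (b⁻¹ - k * (b⁻¹ * a)) - c) ((s : K) * (-(b⁻¹ * a) - k * b⁻¹))
          (by linear_combination (norm := module) hxc)
        refine hka ?_
        field_simp at h2
        simp [s.ne_zero] at h2
        linear_combination -h2
      · rw [ha.anti.symm (by simp) u, inv_neg, inv_one, ht] at hxc
        simp only [map_smul, map_sub, map_add, ha.n2, map_neg] at hxc
        obtain ⟨-, h2⟩ := hind ((s : K) * (b⁻¹ * a + k * b⁻¹) - c) ((s : K) * (b⁻¹ - k * (b⁻¹ * a)))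
          (by linear_combination (norm := module) hxc)
        refine hkb ?_
        field_simp at h2
        simp [s.ne_zero] at h2
        linear_combination -h2
  · -- a vector outside the plane
    set E : V → Prop := fun v => a • n v + b • t v = v with hE
    obtain ⟨v, hvE, hv⟩ : ∃ v, E v ∧ ∀ c : K, v ≠ c • u := by
      by_contra hcon
      push Not at hcon
      haveI : Module.Finite K V := Module.Finite.of_finite
      have hspan : (⊤ : Submodule K V) ≤ Submodule.span K {u, n (t u)} := by
        intro v _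
        have hsolve : ∀ x : V, E ((2 : K)⁻¹ • (x + (a • n x + b • t x))) := fun x => by
          have h3 : n (t x) = -t (n x) := by rw [ha.anti, neg_one_smul]
          simp only [hE, map_smul, map_add, ha.n2, ha.t2, h3]
          match_scalars <;> first | linear_combination (-(2 : K)⁻¹) * hab | linear_combination ((2 : K)⁻¹) * hab | ring
        obtain ⟨c1, hc1⟩ := hcon _ (hsolve v)
        obtain ⟨c2, hc2⟩ := hcon _ (hsolve (t (n v)))
        have h4 : n (t ((2 : K)⁻¹ • (t (n v) + (a • n (t (n v)) + b • t (t (n v)))))) =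
            (2 : K)⁻¹ • (v - (a • n v + b • t v)) := by
          have h3 : ∀ x, n (t x) = -t (n x) := fun x => by rw [ha.anti, neg_one_smul]
          simp only [map_smul, map_add, map_neg, ha.n2, ha.t2, h3, neg_neg, smul_neg]
          module
        have hv' : v = c1 • u + c2 • n (t u) := by
          rw [← map_smul, ← map_smul, ← hc2, ← hc1, h4, ← smul_add]
          rw [show v + (a • n v + b • t v) + (v - (a • n v + b • t v)) = (2 : K) • v by module,
            inv_smul_smul₀ h2]
        rw [hv']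
        exact Submodule.add_mem _ (Submodule.smul_mem _ _ (Submodule.subset_span (by simp)))
          (Submodule.smul_mem _ _ (Submodule.subset_span (by simp)))
      have h1 := Submodule.finrank_mono hspan
      rw [finrank_top] at h1
      have h5 := (finrank_span_finset_le_card (R := K) ({u, n (t u)} : Finset V)).trans Finset.card_le_two
      rw [Finset.coe_insert, Finset.coe_singleton] at h5
      unfold Set.finrank at h5
      omega
    have hzn : ¬ E (n u) := fun h => by
      simp only [hE, ha.n2, ha.anti.symm (by simp : (-1 : K) ≠ 0) u, inv_neg, inv_one, ht, map_smul, map_sub] at h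
      obtain ⟨-, h3⟩ := hind (-(2 * a)) (-2) (by
        linear_combination (norm := match_scalars <;> (first | (field_simp; ring) | ring)) h)
      exact h2 (by linear_combination -h3)
    have hPE : ∀ A B : K, E (A • u + B • n u) → B = 0 := fun A B h => by
      by_contra hB
      refine hzn ((smul_right_injective V hB) ?_)
      simp only [hE, map_add, map_smul] at h ⊢
      linear_combination (norm := module) h - A • hz
    have hgE : ∀ g ∈ H, g u = u → ∀ x, E x → E (g x) := by
      intro g hg hgu x hx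
      have hgi : g⁻¹ ∈ H := H.inv_mem hg
      have hgiu : g⁻¹ u = u := g.injective (by rw [apply_inv, hgu])
      obtain ⟨An, Bn, hn'⟩ := hP _ (hH.normalises g⁻¹ hgi n ha.hn)
      have hx1 : ∀ y ∈ N, ∀ A B : K, y u = A • u + B • n u → y x = A • x + B • n x := by
        intro y hy A B hy'
        have htx : t x = b⁻¹ • (x - a • n x) := by
          rw [eq_inv_smul_iff₀ hb, eq_sub_iff_add_eq, add_comm]; exact hx
        obtain ⟨s, h | h | h | h⟩ := ha.exhaust y hy <;> subst h <;>
          simp only [LinearEquiv.mul_apply, sc_apply, ht, htx, map_smul, map_sub, ha.n2] at hy' ⊢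
        · obtain ⟨e1, e2⟩ := hind ((s : K) - A) (-B) (by linear_combination (norm := module) hy')
          rw [← sub_eq_zero.1 e1, neg_eq_zero.1 e2]; module
        · obtain ⟨e1, e2⟩ := hind (-A) ((s : K) - B) (by linear_combination (norm := module) hy')
          rw [neg_eq_zero.1 e1, ← sub_eq_zero.1 e2]; module
        · obtain ⟨e1, e2⟩ := hind ((s : K) * b⁻¹ - A) (-((s : K) * (b⁻¹ * a)) - B)
            (by linear_combination (norm := module) hy')
          rw [← sub_eq_zero.1 e1, ← sub_eq_zero.1 e2]; module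
        · obtain ⟨e1, e2⟩ := hind ((s : K) * (b⁻¹ * a) - A) ((s : K) * b⁻¹ - B)
            (by linear_combination (norm := module) hy')
          rw [← sub_eq_zero.1 e1, ← sub_eq_zero.1 e2]; module
      obtain ⟨At, Bt, ht'⟩ := hP _ (hH.normalises g⁻¹ hgi t ha.ht)
      have hu1 : a • (g⁻¹ * n * g⁻¹⁻¹) u + b • (g⁻¹ * t * g⁻¹⁻¹) u = u := by
        simp only [LinearEquiv.mul_apply, inv_inv, hgu]
        rw [← map_smul (g⁻¹ : V ≃ₗ[K] V) a (n u), ← map_smul (g⁻¹ : V ≃ₗ[K] V) b (t u), ← map_add, hz, hgiu]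
      rw [hn', ht'] at hu1
      obtain ⟨e1, e2⟩ := hind (a * An + b * At - 1) (a * Bn + b * Bt) (by linear_combination (norm := module) hu1)
      have hxe : a • (g⁻¹ * n * g⁻¹⁻¹) x + b • (g⁻¹ * t * g⁻¹⁻¹) x = x := by
        rw [hx1 _ (hH.normalises g⁻¹ hgi n ha.hn) An Bn hn', hx1 _ (hH.normalises g⁻¹ hgi t ha.ht) At Bt ht']
        rw [show a • (An • x + Bn • n x) + b • (At • x + Bt • n x) = (a * An + b * At) • x + (a * Bn + b * Bt) • n x
          by module, sub_eq_zero.1 e1, e2, one_smul, zero_smul, add_zero]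
      simp only [LinearEquiv.mul_apply, inv_inv] at hxe
      show a • n (g x) + b • t (g x) = g x
      have h3 := congrArg g hxe
      rwa [map_add, map_smul, map_smul, apply_inv, apply_inv] at h3
    have hvP : ∀ A B : K, v ≠ A • u + B • n u := fun A B h => by
      have hB := hPE A B (h ▸ hvE)
      rw [hB, zero_smul, add_zero] at h
      exact hv A h
    refine ⟨u, v + n u, hu, fun g hg hgu hgu' => ?_, ha.free hu, fun x hx c hxc => ?_⟩
    · refine ha.reg_of_plane_fixed hN hH hu hg hgu hP ?_
      obtain ⟨A, B, hAB⟩ := hP _ (hH.normalises g hg n ha.hn)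
      have hgn : g (n u) = A • u + B • n u := by
        rw [← hAB, LinearEquiv.mul_apply, LinearEquiv.mul_apply, show g⁻¹ u = u from g.injective (by rw [apply_inv, hgu])]
      rw [map_add, hgn] at hgu'
      have hgv : g v = v + (1 - B) • n u - A • u := by linear_combination (norm := module) hgu'
      have hB : B = 1 := by
        refine (sub_eq_zero.1 (hPE (-A) (1 - B) ?_)).symm
        have h3 := hgE g hg hgu v hvE
        simp only [hE, hgv, map_add, map_sub, map_smul] at h3 hvE ⊢
        linear_combination (norm := module) h3 - hvE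
      subst hB
      rw [one_smul] at hgn
      have hA : A = 0 := by
        have hpow : ∀ k : ℕ, (g ^ k) (n u) = ((k : K) * A) • u + n u := by
          intro k
          induction k with
          | zero => simp
          | succ k ih =>
            rw [pow_succ', LinearEquiv.mul_apply, ih, map_add, map_smul, hgu, hgn]
            push_cast
            module
        haveI : Finite (V ≃ₗ[K] V) := Finite.of_injective (fun f => (f : V → V)) DFunLike.coe_injective
        have h3 : (⟨g, hg⟩ : H) • n u = n u := fixed_of_pow hH.not_dvd (by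
          show (((⟨g, hg⟩ : H) ^ p : H) : V ≃ₗ[K] V) (n u) = n u
          rw [SubmonoidClass.coe_pow, hpow, hp, zero_mul, zero_smul, zero_add])
        change g (n u) = n u at h3
        rw [hgn, add_eq_right, smul_eq_zero] at h3
        exact h3.resolve_right hu
      rw [hA, zero_smul, zero_add] at hgn
      exact hgn
    · have hc : x (v + n u) = c • u := hxc
      obtain ⟨A, B, hAB⟩ := hP _ (N.inv_mem hx)
      refine hvP (c * A) (c * B - 1) ?_
      have h3 := congrArg (x⁻¹ : V ≃ₗ[K] V) hc
      rw [inv_apply_self, map_smul, hAB] at h3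
      linear_combination (norm := module) h3

end Aniso

end CfsgLib.CoprimeBase
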