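import Cfsg.Agent.Lib.FgsC.CoprimeBase.ColourMain
import Cfsg.Agent.Lib.FgsC.BaseTwo.Decomp

/-!
# Regular pairs from an invariant decomposition, for soluble groups of order prime to `p`

Pairwise inequivalent pairs on the pieces are distributed along a distinguishing colouring.
-/

set_option autoImplicit false

universe u

namespace CfsgLib.CoprimeBase

open MulAction CfsgLib.BaseTwo

variable {p : ℕ} [Fact p.Prime]
variable {A : Type u} [Group A] [Finite A] {V : Type u} [AddCommGroup V] [Finite V] [DistribMulAction A V]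

/-- A decomposition with at least two non-zero summands. -/
theorem hasPair_decomp (hs : Group.IsSolvable A) (hA : ¬ p ∣ Nat.card A) (hexp : ∀ v : V, p • v = 0)
    (hbelow : PairBelow.{u} p (Nat.card V)) (hp3 : 3 ≤ p)
    {Ω : Type u} [Fintype Ω] [Nontrivial Ω] [MulAction A Ω] (e : Ω → V →+ V)
    (hid : ∀ i v, e i (e i v) = e i v) (horth : ∀ i j, i ≠ j → ∀ v, e i (e j v) = 0)
    (hsum : ∀ v, v = ∑ i, e i v)
    (heq : ∀ (a : A) i v, a • e i v = e (a • i) (a • v)) (hne : ∀ i, ∃ v, e i v ≠ 0) : HasPair A V := by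
  classical
  have hsum' : ∀ v, v = ∑ i, e i v := hsum
  choose nz hnz using hne
  have hnzi : Function.Injective fun i => e i (nz i) := fun i j h => by
    by_contra hij
    refine hnz i ?_
    rw [← hid]
    exact (congrArg (e i) h).trans (horth i j hij _)
  obtain ⟨T, hT⟩ := exists_colour hp3 hs hA Ω
  -- the pieces
  let P : Ω → AddSubgroup V := fun i => (e i).range
  have hP : ∀ {i v}, v ∈ P i → e i v = v := fun {i v} => by
    rintro ⟨x, rfl⟩
    exact hid i x
  have hPsmul : ∀ (a : A) i v, v ∈ P i → a • v ∈ P (a • i) := fun a i v hv =>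
    ⟨a • v, by rw [← heq, hP hv]⟩
  have key : ∀ r : Ω, ∃ Pr : ZMod p → V × V, (∀ c, (Pr c).1 ∈ P r ∧ (Pr c).2 ∈ P r) ∧
      (∀ c, ∀ a : A, a • r = r → a • Pr c = Pr c → ∀ x ∈ P r, a • x = x) ∧
      (∀ c c', ∀ a : A, a • r = r → a • Pr c = Pr c' → c = c') := by
    intro r
    letI : DistribMulAction (stabilizer A r) (P r) :=
      { smul := fun a x => ⟨(a : A) • (x : V), by
          have := hPsmul (a : A) r x x.2
          rwa [mem_stabilizer_iff.1 a.2] at this⟩
        one_smul := fun x => Subtype.ext (one_smul A (x : V))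
        mul_smul := fun a b x => Subtype.ext (mul_smul (a : A) (b : A) (x : V))
        smul_zero := fun a => Subtype.ext (smul_zero (a : A))
        smul_add := fun a x y => Subtype.ext (smul_add (a : A) (x : V) (y : V)) }
    haveI : Nontrivial (P r) := ⟨⟨⟨e r (nz r), nz r, rfl⟩, 0, fun h => hnz r (congrArg Subtype.val h)⟩⟩
    have hlt : Nat.card (P r) < Nat.card V := by
      obtain ⟨j, hj⟩ := exists_ne r
      haveI := Fintype.ofFinite V
      rw [Nat.card_eq_fintype_card, Nat.card_eq_fintype_card]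
      refine Fintype.card_subtype_lt (x := e j (nz j)) fun h => hnz j ?_
      rw [← hP h, horth r j hj.symm]
    obtain ⟨Pr, hfix, hinj⟩ := exists_pairs (fun h => hA (h.trans (Subgroup.card_subgroup_dvd_card _)))
      (V := P r) (fun x => Subtype.ext (hexp (x : V)))
      (hbelow (stabilizer A r) inferInstance (fun h => hA (h.trans (Subgroup.card_subgroup_dvd_card _))) (P r)
        (fun x => Subtype.ext (hexp (x : V))) hlt)
    refine ⟨fun c => (((Pr c).1 : V), ((Pr c).2 : V)), fun c => ⟨(Pr c).1.2, (Pr c).2.2⟩,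
      fun c a ha h x hx => ?_, fun c c' a ha h => ?_⟩
    · exact congrArg Subtype.val (hfix c ⟨a, ha⟩ (Prod.ext (Subtype.ext (congrArg Prod.fst h))
        (Subtype.ext (congrArg Prod.snd h))) ⟨x, hx⟩)
    · exact hinj c c' ⟨a, ha⟩ (Prod.ext (Subtype.ext (congrArg Prod.fst h))
        (Subtype.ext (congrArg Prod.snd h)))
  choose pr hp hpfix hpq using key
  let rep : Ω → Ω := fun i => (Quotient.mk (orbitRel A Ω) i).out
  have hrep : ∀ i, ∃ g : A, g • rep i = i := fun i =>
    MulAction.mem_orbit_iff.1 (orbitRel_apply.1 ((orbitRel A Ω).iseqv.symm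
      (Quotient.exact (Quotient.out_eq (Quotient.mk (orbitRel A Ω) i)))))
  have hrepg : ∀ (g : A) i, rep (g • i) = rep i := fun g i =>
    congrArg Quotient.out (Quotient.sound (s := orbitRel A Ω) ⟨g, rfl⟩)
  choose t ht using hrep
  let ch : Ω → V × V := fun i => pr (rep i) (T i)
  have hch : ∀ i, (ch i).1 ∈ P (rep i) ∧ (ch i).2 ∈ P (rep i) := fun i => hp _ _
  let Q : Ω → V × V := fun i => t i • ch i
  have hQ : ∀ i, (Q i).1 ∈ P i ∧ (Q i).2 ∈ P i := fun i => by
    have h1 := hPsmul (t i) _ _ (hch i).1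
    have h2 := hPsmul (t i) _ _ (hch i).2
    rw [ht] at h1 h2
    exact ⟨h1, h2⟩
  have hcomp : ∀ f : Ω → V, (∀ i, f i ∈ P i) → ∀ i, e i (∑ j, f j) = f i := fun f hf i => by
    rw [map_sum, Finset.sum_eq_single i]
    · exact hP (hf i)
    · intro j _ hji
      rw [← hP (hf j)]
      exact horth i j hji.symm _
    · intro h; exact absurd (Finset.mem_univ i) h
  refine ⟨∑ i, (Q i).1, ∑ i, (Q i).2, fun a ha1 ha2 x => ?_⟩
  have hQa : ∀ i, a • Q i = Q (a • i) := fun i => by
    refine Prod.ext ?_ ?_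
    · show a • (Q i).1 = (Q (a • i)).1
      rw [← hcomp (fun j => (Q j).1) (fun j => (hQ j).1) i, heq, ha1, hcomp (fun j => (Q j).1) (fun j => (hQ j).1)]
    · show a • (Q i).2 = (Q (a • i)).2
      rw [← hcomp (fun j => (Q j).2) (fun j => (hQ j).2) i, heq, ha2, hcomp (fun j => (Q j).2) (fun j => (hQ j).2)]
  let h : Ω → A := fun i => (t (a • i))⁻¹ * a * t i
  have hh : ∀ i, h i • rep i = rep i := fun i => by
    simp only [h, mul_smul]
    rw [ht, inv_smul_eq_iff, ← hrepg a i]
    exact (ht _).symm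
  have hhc : ∀ i, h i • ch i = ch (a • i) := fun i => by
    simp only [h, mul_smul]
    rw [inv_smul_eq_iff]
    exact hQa i
  have hTa : ∀ i, T (a • i) = T i := fun i => by
    have h1 := hhc i
    simp only [ch, hrepg] at h1
    exact (hpq _ _ _ _ (hh i) h1).symm
  have hfix := hT a hTa
  rw [hsum' x, Finset.smul_sum]
  refine Finset.sum_congr rfl fun i _ => ?_
  have h1 : ∀ y ∈ P (rep i), h i • y = y := by
    have h2 := hhc i
    rw [hfix i] at h2
    exact hpfix _ _ _ (hh i) h2
  have h2 := h1 ((t i)⁻¹ • e i x) (by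
    have h4 := hPsmul (t i)⁻¹ i _ ⟨x, rfl⟩
    rwa [(inv_smul_eq_iff.2 (ht i).symm : (t i)⁻¹ • i = rep i)] at h4)
  simp only [h, hfix, mul_smul, smul_inv_smul] at h2
  exact (smul_left_cancel_iff _).1 h2

/-- A module that is not irreducible. -/
theorem hasPair_reducible (hss : Semisimple A V) (hs : Group.IsSolvable A) (hA : ¬ p ∣ Nat.card A) (hexp : ∀ v : V, p • v = 0)
    (hbelow : PairBelow.{u} p (Nat.card V)) (hp3 : 3 ≤ p)
    (hred : ¬ Irred A V) : HasPair A V := by
  classical
  rw [Irred] at hred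
  push Not at hred
  obtain ⟨U, hU, hU0, hU1⟩ := hred
  obtain ⟨W, hW, hUW, hUW'⟩ := hss U hU
  have hdec : ∀ v : V, ∃ u ∈ U, ∃ w ∈ W, u + w = v := fun v =>
    AddSubgroup.mem_sup.1 (hUW' ▸ AddSubgroup.mem_top v)
  choose pu hpu pw hpw hsum using hdec
  have huniq : ∀ v, ∀ u ∈ U, ∀ w ∈ W, u + w = v → u = pu v ∧ w = pw v := fun v u hu w hw h => by
    have h0 : u - pu v ∈ U ⊓ W := AddSubgroup.mem_inf.2 ⟨sub_mem hu (hpu v), by
      rw [show u - pu v = pw v - w by rw [sub_eq_sub_iff_add_eq_add, h, add_comm (pw v), hsum v]]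
      exact sub_mem (hpw v) hw⟩
    rw [hUW, AddSubgroup.mem_bot, sub_eq_zero] at h0
    refine ⟨h0, add_left_cancel (a := pu v) ?_⟩
    rw [hsum, ← h0, h]
  letI : MulAction A (ULift.{u} Bool) :=
    { smul := fun _ b => b, one_smul := fun _ => rfl, mul_smul := fun _ _ _ => rfl }
  have hadd : ∀ x y, pu (x + y) = pu x + pu y ∧ pw (x + y) = pw x + pw y := fun x y => by
    obtain ⟨h1, h2⟩ := huniq (x + y) _ (add_mem (hpu x) (hpu y)) _ (add_mem (hpw x) (hpw y))
      (by rw [add_add_add_comm, hsum, hsum])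
    exact ⟨h1.symm, h2.symm⟩
  let eU : V →+ V := AddMonoidHom.mk' pu fun x y => (hadd x y).1
  let eW : V →+ V := AddMonoidHom.mk' pw fun x y => (hadd x y).2
  have hUid : ∀ u ∈ U, pu u = u ∧ pw u = 0 := fun u hu => by
    obtain ⟨h1, h2⟩ := huniq u u hu 0 (zero_mem W) (add_zero u)
    exact ⟨h1.symm, h2.symm⟩
  have hWid : ∀ w ∈ W, pu w = 0 ∧ pw w = w := fun w hw => by
    obtain ⟨h1, h2⟩ := huniq w 0 (zero_mem U) w hw (zero_add w)
    exact ⟨h1.symm, h2.symm⟩
  refine hasPair_decomp hs hA hexp hbelow hp3 (Ω := ULift.{u} Bool)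
    (fun i => if i.down then eU else eW) ?_ ?_ ?_ ?_ ?_
  · rintro ⟨_ | _⟩ v
    · exact (hWid _ (hpw v)).2
    · exact (hUid _ (hpu v)).1
  · rintro ⟨_ | _⟩ ⟨_ | _⟩ hne v
    · exact absurd rfl hne
    · exact (hUid _ (hpu v)).2
    · exact (hWid _ (hpw v)).1
    · exact absurd rfl hne
  · intro v
    rw [← Equiv.ulift.symm.sum_comp, Fintype.sum_bool]
    exact (hsum v).symm
  · rintro a ⟨b⟩ v
    obtain ⟨h1, h2⟩ := huniq (a • v) _ (hU a _ (hpu v)) _ (hW a _ (hpw v)) (by rw [← smul_add, hsum])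
    cases b
    · exact h2
    · exact h1
  · rintro ⟨_ | _⟩
    · by_contra hall
      push Not at hall
      exact hU1 ((AddSubgroup.eq_top_iff' U).2 fun v => by
        rw [← hsum v, show pw v = 0 from hall v, add_zero]; exact hpu v)
    · obtain ⟨u, hu, hu0⟩ := (AddSubgroup.bot_or_exists_ne_zero U).resolve_left hU0
      exact ⟨u, fun h => hu0 ((hUid u hu).1.symm.trans h)⟩

/-- A commutative subring normalised by an irreducible group is a field, or there is a pair. -/
theorem field_or_hasPair (hs : Group.IsSolvable A) (hA : ¬ p ∣ Nat.card A) (hexp : ∀ v : V, p • v = 0)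
    (hbelow : PairBelow.{u} p (Nat.card V)) (hp3 : 3 ≤ p)
    (hirr : Irred A V) [Nontrivial V] (R : Subring (AddMonoid.End V))
    (hc : ∀ x ∈ R, ∀ y ∈ R, x * y = y * x) (hn : ∀ a : A, ∀ x ∈ R, cjEnd a x ∈ R) :
    (∀ x ∈ R, x ≠ 0 → ∃ y ∈ R, x * y = 1) ∨ HasPair A V := by
  classical
  haveI : Finite (AddMonoid.End V) :=
    Finite.of_injective (fun f : AddMonoid.End V => (f : V → V)) DFunLike.coe_injective
  have hidem : ∀ x ∈ R, ∃ m, 0 < m ∧ IsIdempotentElem (x ^ m) := by
    intro x _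
    obtain ⟨a, b, hab, heq⟩ := Finite.exists_ne_map_eq_of_infinite (fun n : ℕ => x ^ n)
    wlog hlt : a < b generalizing a b with H
    · exact H b a hab.symm heq.symm (by omega)
    set k := b - a with hk
    have hper : ∀ c, a ≤ c → x ^ (c + k) = x ^ c := fun c hc' => by
      rw [show c + k = b + (c - a) by omega, pow_add, ← (heq : x ^ a = x ^ b), ← pow_add]
      congr 1; omega
    have hmul : ∀ j c, a ≤ c → x ^ (c + j * k) = x ^ c := fun j => by
      induction j with
      | zero => simp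
      | succ j ih => intro c hc'; rw [add_one_mul, ← add_assoc, hper _ (by omega), ih c hc']
    have hma : a + 1 ≤ (a + 1) * k := Nat.le_mul_of_pos_right _ (by omega)
    refine ⟨(a + 1) * k, by omega, ?_⟩
    show x ^ ((a + 1) * k) * x ^ ((a + 1) * k) = x ^ ((a + 1) * k)
    rw [← pow_add]
    exact hmul (a + 1) _ (by omega)
  have hred : ∀ x ∈ R, IsNilpotent x → x = 0 := by
    intro x hx hxn
    let U : AddSubgroup V :=
      { carrier := {v | ∀ y ∈ R, IsNilpotent y → y v = 0}
        add_mem' := fun {p q} hp hq y hy hy' => by rw [map_add, hp y hy hy', hq y hy hy', add_zero]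
        zero_mem' := fun y _ _ => map_zero y
        neg_mem' := fun {p} hp y hy hy' => by rw [map_neg, hp y hy hy', neg_zero] }
    have hU : ∀ a : A, ∀ v ∈ U, a • v ∈ U := by
      intro a v hv y hy hy'
      have hcn : IsNilpotent (cjEnd a⁻¹ y) := by
        obtain ⟨k, hk⟩ := hy'
        refine ⟨k + 1, ?_⟩
        have hpow : ∀ j, (cjEnd a⁻¹ y) ^ (j + 1) = cjEnd a⁻¹ (y ^ (j + 1)) := by
          intro j
          induction j with
          | zero => simp
          | succ j ih => rw [pow_succ, ih, ← cjEnd_mul, ← pow_succ]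
        rw [hpow, pow_succ, hk, zero_mul, cjEnd_zero]
      have h1 := hv (cjEnd a⁻¹ y) (hn _ y hy) hcn
      rw [cjEnd_apply, inv_inv, inv_smul_eq_iff, smul_zero] at h1
      exact h1
    obtain ⟨v, hv0, hv⟩ : ∃ v : V, v ≠ 0 ∧ v ∈ U := by
      have : ∀ s : Finset (AddMonoid.End V), (∀ y ∈ s, y ∈ R ∧ IsNilpotent y) →
          ∃ v : V, v ≠ 0 ∧ ∀ y ∈ s, y v = 0 := by
        intro s
        induction s using Finset.induction with
        | empty =>
          intro _
          obtain ⟨v, hv⟩ := exists_ne (0 : V)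
          exact ⟨v, hv, by simp⟩
        | insert y s hys ih =>
          intro hs
          obtain ⟨v, hv, hv'⟩ := ih fun z hz => hs z (Finset.mem_insert_of_mem hz)
          obtain ⟨hyR, hyn⟩ := hs y (Finset.mem_insert_self y s)
          obtain ⟨k, hk⟩ := hyn
          have hex : ∃ m, (y ^ m) v = 0 := ⟨k, by rw [hk]; rfl⟩
          obtain ⟨m, hm⟩ : ∃ m, Nat.find hex = m + 1 := Nat.exists_eq_succ_of_ne_zero fun h => hv (by
            have h0 := Nat.find_spec hex
            rw [h, pow_zero] at h0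
            exact h0)
          refine ⟨(y ^ m) v, Nat.find_min hex (by omega), fun z hz => ?_⟩
          rcases Finset.mem_insert.1 hz with rfl | hz'
          · show (z * z ^ m) v = 0
            rw [← pow_succ', ← hm]
            exact Nat.find_spec hex
          · show (z * y ^ m) v = 0
            rw [hc z (hs z hz).1 (y ^ m) (R.pow_mem hyR m)]
            show (y ^ m) (z v) = 0
            rw [hv' z hz', map_zero]
      obtain ⟨v, hv, hv'⟩ := this (Set.toFinite {y | y ∈ R ∧ IsNilpotent y}).toFinset fun y hy => by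
        simpa using hy
      exact ⟨v, hv, fun y hy hy' => hv' y (by simpa using And.intro hy hy')⟩
    rcases hirr U hU with h | h
    · rw [h, AddSubgroup.mem_bot] at hv; exact absurd hv hv0
    · refine DFunLike.ext _ _ fun w => ?_
      exact (h.symm ▸ AddSubgroup.mem_top w : w ∈ U) x hx hxn
  by_cases htriv : ∀ e ∈ R, IsIdempotentElem e → e = 0 ∨ e = 1
  · refine Or.inl fun x hx hx0 => ?_
    obtain ⟨m, hm, hm'⟩ := hidem x hx
    rcases htriv _ (R.pow_mem hx m) hm' with h | h
    · exact absurd (hred x hx ⟨m, h⟩) hx0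
    · exact ⟨x ^ (m - 1), R.pow_mem hx _, by rw [← pow_succ', show m - 1 + 1 = m by omega, h]⟩
  push Not at htriv
  obtain ⟨u, hu, hu', hu0, hu1⟩ := htriv
  refine Or.inr ?_
  let IsP : AddMonoid.End V → Prop := fun e =>
    e ∈ R ∧ IsIdempotentElem e ∧ e ≠ 0 ∧ ∀ f ∈ R, IsIdempotentElem f → f * e = 0 ∨ f * e = e
  have hprim : ∀ z ∈ R, IsIdempotentElem z → z ≠ 0 → ∃ e, IsP e ∧ e * z = e := by
    intro z hz hz' hz0
    let size : AddMonoid.End V → ℕ := fun e => (Set.range (e : V → V)).ncard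
    have hex : ∃ n, ∃ e ∈ R, IsIdempotentElem e ∧ e ≠ 0 ∧ e * z = e ∧ size e = n := ⟨_, z, hz, hz', hz0, hz', rfl⟩
    obtain ⟨e, he, he', he0, hez, hn'⟩ := Nat.find_spec hex
    refine ⟨e, ⟨he, he', he0, fun f hf hf' => ?_⟩, hez⟩
    by_contra hcon
    rw [not_or] at hcon
    have hfe : IsIdempotentElem (f * e) := by
      show f * e * (f * e) = f * e
      rw [mul_assoc, ← mul_assoc e f e, hc e he f hf, mul_assoc f e e, he', ← mul_assoc, hf']
    have hsub : Set.range ((f * e : AddMonoid.End V) : V → V) ⊆ Set.range (e : V → V) := by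
      rintro _ ⟨v, rfl⟩
      exact ⟨f v, by rw [hc f hf e he]; rfl⟩
    have hlt : size (f * e) < Nat.find hex := by
      rw [← hn']
      refine Set.ncard_lt_ncard (hsub.ssubset_of_ne fun heq => hcon.2 ?_) (Set.toFinite _)
      refine DFunLike.ext _ _ fun v => ?_
      obtain ⟨w, hw⟩ : e v ∈ Set.range ((f * e : AddMonoid.End V) : V → V) := heq.symm ▸ ⟨v, rfl⟩
      show f (e v) = e v
      rw [← hw]
      show f (f (e w)) = f (e w)
      exact DFunLike.congr_fun hf' (e w)
    refine Nat.find_min hex hlt ⟨f * e, R.mul_mem hf he, hfe, hcon.1, ?_, rfl⟩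
    rw [mul_assoc, hez]
  let E := {e : AddMonoid.End V // IsP e}
  letI : MulAction A E :=
    { smul := fun a e => ⟨cjEnd a e.1, by
        obtain ⟨h1, h2, h3, h4⟩ := e.2
        refine ⟨hn a _ h1, (cjEnd_mul a e.1 e.1).symm.trans (congrArg (cjEnd a) h2), fun h => h3 ?_, fun f hf hf' => ?_⟩
        · have := congrArg (cjEnd a⁻¹) h
          rwa [cjEnd_cjEnd, inv_mul_cancel, cjEnd_one, cjEnd_zero] at this
        · have hf2 : f = cjEnd a (cjEnd a⁻¹ f) := by rw [cjEnd_cjEnd, mul_inv_cancel, cjEnd_one]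
          rcases h4 (cjEnd a⁻¹ f) (hn _ f hf) ((cjEnd_mul a⁻¹ f f).symm.trans (congrArg (cjEnd a⁻¹) hf'))
            with h | h
          · left; rw [hf2, ← cjEnd_mul, h, cjEnd_zero]
          · right; rw [hf2, ← cjEnd_mul, h]⟩
      one_smul := fun e => Subtype.ext (cjEnd_one e.1)
      mul_smul := fun a b e => Subtype.ext (cjEnd_cjEnd a b e.1).symm }
  have hortho : ∀ e f : E, e ≠ f → e.1 * f.1 = 0 := fun e f hne => by
    obtain ⟨he1, he2, -, he4⟩ := e.2
    obtain ⟨hf1, hf2, -, hf4⟩ := f.2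
    rcases hf4 e.1 he1 he2 with h | h
    · exact h
    rcases he4 f.1 hf1 hf2 with h' | h'
    · rw [hc e.1 he1 f.1 hf1]; exact h'
    · exact absurd (Subtype.ext (by rw [← h', hc f.1 hf1 e.1 he1, h])) hne
  letI := Fintype.ofFinite E
  have hsum : ∑ e : E, e.1 = 1 := by
    by_contra hne
    set s := ∑ e : E, e.1 with hs
    have hsR : s ∈ R := R.sum_mem fun e _ => e.2.1
    have hse : ∀ e : E, e.1 * s = e.1 := fun e => by
      rw [hs, Finset.mul_sum, Finset.sum_eq_single e]
      · exact e.2.2.1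
      · exact fun f _ hne' => hortho e f hne'.symm
      · exact fun h => absurd (Finset.mem_univ e) h
    have hss' : IsIdempotentElem s := by
      show s * s = s
      nth_rw 1 [hs]
      rw [Finset.sum_mul]
      exact Finset.sum_congr rfl fun e _ => hse e
    obtain ⟨e, he, he'⟩ := hprim _ (R.sub_mem R.one_mem hsR) hss'.one_sub (sub_ne_zero.2 (Ne.symm hne))
    rw [mul_sub, mul_one, hse ⟨e, he⟩, sub_self] at he'
    exact he.2.2.1 he'.symm
  haveI : Nontrivial E := by
    by_contra hn'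
    rw [not_nontrivial_iff_subsingleton] at hn'
    obtain ⟨e, he, -⟩ := hprim u hu hu' hu0
    have h1 : e = 1 := by
      rw [← hsum, Fintype.sum_subsingleton _ (⟨e, he⟩ : E)]
    rcases he.2.2.2 u hu hu' with h | h <;> rw [h1, mul_one] at h
    · exact hu0 h
    · exact hu1 h
  refine hasPair_decomp hs hA hexp hbelow hp3 (Ω := E) (fun e => e.1) (fun e v => DFunLike.congr_fun e.2.2.1 v)
    (fun e f hne v => DFunLike.congr_fun (hortho e f hne) v) (fun v => ?_) (fun a e v => ?_) fun e => ?_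
  · conv_lhs => rw [show v = (1 : AddMonoid.End V) v from rfl, ← hsum]
    exact AddMonoidHom.finsetSum_apply _ _ _
  · show a • e.1 v = cjEnd a e.1 (a • v)
    rw [cjEnd_apply, inv_smul_smul]
  · by_contra hall
    push Not at hall
    exact e.2.2.2.1 (DFunLike.ext _ _ hall)

end CfsgLib.CoprimeBase
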