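import Mathlib
import Cfsg.Agent.Lib.FgsC.CoprimeBase.Small

/-!
# A regular pair for a normalised group of class two over the scalars

The induction on the dimension; the only inputs are the base cases of dimension four over fields
with three and five elements and of dimension eight over the field with three elements.
-/

set_option autoImplicit false

universe u v

namespace CfsgLib.CoprimeBase

/-- Two split pairs, all squares one, on a four dimensional space. -/
def FourBase (q : ℕ) : Prop :=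
  ∀ (K : Type u) [Field K] [Finite K] (V : Type v) [AddCommGroup V] [Module K V] [Finite V] [Nontrivial V]
    (p : ℕ) [Fact p.Prime] (N H : Subgroup (V ≃ₗ[K] V)) (w t : V ≃ₗ[K] V) (w0 t0 : eig w ≃ₗ[K] eig w),
    Nat.card K = q → (p : K) = 0 → Ext N → Acts p N H → Module.finrank K V = 4 →
    Split N 2 w t (-1) 1 → Split (N0 N w t) 2 w0 t0 (-1) 1 → Good N H

/-- Two split pairs and an anisotropic pair on an eight dimensional space over three elements. -/
def EightBase : Prop :=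
  ∀ (K : Type u) [Field K] [Finite K] (V : Type v) [AddCommGroup V] [Module K V] [Finite V] [Nontrivial V]
    (p : ℕ) [Fact p.Prime] (N H : Subgroup (V ≃ₗ[K] V)) (w t : V ≃ₗ[K] V) (w0 t0 : eig w ≃ₗ[K] eig w)
    (n s : eig w0 ≃ₗ[K] eig w0),
    Nat.card K = 3 → (p : K) = 0 → Ext N → Acts p N H → Module.finrank K V = 8 →
    Split N 2 w t (-1) 1 → Split (N0 N w t) 2 w0 t0 (-1) 1 → Aniso (N0 (N0 N w t) w0 t0) n s → Good N H

section Field

variable {K : Type u} [Field K] [Finite K]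

theorem card_cases (h2 : (2 : K) ≠ 0) : 7 ≤ Nat.card K ∨ Nat.card K = 5 ∨ Nat.card K = 3 := by
  haveI := Fintype.ofFinite K
  have h1 : 1 < Nat.card K := Finite.one_lt_card
  have hchar : ringChar K ≠ 2 := fun h => h2 (by
    have := ringChar.Nat.cast_ringChar (R := K)
    rwa [h, Nat.cast_ofNat] at this)
  have h3 : Nat.card K % 2 = 1 := by
    rw [Nat.card_eq_fintype_card]; exact FiniteField.odd_card_of_char_ne_two hchar
  omega

theorem units_three (hq : Nat.card K = 3) {x : K} (hx : x ≠ 0) : x = 1 ∨ x = -1 := by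
  haveI := Fintype.ofFinite K
  have h := FiniteField.pow_card_sub_one_eq_one x hx
  rw [← Nat.card_eq_fintype_card, hq] at h
  exact sq_eq_one_iff.1 h

theorem neg_one_square_five (hq : Nat.card K = 5) : IsSquare (-1 : K) := by
  haveI := Fintype.ofFinite K
  rw [FiniteField.isSquare_neg_one_iff, ← Nat.card_eq_fintype_card, hq]
  norm_num

theorem exists_line_scalar (hq : 7 ≤ Nat.card K) (τ : K) : ∃ e : K, e ≠ 0 ∧ e * e ≠ τ ∧ e * e ≠ -τ := by
  by_contra hcon
  push Not at hcon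
  obtain ⟨g, hg⟩ := IsCyclic.exists_generator (α := Kˣ)
  have hτ : τ * τ = 1 := by
    by_cases h : (1 : K) * 1 = τ
    · rw [← h]; ring
    · have h' := hcon 1 one_ne_zero h
      linear_combination (τ - 1) * h'
  have h4 : (g : K) ^ 4 = 1 := by
    by_cases h : (g : K) * g = τ
    · linear_combination ((g : K) * g + τ) * h + hτ
    · have h' := hcon (g : K) g.ne_zero h
      linear_combination ((g : K) * g - τ) * h' + hτ
  have h5 : orderOf g ∣ 4 := orderOf_dvd_of_pow_eq_one (Units.ext (by simpa using h4))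
  rw [orderOf_eq_card_of_forall_mem_zpowers hg, Nat.card_units] at h5
  have := Nat.le_of_dvd (by norm_num) h5
  omega

end Field

variable {K : Type u} [Field K] {V : Type v} [AddCommGroup V] [Module K V] {N : Subgroup (V ≃ₗ[K] V)}

namespace Split

variable {w t : V ≃ₗ[K] V} {ζ τ : K}

theorem zeta_two {r : ℕ} (hs : Split N r w t ζ τ) (hr : r = 2) : ζ = -1 :=
  (hr ▸ hs.root : IsPrimitiveRoot ζ 2).eq_neg_one_of_two_right

variable (hs : Split N 2 w t ζ τ) (hN : Ext N) [Nontrivial V] [Finite V]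
include hs hN

/-- The second square can be made one when it or its negative is a square. -/
theorem normalise (hsq : IsSquare τ ∨ IsSquare (-τ)) : ∃ t', Split N 2 w t' (-1) 1 := by
  have hτ := hs.tau_ne_zero
  have hζ := hs.zeta_two rfl
  have hsq' : ∀ {x : V ≃ₗ[K] V} {ν : K}, x ∈ N → Twist w x (-1) → (∀ v, x (x v) = (ν * ν) • v) → ν ≠ 0 →
      ∃ t', Split N 2 w t' (-1) 1 := by
    intro x ν hx htw hx2 hν
    refine ⟨sc (Units.mk0 ν hν)⁻¹ * x, hs.prime, hs.hw, N.mul_mem (hN.sc_mem _) hx, hζ ▸ hs.root, hs.wr,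
      fun v => ?_, ?_⟩
    · rw [one_smul, pow_two, LinearEquiv.mul_apply, LinearEquiv.mul_apply, LinearEquiv.mul_apply, sc_apply, sc_apply,
        map_smul, hx2, smul_smul, smul_smul, Units.val_inv_eq_inv_val, Units.val_mk0]
      rw [show ν⁻¹ * ν⁻¹ * (ν * ν) = 1 by field_simp, one_smul]
    · have h := ((twist_one_iff.2 ((isScalar_sc (V := V) (Units.mk0 ν hν)⁻¹).comm w).symm : Twist w _ 1)).mul_right htw
      rwa [one_mul] at h
  have htt : ∀ v, t (t v) = τ • v := fun v => by rw [← hs.tr, pow_two, LinearEquiv.mul_apply]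
  rcases hsq with ⟨ν, hν⟩ | ⟨ν, hν⟩
  · exact hsq' hs.ht (hζ ▸ hs.twist) (fun v => by rw [htt, hν]) (by rintro rfl; simp at hν; exact hτ hν)
  · refine hsq' (ν := ν) (N.mul_mem hs.hw hs.ht) ?_ (fun v => ?_) (by rintro rfl; simp at hν; exact hτ hν)
    · have h := (twist_self w).mul_right (hζ ▸ hs.twist : Twist w t (-1))
      rwa [one_mul] at h
    · have hww : ∀ a, w (w a) = a := fun a => by rw [← LinearEquiv.mul_apply, ← pow_two, hs.wr]; rfl
      rw [LinearEquiv.mul_apply, LinearEquiv.mul_apply, hs.twist (w (t v)), hww, htt, hζ, ← hν, smul_smul,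
        neg_one_mul]

/-- A split pair on the fixed space comes from one of the whole space. -/
theorem lift_split {w0 t0 : eig w ≃ₗ[K] eig w} {ζ0 τ0 : K} (h0 : Split (N0 N w t) 2 w0 t0 ζ0 τ0) :
    ∃ W T, Split N 2 W T ζ0 τ0 := by
  haveI := hs.eig_nontrivial
  obtain ⟨W, hW, -, hWt, hWe⟩ := h0.hw
  obtain ⟨T, hT, -, hTt, hTe⟩ := h0.ht
  have hτ0 := h0.tau_ne_zero
  have hζ0 := h0.zeta_ne_zero
  have hW2 : W ^ 2 = 1 := hs.eq_of_agree ((show Commute W t from hWt).pow_left 2).eq (by simp) fun a ha => by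
    have h := congrArg Subtype.val (LinearEquiv.congr_fun h0.wr ⟨a, ha⟩)
    rw [pow_two, LinearEquiv.mul_apply, hWe, hWe] at h
    rw [pow_two, LinearEquiv.mul_apply]
    exact h
  have hT2 : T ^ 2 = sc (Units.mk0 τ0 hτ0) :=
    hs.eq_of_agree ((show Commute T t from hTt).pow_left 2).eq ((isScalar_sc _).comm t) fun a ha => by
      have h := congrArg Subtype.val (h0.tr ⟨a, ha⟩)
      rw [pow_two, LinearEquiv.mul_apply, hTe, hTe] at h
      rw [pow_two, LinearEquiv.mul_apply]
      exact h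
  have htw : W * T = sc (Units.mk0 ζ0 hζ0) * (T * W) := by
    refine hs.eq_of_agree ((show Commute W t from hWt).mul_left hTt).eq
      ((show Commute (sc (Units.mk0 ζ0 hζ0)) t from (isScalar_sc _).comm t).mul_left
        ((show Commute T t from hTt).mul_left hWt)).eq fun a ha => ?_
    have h := congrArg Subtype.val (h0.twist ⟨a, ha⟩)
    simp only [hWe, hTe, Submodule.coe_smul] at h
    simp only [LinearEquiv.mul_apply, sc_apply, Units.val_mk0]
    exact h
  exact ⟨W, T, h0.prime, hW, hT, h0.root, hW2, fun v => by rw [hT2]; rfl, fun v => LinearEquiv.congr_fun htw v⟩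

end Split

variable [Finite K] {H : Subgroup (V ≃ₗ[K] V)} {p : ℕ} [Fact p.Prime] [Finite V] [Nontrivial V]

/-- Four dimensions over five elements, along a pair with square one. -/
theorem four_five (hb : FourBase.{u, v} 5) (hq : Nat.card K = 5) (hp : (p : K) = 0) (hN : Ext N) (hH : Acts p N H)
    (hd : Module.finrank K V = 4) {w t : V ≃ₗ[K] V} (hs : Split N 2 w t (-1) 1) : Good N H := by
  haveI := hs.eig_nontrivial
  have hd0 : Module.finrank K (eig w) = 2 := by have := hs.dim_eq; omega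
  have hN0 := hs.ext0 hN
  have hH0 := Split.acts0 hH hs hN
  by_cases hsc : ∀ y ∈ N0 N w t, IsScalar y
  · exact hs.peel_good hN hH (good_of_scalar (by omega) hsc) (Or.inl ⟨rfl, rfl⟩)
  push Not at hsc
  rcases split_or_aniso hN0 hsc with ⟨r, w0, t0, ζ0, τ0, h0⟩ | ⟨n, s, h0⟩
  swap
  · exact absurd (neg_one_square_five hq) h0.nonsq
  obtain rfl : r = 2 := by
    have h := h0.prime_dvd_card
    rw [hq] at h
    have := Nat.le_of_dvd (by norm_num) h
    have := h0.prime.two_le
    interval_cases r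
    · rfl
    · norm_num at h
    · exact absurd h0.prime (by norm_num)
  have hd00 : Module.finrank K (eig w0) = 1 := by have := h0.dim_eq; omega
  by_cases hτ0 : IsSquare τ0
  · obtain ⟨t0', h0'⟩ := h0.normalise hN0 (Or.inl hτ0)
    exact hb K V p N H w t w0 t0' hq hp hN hH hd hs h0'
  · refine hs.peel_good hN hH (h0.good_of_line hN0 hH0 hd00 (c := 0) (e := 1)
      (Or.inl ⟨rfl, rfl, one_ne_zero, fun h => hτ0 ⟨1, h.symm⟩, fun h => hτ0 ?_⟩)) (Or.inl ⟨rfl, rfl⟩)
    obtain ⟨i, hi⟩ := neg_one_square_five hq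
    exact ⟨i, by linear_combination h + hi⟩

/-- Four dimensions over three elements. -/
theorem four_three (hb : FourBase.{u, v} 3) (hq : Nat.card K = 3) (hp : (p : K) = 0) (h2 : (2 : K) ≠ 0) (hN : Ext N)
    (hH : Acts p N H) (hd : Module.finrank K V = 4) :
    Good N H ∨ ∃ (w t : V ≃ₗ[K] V) (n s : eig w ≃ₗ[K] eig w), Split N 2 w t (-1) 1 ∧ Aniso (N0 N w t) n s := by
  by_cases hsc : ∀ y ∈ N, IsScalar y
  · exact Or.inl (good_of_scalar (by omega) hsc)
  push Not at hsc
  rcases split_or_aniso hN hsc with ⟨r, w, t, ζ, τ, hs⟩ | ⟨n, s, ha⟩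
  swap
  · exact Or.inl (ha.good hN hH hp h2 (Or.inr (by omega)))
  have hr2 : ∀ {r : ℕ}, r.Prime → r ∣ Nat.card K - 1 → r = 2 := fun {r} hr h => by
    rw [hq] at h
    exact (Nat.prime_dvd_prime_iff_eq hr Nat.prime_two).1 h
  obtain rfl := hr2 hs.prime hs.prime_dvd_card
  have hsqr : ∀ {x : K}, x ≠ 0 → IsSquare x ∨ IsSquare (-x) := fun {x} hx => by
    rcases units_three hq hx with rfl | rfl
    · exact Or.inl ⟨1, (mul_one _).symm⟩
    · exact Or.inr ⟨1, by rw [neg_neg, mul_one]⟩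
  obtain ⟨t', hs'⟩ := hs.normalise hN (hsqr hs.tau_ne_zero)
  haveI := hs'.eig_nontrivial
  have hd0 : Module.finrank K (eig w) = 2 := by have := hs'.dim_eq; omega
  have hN0 := hs'.ext0 hN
  by_cases hsc0 : ∀ y ∈ N0 N w t', IsScalar y
  · exact Or.inl (hs'.peel_good hN hH (good_of_scalar (by omega) hsc0) (Or.inl ⟨rfl, rfl⟩))
  push Not at hsc0
  rcases split_or_aniso hN0 hsc0 with ⟨r, w0, t0, ζ0, τ0, h0⟩ | ⟨n, s, h0⟩
  swap
  · exact Or.inr ⟨w, t', n, s, hs', h0⟩
  obtain rfl := hr2 h0.prime h0.prime_dvd_card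
  obtain ⟨t0', h0'⟩ := h0.normalise hN0 (hsqr h0.tau_ne_zero)
  exact Or.inl (hb K V p N H w t' w0 t0' hq hp hN hH hd hs' h0')

omit [Fact p.Prime] in
/-- The classification of the dimensions without a good pair. -/
theorem classify [Fact p.Prime] (hb3 : FourBase.{u, v} 3) (hb5 : FourBase.{u, v} 5) (hb8 : EightBase.{u, v})
    (hp : (p : K) = 0) (h2 : (2 : K) ≠ 0) : ∀ (d : ℕ) (V : Type v) [AddCommGroup V] [Module K V] [Finite V]
      [Nontrivial V] (N H : Subgroup (V ≃ₗ[K] V)), Ext N → Acts p N H → Module.finrank K V = d →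
      Good N H ∨ d = 1 ∨ (Nat.card K ≤ 5 ∧ d = 2) ∨ (Nat.card K = 3 ∧ d = 4) := by
  intro d
  induction d using Nat.strong_induction_on with
  | _ d ih =>
  intro V _ _ _ _ N H hN hH hd
  haveI : Module.Finite K V := Module.Finite.of_finite
  have hd0 : 0 < d := hd ▸ Module.finrank_pos
  by_cases hd1 : d = 1
  · exact Or.inr (Or.inl hd1)
  by_cases hsc : ∀ y ∈ N, IsScalar y
  · exact Or.inl (good_of_scalar (by omega) hsc)
  push Not at hsc
  rcases split_or_aniso hN hsc with ⟨r, w, t, ζ, τ, hs⟩ | ⟨n, s, ha⟩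
  swap
  · rcases card_cases h2 with hq | hq | hq
    · exact Or.inl (ha.good hN hH hp h2 (Or.inl (by omega)))
    · exact absurd (neg_one_square_five hq) ha.nonsq
    · by_cases hd2 : d = 2
      · exact Or.inr (Or.inr (Or.inl ⟨by omega, hd2⟩))
      · exact Or.inl (ha.good hN hH hp h2 (Or.inr (by omega)))
  haveI := hs.eig_nontrivial
  have hdim := hs.dim_eq
  have hlt := hs.finrank_lt
  have hdvd := hs.prime_dvd_card
  have hr := hs.prime.two_le
  have hsmall : Nat.card K ≤ 5 → r = 2 := fun hq => by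
    rcases card_cases h2 with h | h | h
    · omega
    · rw [h] at hdvd
      exact (Nat.prime_dvd_prime_iff_eq hs.prime Nat.prime_two).1 (hs.prime.dvd_of_dvd_pow (m := 2) (n := 2) hdvd)
    · rw [h] at hdvd
      exact (Nat.prime_dvd_prime_iff_eq hs.prime Nat.prime_two).1 hdvd
  have hcube : 3 ≤ r → ∃ c : K, c ≠ 0 ∧ c ^ 3 * τ ≠ 1 := fun h3 => exists_cube_ne (by
    have := Nat.le_of_dvd (by have := Finite.one_lt_card (α := K); omega) hdvd
    rcases card_cases h2 with h | h | h <;> omega) τ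
  obtain ⟨c, hc⟩ : ∃ c : K, (r = 2 ∧ c = 0) ∨ (3 ≤ r ∧ c ≠ 0 ∧ c ^ 3 * τ ≠ 1) := by
    by_cases h3 : r = 2
    · exact ⟨0, Or.inl ⟨h3, rfl⟩⟩
    · obtain ⟨c, hc⟩ := hcube (by omega)
      exact ⟨c, Or.inr ⟨by omega, hc⟩⟩
  rcases ih _ (hd ▸ hlt) (eig w) (N0 N w t) (H0 N H w) (hs.ext0 hN) (Split.acts0 hH hs hN) rfl with
    hg | h1 | ⟨hq, h1⟩ | ⟨hq, h1⟩
  · exact Or.inl (hs.peel_good hN hH hg hc)
  · -- a line
    by_cases h3 : r = 2
    · rcases Nat.lt_or_ge (Nat.card K) 7 with hq | hq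
      · exact Or.inr (Or.inr (Or.inl ⟨by rcases card_cases h2 with h | h | h <;> omega, by subst h3; omega⟩))
      · obtain ⟨e, he⟩ := exists_line_scalar hq τ
        exact Or.inl (hs.good_of_line hN hH h1 (c := 0) (e := e) (Or.inl ⟨h3, rfl, he⟩))
    · obtain ⟨c', hc'⟩ := hcube (by omega)
      exact Or.inl (hs.good_of_line hN hH h1 (c := c') (e := 0) (Or.inr ⟨by omega, hc'.1, hc'.2, rfl⟩))
  · -- a plane over three or five elements
    obtain rfl := hsmall hq
    rcases card_cases h2 with h | h | h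
    · omega
    swap
    · exact Or.inr (Or.inr (Or.inr ⟨h, by omega⟩))
    obtain rfl := hs.zeta_two rfl
    have hsquare : ∀ {W T : V ≃ₗ[K] V} {μ : K}, Split N 2 W T (-1) μ → IsSquare μ → Good N H := fun {W T μ} hW hμ => by
      obtain ⟨T', hT'⟩ := hW.normalise hN (Or.inl hμ)
      exact four_five hb5 h hp hN hH (by omega) hT'
    by_cases hτ : IsSquare τ
    · exact Or.inl (hsquare hs hτ)
    have hN0 := hs.ext0 hN
    by_cases hsc0 : ∀ y ∈ N0 N w t, IsScalar y
    · exact Or.inl (hs.peel_good hN hH (good_of_scalar (by omega) hsc0) hc)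
    push Not at hsc0
    rcases split_or_aniso hN0 hsc0 with ⟨r, w0, t0, ζ0, τ0, h0⟩ | ⟨n, s, h0⟩
    swap
    · exact absurd (neg_one_square_five h) h0.nonsq
    have hr0 : r = 2 := by
      have h5 := h0.prime_dvd_card
      rw [h] at h5
      exact (Nat.prime_dvd_prime_iff_eq h0.prime Nat.prime_two).1 (h0.prime.dvd_of_dvd_pow (m := 2) (n := 2) h5)
    subst hr0
    obtain rfl := h0.zeta_two rfl
    by_cases hτ0 : IsSquare τ0
    · obtain ⟨W, T, hW⟩ := hs.lift_split hN h0
      exact Or.inl (hsquare hW hτ0)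
    · refine Or.inl (hs.peel_good hN hH (h0.good_of_line hN0 (Split.acts0 hH hs hN)
        (by have := h0.dim_eq; omega) (c := 0) (e := 1)
        (Or.inl ⟨rfl, rfl, one_ne_zero, fun h' => hτ0 ⟨1, h'.symm⟩, fun h' => hτ0 ?_⟩)) hc)
      obtain ⟨i, hi⟩ := neg_one_square_five h
      exact ⟨i, by linear_combination h' + hi⟩
  · -- four dimensions over three elements
    obtain rfl := hsmall (by omega)
    obtain ⟨t', hs'⟩ := hs.normalise hN (by
      rcases units_three hq hs.tau_ne_zero with h' | h'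
      · exact Or.inl ⟨1, by rw [h', mul_one]⟩
      · exact Or.inr ⟨1, by rw [h', neg_neg, mul_one]⟩)
    rcases four_three hb3 hq hp h2 (hs'.ext0 hN) (Split.acts0 hH hs' hN) h1 with hg | ⟨w0, t0, n, s, h0, ha⟩
    · exact Or.inl (hs'.peel_good hN hH hg (Or.inl ⟨rfl, rfl⟩))
    · exact Or.inl (hb8 K V p N H w t' w0 t0 n s hq hp hN hH (by omega) hs' h0 ha)

/-- A regular pair exists. -/
theorem exists_reg (hb3 : FourBase.{u, v} 3) (hb5 : FourBase.{u, v} 5) (hb8 : EightBase.{u, v})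
    (hp : (p : K) = 0) (h2 : (2 : K) ≠ 0) (hN : Ext N) (hH : Acts p N H) : ∃ u u' : V, u ≠ 0 ∧ Reg N H u u' := by
  haveI : Module.Finite K V := Module.Finite.of_finite
  rcases classify hb3 hb5 hb8 hp h2 _ V N H hN hH rfl with ⟨u, u', hu, hr, -⟩ | h1 | ⟨-, h1⟩ | ⟨hq, h1⟩
  · exact ⟨u, u', hu, hr⟩
  · obtain ⟨u, hu⟩ := exists_ne (0 : V)
    refine ⟨u, u, hu, reg_of_scalar (fun x _ => ?_) u u⟩
    obtain ⟨a, ha⟩ := (finrank_eq_one_iff_of_nonzero' u hu).1 h1 (x u)
    refine ⟨a, fun v => ?_⟩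
    obtain ⟨b, rfl⟩ := (finrank_eq_one_iff_of_nonzero' u hu).1 h1 v
    rw [map_smul, ← ha, smul_comm]
  · exact reg_of_plane h1
  · rcases four_three hb3 hq hp h2 hN hH h1 with ⟨u, u', hu, hr, -⟩ | ⟨w, t, n, s, hs, ha⟩
    · exact ⟨u, u', hu, hr⟩
    haveI := hs.eig_nontrivial
    have hd0 : Module.finrank K (eig w) = 2 := by have := hs.dim_eq; omega
    obtain ⟨u, u', hu, hr⟩ := reg_of_plane (N := N0 N w t) (H := H0 N H w) hd0
    refine ⟨glue t 0 (u : V) u', u, fun e => ?_, hs.peel_reg hN hH hu (ha.free hu) hr (Or.inl ⟨rfl, rfl⟩)⟩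
    have h3 := congrArg (cp 2 w (-1) 1) e
    rw [map_zero, hs.cp_glue u.2 u'.2 0 (show 1 < 2 by norm_num), if_neg one_ne_zero, if_pos rfl, zero_add] at h3
    exact hu (Subtype.ext (t.map_eq_zero_iff.1 (by simpa using h3)))

end CfsgLib.CoprimeBase
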