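import Cfsg.Agent.Lib.FgsC.CoprimeBase.Basic
import Cfsg.Agent.Lib.FgsC.BaseTwo.Module

/-!
# Regular pairs for semilinear groups from regular pairs of the linear part

If `(v, w)` is regular for the centraliser of a field, some pair `(v, w + s v)` is regular for the
whole semilinear group.
-/

set_option autoImplicit false

universe u

namespace CfsgLib.CoprimeBase

open CfsgLib.BaseTwo

theorem sq_lt_two_pow_succ : ∀ n : ℕ, n ^ 2 < 2 ^ (n + 1)
  | 0 => by norm_num
  | n + 1 => by
    have ih := sq_lt_two_pow_succ n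
    rcases lt_or_ge n 3 with h | h
    · interval_cases n <;> norm_num
    · rw [pow_succ 2 (n + 1)]
      nlinarith

variable {p : ℕ} [Fact p.Prime] {A : Type u} [Group A] [Finite A] {V : Type u} [AddCommGroup V]
  [DistribMulAction A V]

/-- Semilinearity. -/
theorem smul_apply_end (g : A) (x : AddMonoid.End V) (u : V) : g • x u = cjHom g x (g • u) := by
  show g • x u = g • x (g⁻¹ • g • u)
  rw [inv_smul_smul]

theorem hasPair_of_centralizer [Finite V] [FaithfulSMul A V] (hA : ¬ p ∣ Nat.card A)
    (hexp : ∀ x : V, p • x = 0) (S : Sect A) (hfld : IsField (ring (V := V) S)) {v w : V}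
    (hv : v ≠ 0) (hreg : ∀ c ∈ S.C, c • v = v → c • w = w → c = 1) : HasPair A V := by
  classical
  haveI : Finite (AddMonoid.End V) :=
    Finite.of_injective (fun f : AddMonoid.End V => (f : V → V)) DFunLike.coe_injective
  let R := ring (V := V) S
  suffices h : ∃ s : R, ∀ g : A, g • v = v → g • (w + (s : AddMonoid.End V) v) =
      w + (s : AddMonoid.End V) v → g ∈ S.C by
    obtain ⟨s, hs⟩ := h
    refine ⟨v, w + (s : AddMonoid.End V) v, fun g hgv hgw x => ?_⟩
    have hg := hs g hgv hgw
    have h1 : g • (s : AddMonoid.End V) v = (s : AddMonoid.End V) (g • v) :=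
      DFunLike.congr_fun (commute_ring S hg s.2) v
    rw [smul_add, h1, hgv, add_left_inj] at hgw
    rw [hreg g hg hgv hgw, one_smul]
  by_contra hbad
  push Not at hbad
  choose g hgv hgw hgC using hbad
  -- the fixed subfield of an element outside the centralizer is small
  have hsq : ∀ h : A, h ∉ S.C →
      Nat.card {x : R // cjHom h (x : AddMonoid.End V) = x} ^ 2 ≤ Nat.card R := by
    intro h hh
    obtain ⟨x, hx⟩ : ∃ x : R, cjHom h (x : AddMonoid.End V) ≠ x := by
      by_contra hc
      push Not at hc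
      refine hh (Subgroup.mem_centralizer_iff.2 fun a ha => ?_)
      have h1 := hc ⟨rho a, rho_mem S ha⟩
      rw [cjHom_rho] at h1
      have h2 : h * a * h⁻¹ = a := rho_injective (V := V) h1
      exact (mul_inv_eq_iff_eq_mul.1 h2).symm
    rw [pow_two, ← Nat.card_prod]
    refine Nat.card_le_card_of_injective (fun q => q.1.1 + q.2.1 * x) fun q r he => ?_
    have he' : q.1.1 - r.1.1 = (r.2.1 - q.2.1) * x := by
      change q.1.1 + q.2.1 * x = r.1.1 + r.2.1 * x at he
      rw [eq_sub_of_add_eq he, sub_mul]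
      abel
    rcases eq_or_ne (r.2.1 - q.2.1) 0 with h0 | h0
    · rw [h0, zero_mul, sub_eq_zero] at he'
      exact Prod.ext (Subtype.ext he') (Subtype.ext (sub_eq_zero.1 h0).symm)
    · refine absurd ?_ hx
      obtain ⟨y, hy⟩ := hfld.mul_inv_cancel h0
      have e1 : cjHom h ((r.2.1 - q.2.1 : R) : AddMonoid.End V) = (r.2.1 - q.2.1 : R) := by
        rw [AddSubgroupClass.coe_sub, map_sub, r.2.2, q.2.2]
      have e2 : cjHom h ((q.1.1 - r.1.1 : R) : AddMonoid.End V) = (q.1.1 - r.1.1 : R) := by
        rw [AddSubgroupClass.coe_sub, map_sub, q.1.2, r.1.2]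
      rw [he', Subring.coe_mul, map_mul, e1] at e2
      have hy' : (y : AddMonoid.End V) * (r.2.1 - q.2.1 : R) = 1 := by
        rw [← Subring.coe_mul, mul_comm y, hy, Subring.coe_one]
      have := congrArg ((y : AddMonoid.End V) * ·) e2
      simp only [← mul_assoc, hy', one_mul] at this
      exact this
  -- bad scalars in one coset
  have hkey : ∀ s t : R, (g s : A ⧸ S.C) = (g t : A ⧸ S.C) →
      cjHom (g t) ((s - t : R) : AddMonoid.End V) = ((s - t : R) : AddMonoid.End V) := by
    intro s t hst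
    have hc : (g t)⁻¹ * g s ∈ S.C := QuotientGroup.eq.1 hst.symm
    have hcj : cjHom (g s) (s : AddMonoid.End V) = cjHom (g t) (s : AddMonoid.End V) := by
      have h1 := commute_ring S hc s.2
      have h2 : cjHom ((g t)⁻¹ * g s) (s : AddMonoid.End V) = s := by
        rw [cjHom_eq, h1, mul_assoc, ← map_mul, mul_inv_cancel, map_one, mul_one]
      calc cjHom (g s) (s : AddMonoid.End V) = cjHom (g t * ((g t)⁻¹ * g s)) (s : AddMonoid.End V) := by
            rw [mul_inv_cancel_left]
        _ = cjHom (g t) (cjHom ((g t)⁻¹ * g s) (s : AddMonoid.End V)) :=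
            (cjEnd_cjEnd (g t) ((g t)⁻¹ * g s) (s : AddMonoid.End V)).symm
        _ = _ := by rw [h2]
    have hv' : ((g t)⁻¹ * g s) • v = v := by
      rw [mul_smul, hgv, inv_smul_eq_iff, hgv]
    set e : AddMonoid.End V := ((s - t : R) : AddMonoid.End V) - cjHom (g t) ((s - t : R) : AddMonoid.End V)
      with he
    have hemem : e ∈ R := R.sub_mem (s - t).2 (ring_normalized S (g t) (s - t).2)
    set d := cjHom (g t)⁻¹ e with hd
    have hdmem : d ∈ R := ring_normalized S (g t)⁻¹ hemem
    have hw : ((g t)⁻¹ * g s) • w = w + d v := by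
      have h1 := hgw s
      have h2 := hgw t
      rw [smul_add, smul_apply_end, hgv, hcj] at h1
      rw [smul_add, smul_apply_end, hgv] at h2
      rw [mul_smul, inv_smul_eq_iff, smul_add, smul_apply_end, hgv, hd]
      have h3 : cjHom (g t) (cjHom (g t)⁻¹ e) = e := by
        show cjEnd (g t) (cjEnd (g t)⁻¹ e) = e
        rw [cjEnd_cjEnd, mul_inv_cancel, cjEnd_one]
      rw [h3, he, AddSubgroupClass.coe_sub, map_sub]
      change g s • w = g t • w + (((s : AddMonoid.End V) v - (t : AddMonoid.End V) v) -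
        (cjHom (g t) (s : AddMonoid.End V) v - cjHom (g t) (t : AddMonoid.End V) v))
      rw [eq_sub_of_add_eq h1, eq_sub_of_add_eq h2]
      abel
    have hfix : ((g t)⁻¹ * g s) • d v = d v := by
      have h1 : ((g t)⁻¹ * g s) • d v = d (((g t)⁻¹ * g s) • v) :=
        DFunLike.congr_fun (commute_ring S hc hdmem) v
      rw [h1, hv']
    obtain ⟨-, hdv⟩ := shift_pair (p := p) (A := S.C)
      (fun h => hA (h.trans (Subgroup.card_subgroup_dvd_card _))) hexp
      (a := ⟨_, hc⟩) hv' hfix hw fun b hb1 hb2 x => by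
        rw [Subgroup.smul_def, hreg b b.2 hb1 hb2, one_smul]
    have he0 : e = 0 := by
      by_contra he0
      have hd0 : (⟨d, hdmem⟩ : R) ≠ 0 := fun h => he0 (by
        have h1 : cjEnd (g t) (cjEnd (g t)⁻¹ e) = cjHom (g t) 0 :=
          congrArg (cjHom (g t)) (congrArg Subtype.val h)
        rwa [cjEnd_cjEnd, mul_inv_cancel, cjEnd_one, map_zero] at h1)
      obtain ⟨y, hy⟩ := hfld.mul_inv_cancel hd0
      have h1 := DFunLike.congr_fun (congrArg Subtype.val ((mul_comm y _).trans hy)) v
      change (y : AddMonoid.End V) (d v) = v at h1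
      rw [hdv, map_zero] at h1
      exact hv h1.symm
    exact (sub_eq_zero.1 (he ▸ he0)).symm
  -- counting
  haveI := Fintype.ofFinite R
  haveI := Fintype.ofFinite (A ⧸ S.C)
  let f : R → A ⧸ S.C := fun s => (g s : A ⧸ S.C)
  have hfib : ∀ q, (Finset.univ.filter fun s => f s = q).card ^ 2 ≤ Nat.card R := by
    intro q
    rcases (Finset.univ.filter fun s => f s = q).eq_empty_or_nonempty with h | ⟨t, ht⟩
    · simp [h]
    rw [Finset.mem_filter] at ht
    refine le_trans (Nat.pow_le_pow_left ?_ 2) (hsq (g t) (hgC t))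
    rw [← Nat.card_eq_finsetCard]
    refine Nat.card_le_card_of_injective
      (fun s => ⟨(s : R) - t, hkey s t ((Finset.mem_filter.1 s.2).2.trans ht.2.symm)⟩)
      fun a b h => Subtype.ext (sub_left_injective (congrArg Subtype.val h))
  have h1' : ∀ s, f s ∈ (Finset.univ : Finset (A ⧸ S.C)).erase ((1 : A) : A ⧸ S.C) := fun s =>
    Finset.mem_erase.2 ⟨fun h => hgC s (by simpa using QuotientGroup.eq.1 h), Finset.mem_univ _⟩
  obtain ⟨q₀, -, hmax⟩ := Finset.exists_max_image Finset.univ
    (fun q => (Finset.univ.filter fun s => f s = q).card) Finset.univ_nonempty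
  set m := (Finset.univ.filter fun s => f s = q₀).card
  set Q := Nat.card R with hQ
  obtain ⟨i, hi⟩ := Nat.exists_eq_succ_of_ne_zero (S.C.index_ne_zero_of_finite)
  have hQle : Q ≤ m * i := by
    rw [hQ, Nat.card_eq_fintype_card, ← Finset.card_univ]
    refine (Finset.card_le_mul_card_image_of_maps_to (fun s _ => h1' s) m
      fun q _ => hmax q (Finset.mem_univ q)).trans_eq ?_
    rw [Finset.card_erase_of_mem (Finset.mem_univ _), Finset.card_univ, ← Nat.card_eq_fintype_card,
      ← Subgroup.index_eq_card, hi, Nat.succ_sub_one]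
  have hlt : i ^ 2 < Q := (sq_lt_two_pow_succ i).trans_le (by
    have := two_pow_index_le S hfld
    rwa [hi] at this)
  have hm : m ^ 2 ≤ Q := hfib q₀
  have hQ0 : 0 < Q := Nat.card_pos
  have h3 : Q * Q ≤ Q * i ^ 2 :=
    (Nat.mul_le_mul hQle hQle).trans (by
      rw [show m * i * (m * i) = m ^ 2 * i ^ 2 by ring]
      exact Nat.mul_le_mul_right _ hm)
  exact absurd (Nat.le_of_mul_le_mul_left h3 hQ0) (Nat.not_le.2 hlt)

end CfsgLib.CoprimeBase
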