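import Mathlib
import Cfsg.Agent.Lib.FgsC.BaseTwo.Quot
import Cfsg.Agent.Lib.FgsC.CoprimeBase.Decomp
import Cfsg.Agent.Lib.FgsC.CoprimeBase.Semilinear
import Cfsg.Agent.Lib.FgsC.CoprimeBase.Recursion

/-!
# The irreducible case: from the class two section to a linear group of class two
-/

set_option autoImplicit false

universe u v

namespace CfsgLib.CoprimeBase

open CfsgLib.BaseTwo
open scoped commutatorElement

/-- In a semisimple module there is no torsion beyond exponent `r`. -/
theorem nsmul_eq_zero_of_semisimple {A : Type u} [Group A] {M : Type v} [AddCommGroup M] [DistribMulAction A M]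
    (hss : Semisimple A M) (r : ℕ) {m : M} (h : (r * r) • m = 0) : r • m = 0 := by
  let U : AddSubgroup M := (nsmulAddMonoidHom r : M →+ M).ker
  obtain ⟨W, -, hi, hj⟩ := hss U fun a v (hv : r • v = 0) => show r • a • v = 0 by rw [← smul_comm a r v, hv, smul_zero]
  obtain ⟨x, (hx : r • x = 0), w, hw, rfl⟩ := AddSubgroup.mem_sup.1 (hj ▸ AddSubgroup.mem_top m : m ∈ U ⊔ W)
  rw [mul_smul, smul_add r x w, hx, zero_add] at h
  have h1 : r • w ∈ U ⊓ W := AddSubgroup.mem_inf.2 ⟨h, W.nsmul_mem hw r⟩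
  rw [hi, AddSubgroup.mem_bot] at h1
  rw [smul_add, hx, h1, add_zero]

theorem twist_comm_elem {K : Type u} [Field K] {V : Type v} [AddCommGroup V] [Module K V] {x y : V ≃ₗ[K] V}
    {a : K} (h : Twist x y a) : IsScalar ⁅x, y⁆ := by
  refine ⟨a, fun v => ?_⟩
  rw [commutatorElement_def]
  simp only [LinearEquiv.mul_apply]
  rw [h, apply_inv, apply_inv]

variable {A : Type u} [Group A] [Finite A] {V : Type u} [AddCommGroup V] [Finite V] [DistribMulAction A V]

/-- An irreducible module. -/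
theorem hasPair_irred [FaithfulSMul A V] [Nontrivial V] {p : ℕ} [Fact p.Prime] (hb3 : FourBase.{u, u} 3)
    (hb5 : FourBase.{u, u} 5) (hb8 : EightBase.{u, u}) (hs : Group.IsSolvable A) (hA : ¬ p ∣ Nat.card A)
    (hp3 : 3 ≤ p) (hexp : ∀ v : V, p • v = 0) (hbelow : PairBelow.{u} p (Nat.card V))
    (hirr : Irred A V) : HasPair A V := by
  classical
  haveI : Finite (AddMonoid.End V) :=
    Finite.of_injective (fun f : AddMonoid.End V => (f : V → V)) DFunLike.coe_injective
  obtain ⟨S⟩ := exists_sect A hs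
  rcases field_or_hasPair hs hA hexp hbelow hp3 hirr (ring (V := V) S) (fun x hx y hy => ring_comm S hx hy)
    (fun a x hx => ring_normalized S a hx) with hfld | h
  swap
  · exact h
  have hfield := isField_ring S hfld
  letI : Field (ring (V := V) S) := hfield.toField
  let K := ring (V := V) S
  -- the centraliser acts linearly
  let φ : S.C →* (V ≃ₗ[K] V) :=
    { toFun := fun c =>
        { toFun := fun v => (c : A) • v
          map_add' := smul_add _
          map_smul' := fun s v => DFunLike.congr_fun (commute_ring S c.2 s.2) v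
          invFun := fun v => (c : A)⁻¹ • v
          left_inv := fun v => inv_smul_smul _ _
          right_inv := fun v => smul_inv_smul _ _ }
      map_one' := LinearEquiv.ext fun v => one_smul A v
      map_mul' := fun c d => LinearEquiv.ext fun v => mul_smul (c : A) (d : A) v }
  have hφ : ∀ (c : S.C) (v : V), φ c v = (c : A) • v := fun _ _ => rfl
  have hφinj : Function.Injective φ := fun c d h => Subtype.ext
    (FaithfulSMul.eq_of_smul_eq_smul fun v : V => LinearEquiv.congr_fun h v)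
  have hφA : ∀ a : S.C, (a : A) ∈ S.A → IsScalar (φ a) := fun a ha =>
    ⟨⟨rho (a : A), rho_mem S ha⟩, fun _ => rfl⟩
  haveI hFinEquiv : Finite (V ≃ₗ[K] V) := Finite.of_injective (fun f => (f : V → V)) DFunLike.coe_injective
  -- scalars and the section
  let N : Subgroup (V ≃ₗ[K] V) :=
    { carrier := {g | ∃ (a : Kˣ) (n : S.C), (n : A) ∈ S.N ∧ g = sc a * φ n}
      one_mem' := ⟨1, 1, S.N.one_mem, by
        rw [map_one, mul_one]; exact LinearEquiv.ext fun v => (one_smul K v).symm⟩
      mul_mem' := fun {g h} ⟨a, n, hn, hg⟩ ⟨b, m, hm, hh⟩ => ⟨a * b, n * m, S.N.mul_mem hn hm, by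
        rw [hg, hh, map_mul, mul_assoc, ← mul_assoc (φ n), ← (isScalar_sc b).comm (φ n), mul_assoc, ← mul_assoc]
        congr 1⟩
      inv_mem' := fun {g} ⟨a, n, hn, hg⟩ => ⟨a⁻¹, n⁻¹, S.N.inv_mem hn, by
        rw [hg, mul_inv_rev, map_inv, (isScalar_sc a⁻¹).comm]
        congr 1⟩ }
  have hmemφ : ∀ n : S.C, (n : A) ∈ S.N → φ n ∈ N := fun n hn => ⟨1, n, hn, by
    rw [show (sc 1 : V ≃ₗ[K] V) = 1 from LinearEquiv.ext fun v => one_smul K v, one_mul]⟩
  -- an element commuting with the section lies in `A`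
  have hcen : ∀ c : S.C, (∀ n : S.C, (n : A) ∈ S.N → φ c * φ n = φ n * φ c) → (c : A) ∈ S.A := fun c hc =>
    S.hcent (Subgroup.mem_inf.2 ⟨c.2, Subgroup.mem_centralizer_iff.2 fun m hm => by
      have h1 : c * ⟨m, S.hNC hm⟩ = ⟨m, S.hNC hm⟩ * c := hφinj (by rw [map_mul, map_mul]; exact hc ⟨m, S.hNC hm⟩ hm)
      exact (congrArg Subtype.val h1).symm⟩)
  have hN : Ext N := by
    refine ⟨fun g hg => ?_, ?_, ?_, ?_⟩
    · obtain ⟨a, rfl⟩ := hg.exists_unit
      exact ⟨a, 1, S.N.one_mem, by rw [map_one, mul_one]⟩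
    · rintro _ ⟨a, n, hn, rfl⟩ _ ⟨b, m, hm, rfl⟩
      have hd : ⁅(n : A), (m : A)⁆ ∈ S.A := S.hNN _ hn _ hm
      have h1 : Twist (φ n) (φ m) (⟨rho ⁅(n : A), (m : A)⁆, rho_mem S hd⟩ : K) := fun v => by
        show (n : A) • (m : A) • v = ⁅(n : A), (m : A)⁆ • (m : A) • (n : A) • v
        simp only [smul_smul]
        congr 1
        simp only [commutatorElement_def]
        group
      refine twist_comm_elem (((isScalar_sc a).twist (sc b * φ m)).mul_left
        ((twist_one_iff.2 ((isScalar_sc b).comm (φ n)).symm).mul_right h1))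
    · rintro _ ⟨a, n, hn, rfl⟩ hc
      refine (isScalar_sc a).mul (hφA n (hcen n fun m hm => ?_))
      have h1 := hc (φ m) (hmemφ m hm)
      rw [mul_assoc, ← mul_assoc (φ m), ← (isScalar_sc a).comm (φ m), mul_assoc] at h1
      exact mul_left_cancel h1
    · rintro _ ⟨a, n, hn, rfl⟩ r - h
      have hcm : Commute (sc a : V ≃ₗ[K] V) (φ n) := (isScalar_sc a).comm _
      rw [hcm.mul_pow] at h ⊢
      refine ((isScalar_sc a).pow r).mul ?_
      rw [← map_pow]
      refine hφA _ ?_
      rw [SubmonoidClass.coe_pow]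
      have h1 : IsScalar (φ n ^ (r * r)) := by
        have h2 := ((isScalar_sc (V := V) a).pow (r * r)).inv.mul h
        rwa [inv_mul_cancel_left] at h2
      have hrr : (n : A) ^ (r * r) ∈ S.A := by
        have h2 := hcen (n ^ (r * r)) fun m _ => by rw [map_pow]; exact h1.comm _
        rwa [SubmonoidClass.coe_pow] at h2
      let χ : S.A →* K :=
        { toFun := fun x => ⟨rho (x : A), rho_mem S x.2⟩
          map_one' := Subtype.ext (map_one rho)
          map_mul' := fun x y => Subtype.ext (map_mul rho (x : A) y) }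
      have hχ : Function.Injective χ := fun x y h => Subtype.ext (rho_injective (V := V) (congrArg Subtype.val h))
      have hss := S.semisimpleQ χ hχ
      have hcl : ∀ k : ℕ, k • S.cl ⟨n, hn⟩ = S.cl (⟨n, hn⟩ ^ k) := by
        intro k
        induction k with
        | zero => rw [zero_smul, pow_zero]; rfl
        | succ k ih => rw [succ_nsmul, ih, pow_succ, Sect.cl_mul]
      have hzero : ∀ x : S.N, S.cl x = 0 ↔ (x : A) ∈ S.A := fun x => by
        rw [show (0 : Additive S.Q) = S.cl 1 from rfl, Sect.cl_eq_cl, Subgroup.coe_one, mul_one, inv_mem_iff]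
      have h2 := nsmul_eq_zero_of_semisimple hss r (m := S.cl ⟨n, hn⟩) (by
        rw [hcl, hzero, SubmonoidClass.coe_pow]; exact hrr)
      rw [hcl, hzero, SubmonoidClass.coe_pow] at h2
      exact h2
  have hpK : (p : K) = 0 := by
    obtain ⟨v, hv⟩ := exists_ne (0 : V)
    refine smul_left_injective K hv ?_
    simp only [zero_smul, Nat.cast_smul_eq_nsmul]
    exact hexp v
  have h2 : (2 : K) ≠ 0 := fun h => by
    have hodd : Odd p := (Fact.out : p.Prime).odd_of_ne_two (by omega)
    obtain ⟨k, hk⟩ := hodd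
    rw [hk, Nat.cast_add, Nat.cast_mul, Nat.cast_ofNat, h, zero_mul, zero_add, Nat.cast_one] at hpK
    exact one_ne_zero hpK
  have hH : Acts p N φ.range := by
    refine ⟨fun h => hA ((h.trans (Subgroup.card_range_dvd φ)).trans (Subgroup.card_subgroup_dvd_card _)), ?_⟩
    rintro _ ⟨c, rfl⟩ _ ⟨a, n, hn, rfl⟩
    refine ⟨a, c * n * c⁻¹, S.hN.conj_mem _ hn c, ?_⟩
    rw [map_mul, map_mul, map_inv, ← mul_assoc, ← (isScalar_sc a).comm (φ c), mul_assoc, mul_assoc, mul_assoc]
  obtain ⟨u, u', hu, hreg⟩ := exists_reg hb3 hb5 hb8 hpK h2 hN hH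
  refine hasPair_of_centralizer hA hexp S hfield (w := u') hu fun c hc h1 h2 => ?_
  have hcA : c ∈ S.A := hcen ⟨c, hc⟩ fun n hn => hreg _ ⟨⟨c, hc⟩, rfl⟩ h1 h2 _ (hmemφ n hn)
  by_contra hc1
  exact hu (fix_A S hfld hcA hc1 h1)

end CfsgLib.CoprimeBase
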