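import Cfsg.Agent.Lib.FgsC.CoprimeBase.Affine
import Cfsg.Agent.Lib.FgsC.BaseTwo.Basic
import Cfsg.Agent.Lib.FgsC.BaseTwo.Sets

/-!
# Three colours for an irreducible soluble group of order prime to three in characteristic two

The number of colourings kept by an affine map is bounded through its fixed points; the dimensions
up to five use a minimal normal subgroup, which acts freely.
-/

set_option autoImplicit false

universe u v

namespace CfsgLib.CoprimeBase

/-- The colourings kept by a permutation. -/
theorem card_fixed_colourings_le {Ω : Type u} [Fintype Ω] [DecidableEq Ω] (σ : Equiv.Perm Ω) (n F : ℕ)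
    (hF : Nat.card {x : Ω // σ x = x} ≤ F) (hn : Fintype.card Ω + F ≤ 2 * n + 1) :
    Nat.card {c : Ω → ZMod 3 // ∀ x, c (σ x) = c x} ≤ 3 ^ n := by
  classical
  let s : Setoid Ω := Equiv.Perm.SameCycle.setoid σ
  let rep : Ω → Ω := fun x => (Quotient.mk s x).out
  have hrepσ : ∀ x, rep (σ x) = rep x := fun x =>
    congrArg Quotient.out (Quotient.sound (s := s) (Equiv.Perm.sameCycle_apply_left.2 (Equiv.Perm.SameCycle.refl σ x)))
  have hrep2 : ∀ x, rep (rep x) = rep x := fun x => congrArg Quotient.out (Quotient.out_eq _)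
  let S : Finset Ω := Finset.univ.image rep
  have hS : ∀ x ∈ S, rep x = x := fun x hx => by
    obtain ⟨y, -, rfl⟩ := Finset.mem_image.1 hx
    exact hrep2 y
  have hbound : S.card ≤ n := by
    let T := S.filter fun x => σ x ≠ x
    have h1 : S.card = (S.filter fun x => σ x = x).card + T.card :=
      (Finset.card_filter_add_card_filter_not _).symm
    have h2 : (S.filter fun x => σ x = x).card ≤ F := by
      refine le_trans ?_ hF
      rw [← Nat.card_eq_finsetCard]
      exact Nat.card_le_card_of_injective (fun x => ⟨x.1, (Finset.mem_filter.1 x.2).2⟩)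
        fun x y h => Subtype.ext (by exact (congrArg Subtype.val h :))
    have h3 : (T.image σ).card + S.card ≤ Fintype.card Ω := by
      rw [← Finset.card_union_of_disjoint]
      · exact Finset.card_le_univ _
      · rw [Finset.disjoint_left]
        rintro y hy hyS
        obtain ⟨x, hx, rfl⟩ := Finset.mem_image.1 hy
        obtain ⟨hxS, hxne⟩ := Finset.mem_filter.1 hx
        exact hxne (by rw [← hS _ hyS, hrepσ, hS _ hxS])
    rw [Finset.card_image_of_injective _ σ.injective] at h3
    omega
  refine le_trans (Nat.card_le_card_of_injective (fun c => fun x : S => c.1 x.1) ?_) ?_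
  · intro c d h
    refine Subtype.ext (funext fun x => ?_)
    have hconst : ∀ e : {c : Ω → ZMod 3 // ∀ x, c (σ x) = c x}, e.1 x = e.1 (rep x) := fun e => by
      have hsc : σ.SameCycle (rep x) x := Quotient.exact (s := s) (Quotient.out_eq (Quotient.mk s x))
      obtain ⟨i, hi⟩ := hsc.exists_nat_pow_eq
      have : ∀ j : ℕ, e.1 ((σ ^ j) (rep x)) = e.1 (rep x) := by
        intro j
        induction j with
        | zero => rfl
        | succ j ih => rw [pow_succ', Equiv.Perm.mul_apply, e.2, ih]
      conv_lhs => rw [← hi]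
      exact this i
    rw [hconst c, hconst d]
    exact congrFun h ⟨rep x, Finset.mem_image_of_mem _ (Finset.mem_univ _)⟩
  · rw [Nat.card_fun, Nat.card_zmod, Nat.card_eq_finsetCard]
    exact Nat.pow_le_pow_right (by norm_num) hbound

variable {H : Type u} [Group H] [Finite H] {M : Type v} [AddCommGroup M] [Finite M] [DistribMulAction H M]

/-- The affine permutation. -/
def aff (q : H × M) : Equiv.Perm M := (MulAction.toPerm q.1).trans (Equiv.addRight q.2)

omit [Finite H] [Finite M] in
theorem aff_apply (q : H × M) (x : M) : aff q x = q.1 • x + q.2 := rfl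

/-- The fixed subgroup. -/
def fixG (h : H) : AddSubgroup M where
  carrier := {v | h • v = v}
  zero_mem' := smul_zero h
  add_mem' {a b} ha hb := by show h • (a + b) = a + b; rw [smul_add, ha, hb]
  neg_mem' {a} ha := by show h • -a = -a; rw [smul_neg, ha]

omit [Finite H] in
/-- The fixed points of an affine map. -/
theorem fix_aff_le (q : H × M) : Nat.card {x : M // aff q x = x} ≤ Nat.card (fixG (M := M) q.1) := by
  rcases isEmpty_or_nonempty {x : M // aff q x = x} with he | ⟨⟨x₀, hx₀⟩⟩
  · simp [Nat.card_of_isEmpty]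
  · refine Nat.card_le_card_of_injective (fun x => ⟨x.1 - x₀, ?_⟩) fun x y h => ?_
    · show q.1 • (x.1 - x₀) = x.1 - x₀
      have h1 := x.2
      rw [aff_apply] at h1 hx₀
      rw [smul_sub, eq_sub_iff_add_eq.2 h1, eq_sub_iff_add_eq.2 hx₀]
      abel
    · exact Subtype.ext (sub_left_injective (congrArg Subtype.val h))

/-- The counting criterion. -/
theorem exists_colour_of_count {a b : ℕ} (big : Finset (H × M)) (na nb : ℕ)
    (hbig : big.card ≤ a) (hall : Nat.card H * Nat.card M ≤ b)
    (hna : ∀ q : H × M, aff q ≠ 1 → Nat.card {c : M → ZMod 3 // ∀ x, c (aff q x) = c x} ≤ 3 ^ na)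
    (hnb : ∀ q : H × M, q ∉ big → aff q ≠ 1 → Nat.card {c : M → ZMod 3 // ∀ x, c (aff q x) = c x} ≤ 3 ^ nb)
    (hineq : a * 3 ^ na + b * 3 ^ nb < 3 ^ Nat.card M) :
    ∃ c : M → ZMod 3, ∀ q : H × M, (∀ x, c (aff q x) = c x) → aff q = 1 := by
  classical
  haveI := Fintype.ofFinite M
  haveI := Fintype.ofFinite H
  by_contra hno
  push Not at hno
  choose qf hq hq1 using hno
  let fib : H × M → Finset (M → ZMod 3) := fun q =>
    if aff q = 1 then ∅ else Finset.univ.filter fun c => ∀ x, c (aff q x) = c x
  have hcover : (Finset.univ : Finset (M → ZMod 3)) ⊆ (Finset.univ : Finset (H × M)).biUnion fib := fun c _ => by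
    refine Finset.mem_biUnion.2 ⟨qf c, Finset.mem_univ _, ?_⟩
    simp only [fib, if_neg (hq1 c), Finset.mem_filter, Finset.mem_univ, true_and]
    exact hq c
  have hfib : ∀ q : H × M, (fib q).card ≤ (if q ∈ big then 3 ^ na else 0) + 3 ^ nb := fun q => by
    by_cases h1 : aff q = 1
    · simp [fib, h1]
    have hc : (fib q).card = Nat.card {c : M → ZMod 3 // ∀ x, c (aff q x) = c x} := by
      rw [Nat.card_eq_fintype_card, Fintype.card_subtype]; simp [fib, h1]
    rw [hc]
    by_cases hb : q ∈ big
    · refine le_trans (hna q h1) (by simp [hb])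
    · exact le_trans (hnb q hb h1) (by simp [hb])
  have h := (Finset.card_le_card hcover).trans (Finset.card_biUnion_le.trans (Finset.sum_le_sum fun q _ => hfib q))
  rw [Finset.sum_add_distrib, Finset.sum_ite_mem, Finset.univ_inter, Finset.sum_const, Finset.sum_const, smul_eq_mul,
    smul_eq_mul, Finset.card_univ, Finset.card_univ, Fintype.card_fun, ZMod.card, Fintype.card_prod,
    ← Nat.card_eq_fintype_card (α := H), ← Nat.card_eq_fintype_card (α := M)] at h
  have h1 := Nat.mul_le_mul_right (3 ^ na) hbig
  have h2 := Nat.mul_le_mul_right (3 ^ nb) hall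
  omega

omit [Finite M] in
theorem eq_of_aff_eq_one (q : H × M) (h : aff q = 1) : q.2 = 0 ∧ ∀ x : M, q.1 • x = x := by
  have h0 : q.2 = 0 := by
    have := Equiv.ext_iff.1 h 0
    simpa [aff_apply] using this
  refine ⟨h0, fun x => ?_⟩
  have := Equiv.ext_iff.1 h x
  simpa [aff_apply, h0] using this

/-- The image of `h - 1`. -/
theorem fix_mul_moved (h : H) :
    Nat.card (fixG (M := M) h) * Nat.card (Set.range fun x : M => h • x - x) = Nat.card M := by
  let δ : M →+ M := AddMonoidHom.mk' (fun x => h • x - x) fun x y => by rw [smul_add]; abel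
  have h1 := AddSubgroup.card_mul_index δ.ker
  rw [AddSubgroup.index_ker] at h1
  have h2 : δ.ker = fixG h := by
    ext x
    exact sub_eq_zero
  rw [h2] at h1
  exact h1

variable [FaithfulSMul H M] [Module (ZMod 2) M] {d : ℕ} (bas : Module.Basis (Fin d) (ZMod 2) M)

omit [Finite H] [Finite M] in
/-- An element is determined by the images of a basis. -/
theorem eq_of_bas {g h : H} (he : ∀ i, g • bas i = h • bas i) : g = h := by
  refine FaithfulSMul.eq_of_smul_eq_smul fun x : M => ?_
  have h1 : (DistribMulAction.toAddMonoidHom M g).toZModLinearMap 2 =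
      (DistribMulAction.toAddMonoidHom M h).toZModLinearMap 2 := bas.ext fun i => he i
  exact LinearMap.congr_fun h1 x

include bas in
/-- Six dimensions and more. -/
theorem colour_large (hd : 6 ≤ d) (h3 : ¬ 3 ∣ Nat.card H) :
    ∃ c : M → ZMod 3, ∀ q : H × M, (∀ x, c (aff q x) = c x) → aff q = 1 := by
  classical
  haveI := Fintype.ofFinite M
  haveI := Fintype.ofFinite H
  have hM : Nat.card M = 2 ^ d := by
    rw [Module.natCard_eq_pow_finrank (K := ZMod 2) (V := M), Nat.card_zmod, Module.finrank_eq_card_basis bas,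
      Fintype.card_fin]
  obtain ⟨t, rfl⟩ : ∃ t, d = t + 6 := ⟨d - 6, by omega⟩
  set s := 2 ^ t with hs
  have hk : Nat.card M = 64 * s := by rw [hM, pow_add, hs]; ring
  have hspos : 0 < s := by positivity
  -- at most a quarter of the points or few elements
  let big : Finset (H × M) := Finset.univ.filter fun q =>
    16 * s < Nat.card {x : M // aff q x = x}
  have hbig : big.card ≤ 2 * (2 ^ (t + 6) * 2 ^ (t + 6)) := by
    let code : M × (Fin (t + 6) → Bool) × Bool → (Fin (t + 6) → M) × M := fun z =>
      (fun i => bas i + if z.2.1 i then z.1 else 0, if z.2.2 then z.1 else 0)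
    let val : H × M → (Fin (t + 6) → M) × M := fun q => (fun i => q.1 • bas i, q.2)
    have hinj : Function.Injective val := fun q q' h => by
      simp only [val, Prod.mk.injEq] at h
      exact Prod.ext (eq_of_bas bas (congrFun h.1)) h.2
    have hsub : big.image val ⊆ (Finset.univ : Finset (M × (Fin (t + 6) → Bool) × Bool)).image code := by
      intro y hy
      obtain ⟨q, hq, rfl⟩ := Finset.mem_image.1 hy
      have hq' := (Finset.mem_filter.1 hq).2
      set R := Set.range fun x : M => q.1 • x - x with hR
      have hfix := (lt_of_lt_of_le hq' (fix_aff_le q))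
      have h1 := fix_mul_moved (M := M) q.1
      have hR3 : Nat.card R ≤ 3 := by
        by_contra hc
        have := Nat.mul_le_mul (Nat.succ_le_of_lt hfix) (show 4 ≤ Nat.card R by omega)
        rw [h1, hk] at this
        omega
      haveI : Nonempty {x : M // aff q x = x} :=
        (Nat.card_pos_iff.1 (lt_of_le_of_lt (Nat.zero_le _) hq')).1
      obtain ⟨⟨x₀, hx₀⟩⟩ := ‹Nonempty {x : M // aff q x = x}›
      rw [aff_apply] at hx₀
      have h0 : (0 : M) ∈ R := ⟨0, by simp⟩
      have htwo : ∀ x : M, x + x = 0 := fun x => by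
        rw [← two_smul (ZMod 2) x, show (2 : ZMod 2) = 0 from rfl, zero_smul]
      obtain ⟨u, hu⟩ : ∃ u, ∀ x ∈ R, x = 0 ∨ x = u := by
        by_cases hall : ∀ x ∈ R, x = 0
        · exact ⟨0, fun x hx => Or.inl (hall x hx)⟩
        push Not at hall
        obtain ⟨u, hu, hu0⟩ := hall
        refine ⟨u, fun x hx => ?_⟩
        by_contra hcon
        rw [not_or] at hcon
        obtain ⟨a, ha⟩ := hu
        obtain ⟨b, hb⟩ := hx
        have hsum : u + x ∈ R := ⟨a + b, by rw [← ha, ← hb]; simp only [smul_add]; abel⟩
        have hsub : ({0, u, x, u + x} : Finset M) ⊆ R.toFinset := by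
          intro y hy
          simp only [Finset.mem_insert, Finset.mem_singleton] at hy
          rw [Set.mem_toFinset]
          rcases hy with rfl | rfl | rfl | rfl
          exacts [h0, ⟨a, ha⟩, ⟨b, hb⟩, hsum]
        have hne : ∀ y z : M, y + z = 0 → y = z := fun y z h => add_right_cancel (h.trans (htwo z).symm)
        have hcard : ({0, u, x, u + x} : Finset M).card = 4 := by
          rw [Finset.card_eq_four]
          refine ⟨0, u, x, u + x, hu0.symm, Ne.symm hcon.1, fun h => hcon.2 (hne u x h.symm).symm,
            fun h => hcon.2 h.symm, fun h => hcon.1 (left_eq_add.1 h), fun h => hu0 (right_eq_add.1 h), rfl⟩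
        have := Finset.card_le_card hsub
        rw [hcard, ← Nat.card_eq_card_toFinset] at this
        omega
      refine Finset.mem_image.2 ⟨(u, fun i => decide (q.1 • bas i - bas i = u), decide (q.2 = u)),
        Finset.mem_univ _, Prod.ext (funext fun i => ?_) ?_⟩
      · simp only [code, val, decide_eq_true_eq]
        split_ifs with h
        · rw [← h]; abel
        · rw [(hu _ ⟨bas i, rfl⟩).resolve_right h |> sub_eq_zero.1, add_zero]
      · simp only [code, val, decide_eq_true_eq]
        split_ifs with h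
        · exact h.symm
        · refine ((hu q.2 ⟨x₀, ?_⟩).resolve_right h).symm
          show q.1 • x₀ - x₀ = q.2
          rw [eq_sub_iff_add_eq.2 hx₀, sub_sub, add_comm, ← sub_sub, sub_self, zero_sub]
          exact neg_eq_of_add_eq_zero_left (htwo _)
    have h4 := Finset.card_le_card hsub
    rw [Finset.card_image_of_injective _ hinj] at h4
    refine h4.trans (Finset.card_image_le.trans ?_)
    rw [Finset.card_univ, Fintype.card_prod, Fintype.card_prod, Fintype.card_fun, Fintype.card_fin, Fintype.card_bool,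
      ← Nat.card_eq_fintype_card, hM]
    exact le_of_eq (by ring)
  have hfixlt : ∀ q : H × M, aff q ≠ 1 → Nat.card {x : M // aff q x = x} ≤ 32 * s := by
    intro q hq
    rcases isEmpty_or_nonempty {x : M // aff q x = x} with he | ⟨⟨x₀, hx₀⟩⟩
    · simp [Nat.card_of_isEmpty]
    refine (fix_aff_le q).trans ?_
    have h1 := fix_mul_moved (M := M) q.1
    by_contra hc
    have hR : Nat.card (Set.range fun x : M => q.1 • x - x) ≤ 1 := by
      by_contra hR
      have := Nat.mul_le_mul (Nat.succ_le_of_lt (not_le.1 hc)) (show 2 ≤ Nat.card _ from not_le.1 hR)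
      rw [h1, hk] at this
      omega
    haveI := Finite.card_le_one_iff_subsingleton.1 hR
    have htriv : ∀ x : M, q.1 • x = x := fun x => by
      have := congrArg Subtype.val (Subsingleton.elim (⟨_, x, rfl⟩ : Set.range fun x : M => q.1 • x - x) ⟨_, 0, rfl⟩)
      simpa [sub_eq_zero] using this
    rw [aff_apply, htriv] at hx₀
    exact hq (Equiv.ext fun x => by rw [aff_apply, htriv, show q.2 = 0 from add_eq_left.1 hx₀, add_zero]; rfl)
  have hna : ∀ q : H × M, aff q ≠ 1 → Nat.card {c : M → ZMod 3 // ∀ x, c (aff q x) = c x} ≤ 3 ^ (48 * s) :=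
    fun q hq => card_fixed_colourings_le (aff q) (48 * s) (32 * s) (hfixlt q hq)
      (by rw [← Nat.card_eq_fintype_card, hk]; omega)
  have hnb : ∀ q : H × M, q ∉ big → aff q ≠ 1 →
      Nat.card {c : M → ZMod 3 // ∀ x, c (aff q x) = c x} ≤ 3 ^ (40 * s) :=
    fun q hq _ => card_fixed_colourings_le (aff q) (40 * s) (16 * s)
      (by simpa [big] using hq) (by rw [← Nat.card_eq_fintype_card, hk]; omega)
  have hA : 2 * (2 ^ (t + 6) * 2 ^ (t + 6)) * 2 ≤ 3 ^ (16 * s) := by
    rcases t.eq_zero_or_pos with rfl | ht
    · rw [hs]; norm_num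
    have h1 : 2 * (2 ^ (t + 6) * 2 ^ (t + 6)) * 2 = 2 ^ (2 * t + 14) := by ring
    have h2 : t < s := Nat.lt_two_pow_self
    rw [h1]
    exact le_trans (Nat.pow_le_pow_left (by norm_num : 2 ≤ 3) _) (Nat.pow_le_pow_right (by norm_num) (by omega))
  have hcardH : Nat.card H * Nat.card M * 2 ≤ 3 ^ (24 * s) := by
    let e : H → (Fin (t + 6) → M) := fun g i => g • bas i
    have he : Function.Injective e := fun g h hgh => eq_of_bas bas (congrFun hgh)
    rcases t.eq_zero_or_pos with rfl | ht
    · -- six dimensions
      let f : H → (M →ₗ[ZMod 2] M) := fun g => (DistribMulAction.toAddMonoidHom M g).toZModLinearMap 2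
      let φm : H →* Matrix (Fin (0 + 6)) (Fin (0 + 6)) (ZMod 2) :=
        { toFun := fun g => LinearMap.toMatrix bas bas (f g)
          map_one' := by
            rw [show f 1 = LinearMap.id from LinearMap.ext fun x => one_smul H x, LinearMap.toMatrix_id]
          map_mul' := fun g h => by
            rw [← LinearMap.toMatrix_mul]
            congr 1
            exact LinearMap.ext fun x => mul_smul g h x }
      let φ : H →* GL (Fin (0 + 6)) (ZMod 2) := φm.toHomUnits
      have hφ : Function.Injective φ := fun g h hgh => by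
        refine eq_of_bas bas fun i => ?_
        have h1 := congrArg Units.val hgh
        exact LinearMap.congr_fun ((LinearMap.toMatrix bas bas).injective (show LinearMap.toMatrix bas bas (f g) = LinearMap.toMatrix bas bas (f h) from h1)) (bas i)
      have hdvd := Subgroup.card_dvd_of_injective φ hφ
      rw [Matrix.card_GL_field, ZMod.card] at hdvd
      simp only [Fin.prod_univ_succ, Finset.univ_eq_empty, Finset.prod_empty] at hdvd
      norm_num at hdvd
      have hcop : (Nat.card H).Coprime (3 ^ 4) :=
        (Nat.Coprime.pow_right 4 ((Nat.prime_three.coprime_iff_not_dvd.2 h3).symm))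
      have h81 : Nat.card H ∣ 248873 * 1000 + 0 ∨ Nat.card H ∣ 20158709760 / 81 :=
        Or.inr (hcop.dvd_of_dvd_mul_left (by norm_num; exact hdvd))
      have hle : Nat.card H ≤ 300000000 := by
        rcases h81 with h | h <;> exact le_trans (Nat.le_of_dvd (by norm_num) h) (by norm_num)
      rw [hk, hs]
      calc Nat.card H * (64 * 2 ^ 0) * 2 ≤ 300000000 * (64 * 2 ^ 0) * 2 := by gcongr
        _ ≤ _ := by norm_num
    · have hle := Nat.card_le_card_of_injective e he
      rw [Nat.card_fun, Nat.card_fin, hM, ← pow_mul] at hle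
      rw [hM]
      have hexp : (t + 6) * (t + 6) + (t + 6) + 1 ≤ 36 * s := by
        have : ∀ m, 1 ≤ m → (m + 6) * (m + 6) + (m + 6) + 1 ≤ 36 * 2 ^ m := by
          intro m hm
          induction m, hm using Nat.le_induction with
          | base => norm_num
          | succ m hm ih => rw [pow_succ]; nlinarith
        exact this t ht
      calc Nat.card H * 2 ^ (t + 6) * 2 ≤ 2 ^ ((t + 6) * (t + 6)) * 2 ^ (t + 6) * 2 := by gcongr
        _ = 2 ^ ((t + 6) * (t + 6) + (t + 6) + 1) := by
            conv_rhs => rw [pow_succ, pow_add]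
        _ ≤ 2 ^ (36 * s) := Nat.pow_le_pow_right (by norm_num) hexp
        _ = (2 ^ 3) ^ (12 * s) := by rw [← pow_mul]; ring_nf
        _ ≤ (3 ^ 2) ^ (12 * s) := Nat.pow_le_pow_left (by norm_num) _
        _ = 3 ^ (24 * s) := by rw [← pow_mul]; ring_nf
  refine exists_colour_of_count big (48 * s) (40 * s) hbig le_rfl hna hnb ?_
  have hstrict : 2 * (2 ^ (t + 6) * 2 ^ (t + 6)) * 2 < 3 ^ (16 * s) := lt_of_le_of_ne hA fun h => by
    have h2 : 2 ∣ 3 ^ (16 * s) := h ▸ dvd_mul_left _ _
    have := (Nat.prime_dvd_prime_iff_eq Nat.prime_two Nat.prime_three).1 (Nat.prime_two.dvd_of_dvd_pow h2)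
    omega
  rw [hk] at hcardH ⊢
  have eA : 3 ^ (16 * s) * 3 ^ (48 * s) = 3 ^ (64 * s) := by rw [← pow_add]; congr 1; omega
  have eB : 3 ^ (24 * s) * 3 ^ (40 * s) = 3 ^ (64 * s) := by rw [← pow_add]; congr 1; omega
  have hA' := Nat.mul_lt_mul_of_pos_right hstrict (show 0 < 3 ^ (48 * s) by positivity)
  have hB' := Nat.mul_le_mul_right (3 ^ (40 * s)) hcardH
  rw [eA] at hA'
  rw [eB] at hB'
  nlinarith

end CfsgLib.CoprimeBase
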