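import Cfsg.Agent.Lib.FgsC.CoprimeBase.AffineTwo
import Cfsg.Agent.Lib.FgsC.BaseTwo.Small

/-!
# The dimensions up to five in characteristic two
-/

set_option autoImplicit false

universe u v

namespace CfsgLib.CoprimeBase

variable {H : Type u} [Group H] [Finite H] {M : Type v} [AddCommGroup M] [Finite M] [DistribMulAction H M]
  [FaithfulSMul H M] [Module (ZMod 2) M] {d : ℕ} (bas : Module.Basis (Fin d) (ZMod 2) M)

include bas in
omit [Finite H] in
theorem card_dvd_GL : Nat.card H ∣ ∏ i : Fin d, (2 ^ d - 2 ^ (i : ℕ)) := by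
  classical
  let f : H → (M →ₗ[ZMod 2] M) := fun g => (DistribMulAction.toAddMonoidHom M g).toZModLinearMap 2
  let φm : H →* Matrix (Fin d) (Fin d) (ZMod 2) :=
    { toFun := fun g => LinearMap.toMatrix bas bas (f g)
      map_one' := by
        rw [show f 1 = LinearMap.id from LinearMap.ext fun x => one_smul H x, LinearMap.toMatrix_id]
      map_mul' := fun g h => by
        rw [← LinearMap.toMatrix_mul]
        congr 1
        exact LinearMap.ext fun x => mul_smul g h x }
  have hφ : Function.Injective φm.toHomUnits := fun g h hgh => by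
    refine eq_of_bas bas fun i => ?_
    have h1 := congrArg Units.val hgh
    exact LinearMap.congr_fun ((LinearMap.toMatrix bas bas).injective
      (show LinearMap.toMatrix bas bas (f g) = LinearMap.toMatrix bas bas (f h) from h1)) (bas i)
  have hdvd := Subgroup.card_dvd_of_injective φm.toHomUnits hφ
  rwa [Matrix.card_GL_field, ZMod.card] at hdvd

include bas in
/-- Three colours in dimensions up to five. -/
theorem colour_small (hd : d ≤ 5) (hs : Group.IsSolvable H) (h3 : ¬ 3 ∣ Nat.card H)
    (hirr : ∀ U : AddSubgroup M, (∀ (h : H) (v : M), v ∈ U → h • v ∈ U) → U = ⊥ ∨ U = ⊤) :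
    ∃ c : M → ZMod 3, ∀ q : H × M, (∀ x, c (aff q x) = c x) → aff q = 1 := by
  classical
  haveI := Fintype.ofFinite M
  haveI := Fintype.ofFinite H
  have hM : Nat.card M = 2 ^ d := by
    rw [Module.natCard_eq_pow_finrank (K := ZMod 2) (V := M), Nat.card_zmod, Module.finrank_eq_card_basis bas,
      Fintype.card_fin]
  have htwo : ∀ x : M, x + x = 0 := fun x => by
    rw [← two_smul (ZMod 2) x, show (2 : ZMod 2) = 0 from rfl, zero_smul]
  -- at most two points
  by_cases hd1 : d ≤ 1
  · have hle : Fintype.card M ≤ Fintype.card (ZMod 3) := by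
      rw [← Nat.card_eq_fintype_card, hM, ZMod.card]
      interval_cases d <;> norm_num
    obtain ⟨e⟩ := Function.Embedding.nonempty_of_card_le hle
    exact ⟨e, fun q hq => Equiv.ext fun x => e.injective (hq x)⟩
  rcases subsingleton_or_nontrivial H with hsub | hnt
  · -- an irreducible trivial group lives in dimension one
    exfalso
    haveI : Nontrivial M := Finite.one_lt_card_iff_nontrivial.1 (by rw [hM]; exact Nat.one_lt_two_pow (by omega))
    obtain ⟨v, hv⟩ := exists_ne (0 : M)
    rcases hirr (AddSubgroup.zmultiples v) (fun h x hx => by rwa [Subsingleton.elim h 1, one_smul]) with h | h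
    · exact hv (by simpa [h] using AddSubgroup.mem_zmultiples v)
    · have h1 : Nat.card (AddSubgroup.zmultiples v) = 2 := by
        rw [Nat.card_zmultiples, addOrderOf_eq_prime (by rw [two_nsmul]; exact htwo v) hv]
      rw [h, Nat.card_congr AddSubgroup.topEquiv.toEquiv, hM] at h1
      have := Nat.pow_le_pow_right (show 0 < 2 by norm_num) (show 2 ≤ d by omega)
      omega
  obtain ⟨R, hRn, hRne, hRc, -⟩ := CfsgLib.BaseTwo.exists_min_abelian hs
  -- fixed spaces of normal subgroups
  have hfixR : ∀ (P : Subgroup H), P.Normal → P ≠ ⊥ → ∀ v : M, (∀ g ∈ P, g • v = v) → v = 0 := by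
    intro P hP hne v hv
    let U : AddSubgroup M :=
      { carrier := {w | ∀ g ∈ P, g • w = w}
        zero_mem' := fun g _ => smul_zero g
        add_mem' := fun {a b} ha hb g hg => by rw [smul_add, ha g hg, hb g hg]
        neg_mem' := fun {a} ha g hg => by rw [smul_neg, ha g hg] }
    rcases hirr U (fun h w hw g hg => by
      have := hw _ (hP.conj_mem g hg h⁻¹)
      rwa [inv_inv, mul_smul, mul_smul, inv_smul_eq_iff] at this) with h | h
    · exact AddSubgroup.mem_bot.1 (h ▸ (show v ∈ U from hv))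
    · exact absurd ((Subgroup.eq_bot_iff_forall P).2 fun g hg =>
        FaithfulSMul.eq_of_smul_eq_smul fun w : M => by
          rw [one_smul]; exact (h.symm ▸ AddSubgroup.mem_top w : w ∈ U) g hg) hne
  obtain ⟨ℓ, hℓ, hℓR⟩ := Nat.exists_prime_and_dvd (show Nat.card R ≠ 1 from
    fun h => hRne (Subgroup.card_eq_one.1 h))
  haveI : Fact ℓ.Prime := ⟨hℓ⟩
  -- the elements of order dividing `ℓ`
  let P : Subgroup H :=
    { carrier := {x | x ∈ R ∧ x ^ ℓ = 1}
      one_mem' := ⟨R.one_mem, one_pow _⟩
      mul_mem' := fun {a b} ha hb =>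
        ⟨R.mul_mem ha.1 hb.1, by rw [(show Commute a b from hRc a ha.1 b hb.1).mul_pow, ha.2, hb.2, one_mul]⟩
      inv_mem' := fun {a} ha => ⟨R.inv_mem ha.1, by rw [inv_pow, ha.2, inv_one]⟩ }
  haveI hPn : P.Normal := ⟨fun x hx g => ⟨hRn.conj_mem x hx.1 g, by rw [conj_pow, hx.2, mul_one, mul_inv_cancel]⟩⟩
  have hPne : P ≠ ⊥ := fun h => by
    obtain ⟨x, hx⟩ := exists_prime_orderOf_dvd_card' (G := R) ℓ hℓR
    have hxP : (x : H) ∈ P := ⟨x.2, by rw [← Subgroup.coe_pow, ← hx, pow_orderOf_eq_one, Subgroup.coe_one]⟩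
    rw [h, Subgroup.mem_bot] at hxP
    rw [show x = 1 from Subtype.ext hxP, orderOf_one] at hx
    exact hℓ.one_lt.ne hx
  have hPexp : IsPGroup ℓ P := fun x => ⟨1, Subtype.ext (by rw [Subgroup.coe_pow, pow_one]; exact x.2.2)⟩
  have hℓ2 : ℓ ≠ 2 := fun e => by
    subst e
    have hdvd : 2 ∣ Nat.card M := by rw [hM]; exact dvd_pow_self 2 (by omega)
    haveI : Fact (Nat.Prime 2) := ⟨Nat.prime_two⟩
    obtain ⟨v, hv0, hv⟩ := CfsgLib.BaseTwo.exists_fixed_ne_zero (H := H) (M := M) hdvd hPexp
    exact hv0 (hfixR P hPn hPne v hv)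
  have hGL := card_dvd_GL (H := H) bas
  have hPdvd : Nat.card P ∣ ∏ i : Fin d, (2 ^ d - 2 ^ (i : ℕ)) := (Subgroup.card_subgroup_dvd_card P).trans hGL
  obtain ⟨j, hj⟩ := IsPGroup.iff_card.1 hPexp
  have hj0 : j ≠ 0 := fun h => hPne (Subgroup.card_eq_one.1 (by rw [hj, h, pow_zero]))
  have hℓ3 : ℓ ≠ 3 := fun e => h3 (e ▸ (dvd_pow_self ℓ hj0).trans (hj ▸ Subgroup.card_subgroup_dvd_card P))
  rw [hj] at hPdvd
  -- the prime and the dimension
  have hj1 : j = 1 ∧ ℓ ∈ ([5, 7, 31] : List ℕ) := by
    have hcop : (ℓ ^ j).Coprime (2 ^ 10 * 3 ^ 3) :=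
      Nat.Coprime.pow_left j (Nat.Coprime.mul_right
        (((Nat.coprime_primes hℓ Nat.prime_two).2 hℓ2).pow_right 10)
        (((Nat.coprime_primes hℓ Nat.prime_three).2 hℓ3).pow_right 3))
    have h1085 : ℓ ^ j ∣ 1085 := by
      refine hcop.dvd_of_dvd_mul_left (hPdvd.trans ?_)
      interval_cases d <;> simp [Fin.prod_univ_succ] <;> norm_num
    have hl : ℓ ∣ 5 * (7 * 31) := (dvd_pow_self ℓ hj0).trans h1085
    have hsq : j = 1 := by
      by_contra hne
      have h2 : ℓ ^ 2 ∣ 1085 := (pow_dvd_pow ℓ (show 2 ≤ j by omega)).trans h1085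
      rcases hℓ.dvd_mul.1 hl with h | h
      · rw [(Nat.prime_dvd_prime_iff_eq hℓ Nat.prime_five).1 h] at h2; norm_num at h2
      rcases hℓ.dvd_mul.1 h with h | h
      · rw [(Nat.prime_dvd_prime_iff_eq hℓ (by norm_num)).1 h] at h2; norm_num at h2
      · rw [(Nat.prime_dvd_prime_iff_eq hℓ (by norm_num)).1 h] at h2; norm_num at h2
    refine ⟨hsq, ?_⟩
    rcases hℓ.dvd_mul.1 hl with h | h
    · simp [(Nat.prime_dvd_prime_iff_eq hℓ Nat.prime_five).1 h]
    rcases hℓ.dvd_mul.1 h with h | h
    · simp [(Nat.prime_dvd_prime_iff_eq hℓ (by norm_num)).1 h]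
    · simp [(Nat.prime_dvd_prime_iff_eq hℓ (by norm_num)).1 h]
  obtain ⟨rfl, hℓmem⟩ := hj1
  rw [pow_one] at hj hPdvd
  -- every invariant subgroup of `P` is trivial or everything
  have hPfree : ∀ g ∈ P, g ≠ 1 → ∀ v : M, g • v = v → v = 0 := by
    intro g hg hg1 v hv
    refine hfixR P hPn hPne v fun k hk => ?_
    obtain ⟨i, hi⟩ := Subgroup.mem_zpowers_iff.1 (mem_zpowers_of_prime_card (g := (⟨g, hg⟩ : P))
      (g' := (⟨k, hk⟩ : P)) hj (fun h => hg1 (congrArg Subtype.val h)))
    have h1 : k = g ^ i := by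
      have := congrArg Subtype.val hi
      rw [Subgroup.coe_zpow] at this
      exact this.symm
    rw [h1, ← MulAction.mem_stabilizer_iff]
    exact zpow_mem (MulAction.mem_stabilizer_iff.2 hv) i
  have hPsub : ∀ U : AddSubgroup M, (∀ g ∈ P, ∀ v ∈ U, g • v ∈ U) → ℓ ∣ Nat.card U - 1 := by
    intro U hU
    letI : MulAction P U :=
      { smul := fun g x => ⟨(g : H) • (x : M), hU g g.2 x x.2⟩
        one_smul := fun x => Subtype.ext (one_smul H (x : M))
        mul_smul := fun g h x => Subtype.ext (mul_smul (g : H) (h : H) (x : M)) }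
    have hfix : Nat.card (MulAction.fixedPoints P U) = 1 := by
      haveI : Subsingleton (MulAction.fixedPoints P U) :=
        ⟨fun x y => Subtype.ext (Subtype.ext ((hfixR P hPn hPne _ fun g hg => congrArg Subtype.val (x.2 ⟨g, hg⟩)).trans
          (hfixR P hPn hPne _ fun g hg => congrArg Subtype.val (y.2 ⟨g, hg⟩)).symm))⟩
      haveI : Nonempty (MulAction.fixedPoints P U) := ⟨⟨0, fun g => Subtype.ext (smul_zero (g : H))⟩⟩
      exact Nat.card_unique
    have h1 := IsPGroup.card_modEq_card_fixedPoints (p := ℓ) hPexp U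
    rw [hfix] at h1
    exact (Nat.modEq_iff_dvd' Nat.card_pos).1 h1.symm
  have hℓd : ℓ ∣ 2 ^ d - 1 := by
    have := hPsub ⊤ fun _ _ _ _ => trivial
    rwa [Nat.card_congr AddSubgroup.topEquiv.toEquiv, hM] at this
  have hPirr : ∀ U : AddSubgroup M, (∀ g ∈ P, ∀ v ∈ U, g • v ∈ U) → U = ⊥ ∨ U = ⊤ := by
    intro U hU
    obtain ⟨i, hi, hiU⟩ := (Nat.dvd_prime_pow Nat.prime_two).1 (hM ▸ AddSubgroup.card_addSubgroup_dvd_card U)
    have h1 := hPsub U hU
    rw [hiU] at h1
    rcases i.eq_zero_or_pos with rfl | hi0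
    · exact Or.inl (AddSubgroup.eq_bot_of_card_le _ (by rw [hiU]; norm_num))
    rcases hi.lt_or_eq with hlt | rfl
    · exfalso
      fin_cases hℓmem <;> interval_cases d <;> first | (revert hℓd; decide) | (interval_cases i <;> (revert h1; decide))
    · exact Or.inr (AddSubgroup.eq_top_of_card_eq U (by rw [hiU, hM]))
  set C := Subgroup.centralizer (P : Set H) with hC
  have hCfree : ∀ g ∈ C, g ≠ 1 → ∀ v : M, g • v = v → v = 0 := by
    intro g hg hg1 v hv
    rcases hPirr (fixG g) (fun k hk w hw => by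
      show g • k • w = k • w
      rw [smul_smul, ← Subgroup.mem_centralizer_iff.1 hg k hk, mul_smul, show g • w = w from hw]) with h | h
    · exact AddSubgroup.mem_bot.1 (h ▸ (show v ∈ fixG g from hv))
    · exact absurd (FaithfulSMul.eq_of_smul_eq_smul fun w : M => by
        rw [one_smul]; exact (h.symm ▸ AddSubgroup.mem_top w : w ∈ fixG g)) hg1
  -- fixed spaces meet their translates trivially
  have hFsq : ∀ g : H, g ≠ 1 → Nat.card (fixG (M := M) g) ^ 2 ≤ 2 ^ d := by
    intro g hg
    by_cases hgC : g ∈ C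
    · haveI : Subsingleton (fixG (M := M) g) := ⟨fun x y =>
        Subtype.ext ((hCfree g hgC hg x x.2).trans (hCfree g hgC hg y y.2).symm)⟩
      rw [Nat.card_of_subsingleton (0 : fixG (M := M) g)]
      simp [Nat.one_le_two_pow]
    obtain ⟨r, hr, hne⟩ : ∃ r ∈ P, r * g ≠ g * r := by
      by_contra hall
      push Not at hall
      exact hgC (Subgroup.mem_centralizer_iff.2 hall)
    let ψ : fixG (M := M) g × fixG (M := M) g →+ M :=
      AddMonoidHom.mk' (fun z => (z.1 : M) - r • (z.2 : M)) fun z z' => by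
        simp only [Prod.fst_add, Prod.snd_add, AddSubgroup.coe_add, smul_add]; abel
    have hinj : Function.Injective ψ := by
      rw [injective_iff_map_eq_zero]
      intro z hz
      have h1 : (z.1 : M) = r • (z.2 : M) := sub_eq_zero.1 hz
      set k := r⁻¹ * (g * r * g⁻¹) with hk
      have hkP : k ∈ P := P.mul_mem (P.inv_mem hr) (hPn.conj_mem r hr g)
      have hk1 : k ≠ 1 := fun e => hne (by
        rw [hk, inv_mul_eq_one] at e
        calc r * g = g * r * g⁻¹ * g := by rw [← e]
          _ = g * r := by group)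
      have h2 : k • (z.2 : M) = z.2 := by
        rw [hk, mul_smul, mul_smul, mul_smul, inv_smul_eq_iff.2 (show (z.2 : M) = g • (z.2 : M) from z.2.2.symm), ← h1,
          show g • (z.1 : M) = z.1 from z.1.2, h1, inv_smul_smul]
      have h3 : (z.2 : M) = 0 := hPfree k hkP hk1 _ h2
      exact Prod.ext (Subtype.ext (by rw [h1, h3, smul_zero]; rfl)) (Subtype.ext h3)
    have := Nat.card_le_card_of_injective ψ hinj
    rwa [Nat.card_prod, ← pow_two, hM] at this
  -- the order
  have hCcard : Nat.card C ≤ 2 ^ d - 1 := by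
    haveI : Nontrivial M := Finite.one_lt_card_iff_nontrivial.1 (by rw [hM]; exact Nat.one_lt_two_pow (by omega))
    obtain ⟨v, hv⟩ := exists_ne (0 : M)
    have h1 : Nat.card {w : M // w ≠ 0} = 2 ^ d - 1 := by
      rw [Nat.card_eq_fintype_card, Fintype.card_subtype_compl, Fintype.card_subtype_eq, ← Nat.card_eq_fintype_card, hM]
    rw [← h1]
    refine Nat.card_le_card_of_injective (fun c : C => ⟨(c : H) • v, fun e => hv ((smul_eq_zero_iff_eq _).1 e)⟩)
      fun a b hab => ?_
    have he : (a : H) • v = (b : H) • v := congrArg (fun w : {w : M // w ≠ 0} => (w : M)) hab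
    refine Subtype.ext (inv_mul_eq_one.1 ?_)
    by_contra hne
    exact hv (hCfree _ (C.mul_mem (C.inv_mem a.2) b.2) hne v (by rw [mul_smul, ← he, inv_smul_smul]))
  have hcount : ∀ (n b F : ℕ), 2 ^ d + F ≤ 2 * n + 1 → (∀ g : H, g ≠ 1 → Nat.card (fixG (M := M) g) ≤ F) →
      Nat.card H * Nat.card M ≤ b → b * 3 ^ n < 3 ^ Nat.card M →
      ∃ c : M → ZMod 3, ∀ q : H × M, (∀ x, c (aff q x) = c x) → aff q = 1 := by
    intro n b F hn hF hb hlt
    have hq : ∀ q : H × M, aff q ≠ 1 → Nat.card {c : M → ZMod 3 // ∀ x, c (aff q x) = c x} ≤ 3 ^ n := fun q hq => by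
      refine card_fixed_colourings_le (aff q) n F ?_ (by rw [← Nat.card_eq_fintype_card, hM]; exact hn)
      by_cases h1 : q.1 = 1
      · haveI : IsEmpty {x : M // aff q x = x} := ⟨fun x => hq (Equiv.ext fun y => by
          have := x.2
          rw [aff_apply, h1, one_smul, add_eq_left] at this
          rw [aff_apply, h1, one_smul, this, add_zero]; rfl)⟩
        simp
      · exact (fix_aff_le q).trans (hF q.1 h1)
    exact exists_colour_of_count (∅ : Finset (H × M)) n n (a := 0) (by simp) hb hq (fun q _ h => hq q h) (by simpa using hlt)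
  have hHC : Nat.card H ≤ Nat.card C * (ℓ - 1) := by
    rw [← C.card_mul_index]
    refine Nat.mul_le_mul_left _ ?_
    let θ : H ⧸ C → {x : P // x ≠ 1} := fun c => by
      have hne : ∃ x : P, x ≠ 1 := by
        by_contra hall
        push Not at hall
        exact hPne ((Subgroup.eq_bot_iff_forall P).2 fun x hx => congrArg Subtype.val (hall ⟨x, hx⟩))
      exact ⟨⟨c.out * hne.choose * c.out⁻¹, hPn.conj_mem _ hne.choose.2 _⟩, fun e => hne.choose_spec (Subtype.ext (by
        have := congrArg Subtype.val e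
        rwa [Subgroup.coe_one, mul_inv_eq_one, mul_eq_left] at this))⟩
    have hθ : Function.Injective θ := by
      intro a b hab
      rw [← QuotientGroup.out_eq' a, ← QuotientGroup.out_eq' b, QuotientGroup.eq]
      have hne : ∃ x : P, x ≠ 1 := ⟨_, (θ a).2⟩
      have he : a.out * (hne.choose : H) * a.out⁻¹ = b.out * (hne.choose : H) * b.out⁻¹ :=
        congrArg (fun z : {x : P // x ≠ 1} => (z.1 : H)) hab
      refine Subgroup.mem_centralizer_iff.2 fun k hk => ?_
      obtain ⟨i, hi⟩ := Subgroup.mem_zpowers_iff.1 (mem_zpowers_of_prime_card (g := hne.choose)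
        (g' := (⟨k, hk⟩ : P)) hj hne.choose_spec)
      have h1 : k = (hne.choose : H) ^ i := by
        have := congrArg Subtype.val hi
        rw [Subgroup.coe_zpow] at this
        exact this.symm
      have hcm : Commute (a.out⁻¹ * b.out) (hne.choose : H) := by
        show a.out⁻¹ * b.out * hne.choose = hne.choose * (a.out⁻¹ * b.out)
        calc a.out⁻¹ * b.out * (hne.choose : H) = a.out⁻¹ * (b.out * hne.choose * b.out⁻¹) * b.out := by group
          _ = a.out⁻¹ * (a.out * hne.choose * a.out⁻¹) * b.out := by rw [he]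
          _ = _ := by group
      rw [h1]
      exact (hcm.zpow_right i).symm
    rw [Subgroup.index_eq_card]
    refine (Nat.card_le_card_of_injective θ hθ).trans ?_
    rw [Nat.card_eq_fintype_card, Fintype.card_subtype_compl, Fintype.card_subtype_eq, ← Nat.card_eq_fintype_card, hj]
  have hℓcases : (d = 3 ∧ ℓ = 7) ∨ (d = 4 ∧ ℓ = 5) ∨ (d = 5 ∧ ℓ = 31) := by
    fin_cases hℓmem <;> interval_cases d <;> first | (exfalso; revert hℓd; decide) | decide
  rcases hℓcases with ⟨rfl, rfl⟩ | ⟨rfl, rfl⟩ | ⟨rfl, rfl⟩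
  · -- free on the seven points
    have h14 : Nat.card H ≤ 7 * 6 := hHC.trans (Nat.mul_le_mul_right _ (hCcard.trans (by norm_num)))
    have hodd : ∀ g : H, g ^ 2 = 1 → g = 1 := by
      intro g hg
      by_contra hne
      have h1 := hFsq g hne
      have h2 := fix_mul_moved (M := M) g
      have h3 : Nat.card (Set.range fun x : M => g • x - x) ≤ Nat.card (fixG (M := M) g) :=
        Nat.card_le_card_of_injective (fun y => ⟨y.1, by
          obtain ⟨x, hx⟩ := y.2
          show g • y.1 = y.1
          rw [← hx]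
          show g • (g • x - x) = g • x - x
          rw [smul_sub, smul_smul, ← pow_two, hg, one_smul, sub_eq_add_neg, sub_eq_add_neg,
            neg_eq_of_add_eq_zero_left (htwo (g • x)), neg_eq_of_add_eq_zero_left (htwo x)]
          abel⟩) fun y z h => Subtype.ext (by exact (congrArg Subtype.val h :))
      have h4 := Nat.mul_le_mul_left (Nat.card (fixG (M := M) g)) h3
      rw [h2, hM, ← pow_two] at h4
      obtain ⟨i, -, hi⟩ := (Nat.dvd_prime_pow Nat.prime_two).1 (hM ▸ AddSubgroup.card_addSubgroup_dvd_card (fixG g))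
      rw [hi, ← pow_mul] at h1 h4
      have := (Nat.pow_le_pow_iff_right (show 1 < 2 by norm_num)).1 h1
      have := (Nat.pow_le_pow_iff_right (show 1 < 2 by norm_num)).1 h4
      omega
    have hn2 : ¬ 2 ∣ Nat.card H := fun h => by
      haveI : Fact (Nat.Prime 2) := ⟨Nat.prime_two⟩
      obtain ⟨g, hg⟩ := exists_prime_orderOf_dvd_card' (G := H) 2 h
      have := hodd g (by rw [← hg]; exact pow_orderOf_eq_one g)
      rw [this, orderOf_one] at hg
      omega
    have h7 : Nat.card H ∣ 7 := by
      refine ((Nat.prime_two.coprime_iff_not_dvd.2 hn2).symm.pow_right 3).dvd_of_dvd_mul_left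
        (((Nat.prime_three.coprime_iff_not_dvd.2 h3).symm).dvd_of_dvd_mul_left (hGL.trans ?_))
      simp [Fin.prod_univ_succ]
    have hHeq : ∀ g : H, g ∈ P := fun g => by
      rw [show P = ⊤ from Subgroup.eq_top_of_le_card P (by rw [hj]; exact Nat.le_of_dvd (by norm_num) h7)]
      trivial
    obtain ⟨v, hv⟩ : ∃ v : M, v ≠ 0 := ⟨bas 0, bas.ne_zero 0⟩
    refine ⟨fun x => if x = 0 then 0 else if x = v then 1 else 2, fun q hq => ?_⟩
    have h20 : (2 : ZMod 3) ≠ 0 := by decide
    have hq2 : q.2 = 0 := by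
      have h := hq 0
      rw [aff_apply, smul_zero, zero_add] at h
      simp only [if_true] at h
      split_ifs at h with h1 h2
      · exact h1
      · exact absurd h one_ne_zero
      · exact absurd h h20
    have hq1 : q.1 = 1 := by
      by_contra hne
      have h := hq v
      rw [aff_apply, hq2, add_zero] at h
      simp only [if_neg hv, if_true] at h
      split_ifs at h with h1 h2
      · exact hv ((smul_eq_zero_iff_eq _).1 h1)
      · exact hv (hPfree _ (hHeq _) hne v h2)
      · exact absurd h (by decide)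
    exact Equiv.ext fun x => by rw [aff_apply, hq1, one_smul, hq2, add_zero]; rfl
  · refine hcount 10 (20 * 16) 4 (by norm_num) (fun g hg => ?_) ?_ (by rw [hM]; norm_num)
    · have := hFsq g hg; nlinarith
    · rw [hM]
      have hC5 : Nat.card C ≤ 5 := by
        have h1 := CfsgLib.BaseTwo.card_dvd_of_free (H := C) (M := M) fun v hv c hc => by
          by_contra hne
          exact hv (hCfree _ c.2 (fun e => hne (Subtype.ext e)) v hc)
        rw [hM] at h1
        refine Nat.le_of_dvd (by norm_num) ?_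
        refine ((Nat.prime_three.coprime_iff_not_dvd.2 fun h => h3 (h.trans C.card_subgroup_dvd_card)).symm).dvd_of_dvd_mul_left
          (h1.trans ?_)
        norm_num
      have := hHC.trans (Nat.mul_le_mul_right _ hC5)
      norm_num at this ⊢; omega
  · refine hcount 18 (31 * 30 * 32) 5 (by norm_num) (fun g hg => ?_) ?_ (by rw [hM]; norm_num)
    · have := hFsq g hg; nlinarith
    · rw [hM]
      have := hHC.trans (Nat.mul_le_mul_right _ (hCcard.trans (le_of_eq (by norm_num : 2 ^ 5 - 1 = 31))))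
      norm_num at this ⊢; omega

end CfsgLib.CoprimeBase
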