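import Cfsg.Agent.Lib.FgsC.CoprimeBase.Basic

/-!
# Gluing distinguishing colourings along a fibred action
-/

set_option autoImplicit false

universe u v

namespace CfsgLib.CoprimeBase

open MulAction

variable {p : ℕ} [Fact p.Prime]

/-- Gluing along an equivariant surjection. -/
theorem hasColour_fibred {G : Type u} [Group G] [Finite G] (hG : ¬ p ∣ Nat.card G)
    {Ω Ω' : Type v} [MulAction G Ω] [MulAction G Ω'] (π : Ω → Ω')
    (hπ : ∀ (g : G) x, π (g • x) = g • π x) (hsurj : Function.Surjective π) (htop : HasColour p G Ω')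
    (hfib : ∀ i : Ω', ∃ F : Ω → ZMod p, ∀ g : G, g • i = i →
      (∀ x, π x = i → F (g • x) = F x) → ∀ x, π x = i → g • x = x) :
    HasColour p G Ω := by
  classical
  choose F hF using hfib
  obtain ⟨T, hT⟩ := htop
  let rep : Ω' → Ω' := fun i => (Quotient.mk (orbitRel G Ω') i).out
  have hrep : ∀ i, ∃ g : G, g • rep i = i := fun i =>
    MulAction.mem_orbit_iff.1 (orbitRel_apply.1 ((orbitRel G Ω').iseqv.symm
      (Quotient.exact (Quotient.out_eq (Quotient.mk (orbitRel G Ω') i)))))
  have hrepg : ∀ (g : G) i, rep (g • i) = rep i := fun g i =>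
    congrArg Quotient.out (Quotient.sound (s := orbitRel G Ω') ⟨g, rfl⟩)
  choose t ht using hrep
  refine ⟨fun x => F (rep (π x)) ((t (π x))⁻¹ • x) + T (π x), fun g hg x => ?_⟩
  -- the shift on each fibre
  have hfibre : ∀ i, (∀ z, π z = i → g • z = t (g • i) • (t i)⁻¹ • z) ∧ T (g • i) = T i := by
    intro i
    set h := (t (g • i))⁻¹ * g * t i with hh
    have hhi : h • rep i = rep i := by
      rw [hh, mul_smul, mul_smul, ht, inv_smul_eq_iff, ← hrepg g i]
      exact (ht _).symm
    have hmaps : ∀ y ∈ {y | π y = rep i}, h • y ∈ {y | π y = rep i} := fun y hy => by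
      show π (h • y) = rep i
      rw [hπ, hy, hhi]
    have hshift : ∀ y ∈ {y | π y = rep i}, F (rep i) (h • y) = F (rep i) y + (T i - T (g • i)) := by
      intro y hy
      have h1 := hg (t i • y)
      have e1 : π (t i • y) = i := by rw [hπ, show π y = rep i from hy, ht]
      have e2 : π (g • t i • y) = g • i := by rw [hπ, e1]
      simp only [e1, e2, hrepg, inv_smul_smul] at h1
      rw [hh, mul_smul, mul_smul, ← eq_sub_iff_add_eq] at *
      rw [h1]; ring
    have key := shift_colour hG _ (F (rep i)) hmaps hshift fun k hk hkF y hy => by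
      refine hF (rep i) k ?_ hkF y hy
      rw [← show π y = rep i from hy, ← hπ]
      exact (hk y hy).trans (show π y = rep i from hy).symm
    obtain ⟨z, hz⟩ := hsurj (rep i)
    refine ⟨fun z hz => ?_, ?_⟩
    · have h2 : h • (t i)⁻¹ • z = (t i)⁻¹ • z :=
        (key _ (show π ((t i)⁻¹ • z) = rep i by rw [hπ, hz, inv_smul_eq_iff, ht])).1
      rw [hh, mul_smul, mul_smul, smul_inv_smul, inv_smul_eq_iff] at h2
      exact h2
    · exact (sub_eq_zero.1 (key z hz).2).symm
  have h3 := (hfibre (π x)).1 x rfl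
  rwa [hT g (fun i => (hfibre i).2) (π x), smul_inv_smul] at h3

/-- Pulling a colouring back along the action. -/
theorem HasColour.of_hom {G : Type u} [Group G] {P : Type u} [Group P] {Ω : Type v} [MulAction G Ω]
    [MulAction P Ω] (f : G → P) (hf : ∀ (g : G) (x : Ω), f g • x = g • x) (h : HasColour p P Ω) :
    HasColour p G Ω := by
  obtain ⟨c, hc⟩ := h
  exact ⟨c, fun g hg x => (hf g x).symm.trans (hc (f g) (fun y => by rw [hf]; exact hg y) x)⟩

end CfsgLib.CoprimeBase
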