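import Cfsg.Agent.Lib.FgsC.CoprimeBase.Colour
import Cfsg.Agent.Lib.FgsC.CoprimeBase.AffineTwoSmall

/-!
# A soluble group of order prime to `p` has a distinguishing colouring with `p` colours
-/

set_option autoImplicit false

universe u

namespace CfsgLib.CoprimeBase

open MulAction

variable {p : ℕ} [Fact p.Prime]

/-- Colouring an irreducible module so that no affine map but the identity keeps the colours. -/
theorem exists_affine_colour (hp3 : 3 ≤ p) {H : Type u} [Group H] [Finite H] {M : Type u} [AddCommGroup M]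
    [Finite M] [DistribMulAction H M] [FaithfulSMul H M] (hs : Group.IsSolvable H) (hH : ¬ p ∣ Nat.card H)
    {r : ℕ} (hexp : ∀ x : M, r • x = 0) (hr : r.Prime) (hrM : r ∣ Nat.card M) (hrp : r ≠ p)
    (hirr : ∀ U : AddSubgroup M, (∀ (h : H) (v : M), v ∈ U → h • v ∈ U) → U = ⊥ ∨ U = ⊤) :
    ∃ c : M → ZMod p, ∀ (h : H) (m : M), (∀ x, c (h • x + m) = c x) → ∀ x : M, h • x + m = x := by
  classical
  haveI : Fact r.Prime := ⟨hr⟩
  letI : Module (ZMod r) M := AddCommGroup.zmodModule hexp
  obtain ⟨b⟩ : Nonempty (Module.Basis (Fin (Module.finrank (ZMod r) M)) (ZMod r) M) := by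
    haveI : Module.Finite (ZMod r) M := Module.Finite.of_finite
    haveI : Module.Free (ZMod r) M := Module.Free.of_divisionRing (ZMod r) M
    exact ⟨Module.finBasis (ZMod r) M⟩
  have hdim : 0 < Module.finrank (ZMod r) M := by
    have h1 := Nat.card_congr b.equivFun.toEquiv
    rw [Nat.card_fun, Nat.card_zmod, Nat.card_fin] at h1
    rcases Nat.eq_zero_or_pos (Module.finrank (ZMod r) M) with h | h
    · rw [h, pow_zero] at h1
      rw [h1] at hrM
      exact absurd hrM hr.not_dvd_one
    · exact h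
  have hcast : ∀ {k i j : ℕ}, k ≤ p → i < k → j < k → (i : ZMod p) = j → i = j := fun hk hi hj h => by
    have := congrArg ZMod.val h
    rwa [ZMod.val_natCast, ZMod.val_natCast, Nat.mod_eq_of_lt (hi.trans_le hk), Nat.mod_eq_of_lt (hj.trans_le hk)] at this
  have hnat : ∀ k : ℕ, k ≤ p → (∃ c : M → ℕ, (∀ x, c x < k) ∧ ∀ (f : M →+ M),
      Function.Injective f → ∀ m, (∀ x, c (f x + m) = c x) → m = 0 ∧ ∀ x, f x = x) →
      ∃ c : M → ZMod p, ∀ (h : H) (m : M), (∀ x, c (h • x + m) = c x) → ∀ x : M, h • x + m = x := by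
    rintro k hk ⟨c, hc1, hc2⟩
    refine ⟨fun x => (c x : ZMod p), fun h m he => ?_⟩
    obtain ⟨h1, h2⟩ := hc2 (DistribMulAction.toAddMonoidHom M h) (MulAction.injective h) m
      fun x => hcast hk (hc1 _) (hc1 _) (he x)
    intro x
    rw [h1, add_zero]
    exact h2 x
  rcases Nat.lt_or_ge p 5 with hp5 | hp5
  swap
  · exact hnat 5 hp5 (five b)
  have hp : p = 3 := by
    have h4 : p ≠ 4 := fun h => by subst h; exact absurd (Fact.out : (4 : ℕ).Prime) (by norm_num)
    omega
  subst hp
  rcases Nat.lt_or_ge r 5 with hr5 | hr5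
  swap
  · exact hnat 3 le_rfl (three hr5 b hdim)
  have hr2 : r = 2 := by
    have h4 : r ≠ 4 := fun h => by subst h; exact absurd hr (by norm_num)
    have := hr.two_le
    omega
  subst hr2
  have haff : (∃ c : M → ZMod 3, ∀ q : H × M, (∀ x, c (aff q x) = c x) → aff q = 1) →
      ∃ c : M → ZMod 3, ∀ (h : H) (m : M), (∀ x, c (h • x + m) = c x) → ∀ x : M, h • x + m = x := by
    rintro ⟨c, hc⟩
    exact ⟨c, fun h m he x => Equiv.congr_fun (hc (h, m) he) x⟩
  rcases Nat.lt_or_ge (Module.finrank (ZMod 2) M) 6 with hd6 | hd6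
  · exact haff (colour_small b (by omega) hs hH hirr)
  · exact haff (colour_large b hd6 hH)

/-- A maximal point stabiliser. -/
theorem hasColour_maximal {G : Type u} [Group G] [Finite G] (hs : Group.IsSolvable G) (hp3 : 3 ≤ p)
    (hG : ¬ p ∣ Nat.card G) {Ω : Type u} [Finite Ω] [MulAction G Ω] [FaithfulSMul G Ω] [IsPretransitive G Ω] (a : Ω)
    (hmax : IsCoatom (stabilizer G a)) : HasColour p G Ω := by
  classical
  rcases subsingleton_or_nontrivial G with hsub | hnt
  · exact ⟨fun _ => 0, fun g _ x => by rw [Subsingleton.elim g 1, one_smul]⟩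
  obtain ⟨M, hMn, hMne, hMc, hMmin⟩ := CfsgLib.BaseTwo.exists_min_abelian hs
  set H := stabilizer G a with hH
  have hnot : ¬ M ≤ H := fun hle => hMne ((Subgroup.eq_bot_iff_forall M).2 fun m hm =>
    FaithfulSMul.eq_of_smul_eq_smul fun x : Ω => by
      obtain ⟨g, rfl⟩ := exists_smul_eq G a x
      have h1 := mem_stabilizer_iff.1 (hle (hMn.conj_mem m hm g⁻¹))
      rw [inv_inv, mul_smul, mul_smul, inv_smul_eq_iff] at h1
      rw [one_smul, h1])
  have htop : H ⊔ M = ⊤ := hmax.2 _ (lt_of_le_of_ne le_sup_left fun h => hnot (h ▸ le_sup_right))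
  have htr : ∀ x : Ω, ∃ m ∈ M, m • a = x := fun x => by
    obtain ⟨g, rfl⟩ := exists_smul_eq G a x
    have hg : g ∈ M ⊔ H := by rw [sup_comm, htop]; trivial
    obtain ⟨m, hm, h, hh, rfl⟩ := Subgroup.mem_sup_of_normal_left.1 hg
    exact ⟨m, hm, by rw [mul_smul, mem_stabilizer_iff.1 hh]⟩
  have hfree : ∀ m ∈ M, ∀ n ∈ M, m • a = n • a → m = n := fun m hm n hn he =>
    FaithfulSMul.eq_of_smul_eq_smul fun x : Ω => by
      obtain ⟨k, hk, rfl⟩ := htr x
      rw [smul_smul, smul_smul, hMc m hm k hk, hMc n hn k hk, mul_smul, mul_smul, he]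
  letI : CommGroup M := { M.toGroup with mul_comm := fun x y => Subtype.ext (hMc x x.2 y y.2) }
  letI : DistribMulAction H (Additive M) :=
    { smul := fun h m => Additive.ofMul ⟨(h : G) * (m.toMul : G) * (h : G)⁻¹, hMn.conj_mem _ m.toMul.2 h⟩
      one_smul := fun m => Additive.toMul.injective (Subtype.ext (by
        show (1 : G) * (m.toMul : G) * (1 : G)⁻¹ = _
        group))
      mul_smul := fun x y m => Additive.toMul.injective (Subtype.ext (by
        show ((x : G) * y) * (m.toMul : G) * ((x : G) * y)⁻¹ = (x : G) * ((y : G) * (m.toMul : G) * (y : G)⁻¹) * (x : G)⁻¹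
        group))
      smul_zero := fun x => Additive.toMul.injective (Subtype.ext (by
        show (x : G) * (1 : G) * (x : G)⁻¹ = 1
        group))
      smul_add := fun x m n => Additive.toMul.injective (Subtype.ext (by
        show (x : G) * ((m.toMul : G) * (n.toMul : G)) * (x : G)⁻¹ =
          ((x : G) * (m.toMul : G) * (x : G)⁻¹) * ((x : G) * (n.toMul : G) * (x : G)⁻¹)
        group)) }
  have hirr : ∀ U : AddSubgroup (Additive M), (∀ (h : H) (v : Additive M), v ∈ U → h • v ∈ U) → U = ⊥ ∨ U = ⊤ := fun U hU => by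
    let U' : Subgroup G := U.toSubgroup'.map M.subtype
    have hU'M : U' ≤ M := Subgroup.map_subtype_le _
    have hU'n : U'.Normal := by
      rw [← Subgroup.normalizer_eq_top_iff, eq_top_iff, ← htop]
      refine sup_le (fun h hh => ?_) (fun m hm => ?_)
      all_goals rw [Subgroup.mem_normalizer_iff]; intro x; constructor
      · rintro ⟨y, hy, rfl⟩
        exact ⟨_, hU ⟨h, hh⟩ _ hy, rfl⟩
      · rintro ⟨y, hy, he⟩
        refine ⟨_, hU ⟨h, hh⟩⁻¹ _ hy, ?_⟩
        show h⁻¹ * (y : G) * h⁻¹⁻¹ = x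
        rw [show (y : G) = h * x * h⁻¹ from he]
        group
      · intro hx
        rwa [hMc m hm x (hU'M hx), mul_inv_cancel_right]
      · intro hx
        have h2 := hMc m⁻¹ (M.inv_mem hm) (m * x * m⁻¹) (hU'M hx)
        have h1 : x = m * x * m⁻¹ := by
          calc x = m⁻¹ * (m * x * m⁻¹) * m := by group
            _ = m * x * m⁻¹ := by rw [h2, inv_mul_cancel_right]
        rwa [h1]
    rcases hMmin U' hU'n hU'M with h | h
    · left
      rw [AddSubgroup.eq_bot_iff_forall]
      intro x hx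
      have : (x.toMul : G) ∈ U' := ⟨x.toMul, hx, rfl⟩
      rw [h] at this
      exact Additive.toMul.injective (Subtype.ext this)
    · right
      rw [AddSubgroup.eq_top_iff']
      intro x
      obtain ⟨y, hy, he⟩ : (x.toMul : G) ∈ U' := h.symm ▸ x.toMul.2
      have : y = x.toMul := Subtype.ext he
      subst this
      exact hy
  have hfaith : FaithfulSMul H (Additive M) := ⟨fun {x y} he => Subtype.ext (FaithfulSMul.eq_of_smul_eq_smul fun z : Ω => by
    obtain ⟨m, hm, rfl⟩ := htr z
    have hc : ∀ g : H, (g : G) • m • a = ((g : G) * m * (g : G)⁻¹) • a := fun g => by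
      rw [mul_smul, mul_smul, inv_smul_eq_iff.2 g.2.symm]
    rw [hc, hc]
    exact congrArg (fun k : Additive M => (k.toMul : G) • a) (he (Additive.ofMul ⟨m, hm⟩)))⟩
  haveI := hfaith
  obtain ⟨r, hr, hrM⟩ := Nat.exists_prime_and_dvd (show Nat.card M ≠ 1 from fun h => hMne (Subgroup.card_eq_one.1 h))
  haveI : Fact r.Prime := ⟨hr⟩
  -- `M` has exponent `r`
  have hexp : ∀ x : Additive M, r • x = 0 := by
    let U : AddSubgroup (Additive M) :=
      { carrier := {x | r • x = 0}
        zero_mem' := smul_zero _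
        add_mem' := fun {x y} hx hy => by show r • (x + y) = 0; rw [smul_add, hx, hy, add_zero]
        neg_mem' := fun {x} hx => by show r • -x = 0; rw [smul_neg, hx, neg_zero] }
    rcases hirr U (fun h x hx => by show r • h • x = 0; rw [← smul_comm h r x, show r • x = 0 from hx, smul_zero]) with h | h
    · exfalso
      obtain ⟨x, hx⟩ := exists_prime_addOrderOf_dvd_card' (G := Additive M) r (by rwa [Nat.card_congr Additive.toMul])
      have hxU : x ∈ U := by show r • x = 0; rw [← hx]; exact addOrderOf_nsmul_eq_zero x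
      rw [h, AddSubgroup.mem_bot] at hxU
      rw [hxU, addOrderOf_zero] at hx
      exact hr.one_lt.ne hx
    · intro x
      exact (h.symm ▸ AddSubgroup.mem_top x : x ∈ U)
  obtain ⟨c, hc⟩ := exists_affine_colour hp3 (H := H) (M := Additive M) inferInstance
    (fun h => hG (h.trans (Subgroup.card_subgroup_dvd_card H))) hexp hr (by rwa [Nat.card_congr Additive.toMul])
    (fun h => hG (h ▸ hrM.trans (Subgroup.card_subgroup_dvd_card M))) hirr
  choose co hcoM hco using htr
  refine ⟨fun x => c (Additive.ofMul ⟨co x, hcoM x⟩), fun g hg => ?_⟩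
  set t : M := ⟨co (g • a), hcoM _⟩ with ht
  have hh : (t : G)⁻¹ * g ∈ H := by
    rw [hH, mem_stabilizer_iff, mul_smul, inv_smul_eq_iff]
    exact (hco (g • a)).symm
  have hmap : ∀ x : Ω, (Additive.ofMul (⟨co (g • x), hcoM _⟩ : M)) =
      (⟨_, hh⟩ : H) • Additive.ofMul (⟨co x, hcoM x⟩ : M) + Additive.ofMul t := fun x => by
    refine congrArg Additive.ofMul (Subtype.ext (hfree _ (hcoM _) _ (M.mul_mem (hMn.conj_mem _ (hcoM x) _) t.2) ?_))
    show co (g • x) • a = (((t : G)⁻¹ * g) * co x * ((t : G)⁻¹ * g)⁻¹ * (t : G)) • a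
    rw [hco, hMc _ (hMn.conj_mem _ (hcoM x) _) _ t.2, mul_smul, mul_smul, mul_smul,
      inv_smul_eq_iff.2 (mem_stabilizer_iff.1 hh).symm, hco x, smul_smul, mul_inv_cancel_left]
  have hbij : ∀ y : Additive M, ∃ x : Ω, Additive.ofMul (⟨co x, hcoM x⟩ : M) = y := fun y =>
    ⟨(y.toMul : G) • a, congrArg Additive.ofMul (Subtype.ext (hfree _ (hcoM _) _ y.toMul.2 (hco _)))⟩
  have hall := hc ⟨_, hh⟩ (Additive.ofMul t) fun y => by
    obtain ⟨x, rfl⟩ := hbij y
    rw [← hmap]
    exact hg x
  intro x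
  have h2 := (hmap x).trans (hall _)
  have h3 : co (g • x) = co x := congrArg Subtype.val (congrArg Additive.toMul h2)
  rw [← hco (g • x), h3, hco x]

/-- A distinguishing colouring with `p` colours exists. -/
theorem colour_upTo (hp3 : 3 ≤ p) (N : ℕ) : ∀ (G : Type u) [Group G] [Finite G], Group.IsSolvable G → ¬ p ∣ Nat.card G →
    ∀ (Ω : Type u) [Finite Ω] [MulAction G Ω], Nat.card Ω ≤ N → HasColour p G Ω := by
  classical
  induction N using Nat.strong_induction_on with
  | _ N ih =>
  intro G _ _ hs hG Ω _ _ hΩ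
  rcases isEmpty_or_nonempty Ω with hE | ⟨⟨a⟩⟩
  · exact ⟨fun _ => 0, fun g _ x => isEmptyElim x⟩
  have hrec : ∀ (H : Subgroup G) (Θ : Type u) [Finite Θ] [MulAction H Θ], Nat.card Θ < N → HasColour p H Θ :=
    fun H Θ _ _ hlt => ih _ hlt H inferInstance (fun h => hG (h.trans (Subgroup.card_subgroup_dvd_card H))) Θ le_rfl
  -- a fibred action
  have hfibred : ∀ (Ω' : Type u) [Finite Ω'] [MulAction G Ω'] (π : Ω → Ω'),
      (∀ (g : G) x, π (g • x) = g • π x) → Function.Surjective π → Nat.card Ω' < Nat.card Ω →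
      (∀ i, Nat.card {x // π x = i} < Nat.card Ω) → HasColour p G Ω := by
    intro Ω' _ _ π hπ hsurj hlt hlt'
    refine hasColour_fibred hG π hπ hsurj (ih _ (hlt.trans_le hΩ) G hs hG Ω' le_rfl) fun i => ?_
    letI : MulAction (stabilizer G i) {x // π x = i} :=
      { smul := fun g x => ⟨(g : G) • x.1, by rw [hπ, x.2]; exact g.2⟩
        one_smul := fun x => Subtype.ext (one_smul G x.1)
        mul_smul := fun g h x => Subtype.ext (mul_smul (g : G) (h : G) x.1) }
    obtain ⟨F, hF⟩ := hrec (stabilizer G i) {x // π x = i} ((hlt' i).trans_le hΩ)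
    refine ⟨fun x => if h : π x = i then F ⟨x, h⟩ else 0, fun g hgi hgF x hx =>
      congrArg Subtype.val (hF ⟨g, hgi⟩ (fun y => ?_) ⟨x, hx⟩)⟩
    have h1 := hgF y.1 y.2
    simp only [] at h1
    rw [dif_pos (show π (g • y.1) = i by rw [hπ, y.2]; exact hgi), dif_pos y.2] at h1
    exact h1
  by_cases hfix : ∀ (g : G) (x : Ω), g • x = x
  · exact ⟨fun _ => 0, fun g _ x => hfix g x⟩
  push Not at hfix
  obtain ⟨g₁, a, hga⟩ := hfix
  by_cases htr : IsPretransitive G Ω
  swap
  · -- several orbits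
    letI : MulAction G (ULift.{u} Bool) :=
      { smul := fun _ b => b, one_smul := fun _ => rfl, mul_smul := fun _ _ _ => rfl }
    obtain ⟨b, hb⟩ : ∃ b : Ω, b ∉ orbit G a := by
      by_contra hall
      push Not at hall
      exact htr ⟨fun x y => by
        obtain ⟨g, rfl⟩ := hall x
        obtain ⟨k, rfl⟩ := hall y
        exact ⟨k * g⁻¹, by show (k * g⁻¹) • g • a = k • a; rw [smul_smul, inv_mul_cancel_right]⟩⟩
    have hiff : ∀ (g : G) x, g • x ∈ orbit G a ↔ x ∈ orbit G a := fun g x => by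
      rw [← orbit_eq_iff, orbit_smul, orbit_eq_iff]
    refine hfibred (ULift.{u} Bool) (fun x => ⟨decide (x ∈ orbit G a)⟩)
      (fun g x => congrArg ULift.up (decide_eq_decide.2 (hiff g x))) (fun i => ?_) ?_ fun i => ?_
    · obtain ⟨_ | _⟩ := i
      · exact ⟨b, by simp [hb]⟩
      · exact ⟨a, by simp⟩
    · haveI := Fintype.ofFinite Ω
      rw [Nat.card_eq_fintype_card, Nat.card_eq_fintype_card, Fintype.card_ulift, Fintype.card_bool]
      exact Fintype.two_lt_card_iff.2 ⟨a, g₁ • a, b, Ne.symm hga, fun h => hb (h ▸ mem_orbit_self a),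
        fun h => hb (h ▸ mem_orbit a g₁)⟩
    · haveI := Fintype.ofFinite Ω
      rw [Nat.card_eq_fintype_card, Nat.card_eq_fintype_card]
      obtain ⟨_ | _⟩ := i
      · exact Fintype.card_subtype_lt (x := a) (by simp)
      · exact Fintype.card_subtype_lt (x := b) (by simp [hb])
  by_cases hmax : IsCoatom (stabilizer G a)
  · -- a maximal stabiliser: pass to the permutation group
    let P := (MulAction.toPermHom G Ω).range
    have hPp : ¬ p ∣ Nat.card P := fun h => hG (h.trans (Subgroup.card_range_dvd _))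
    letI : MulAction P Ω := MulAction.compHom Ω P.subtype
    haveI : FaithfulSMul P Ω := ⟨fun {x y} h => Subtype.ext (Equiv.ext h)⟩
    haveI : IsPretransitive P Ω := ⟨fun x y => by
      obtain ⟨g, hg⟩ := exists_smul_eq G x y
      exact ⟨⟨_, g, rfl⟩, hg⟩⟩
    let f : G →* P := (MulAction.toPermHom G Ω).rangeRestrict
    have hf : Function.Surjective f := MonoidHom.rangeRestrict_surjective _
    have hst : (stabilizer P a).comap f = stabilizer G a := by
      ext g; rfl
    have hmax' : IsCoatom (stabilizer P a) := by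
      refine ⟨fun h => hmax.1 (by rw [← hst, h, Subgroup.comap_top]), fun K hK => ?_⟩
      have h1 := hmax.2 (K.comap f) (hst ▸ (Subgroup.comap_lt_comap_of_surjective hf).2 hK)
      refine Subgroup.comap_injective hf ?_
      rw [h1, Subgroup.comap_top]
    haveI : Group.IsSolvable G := hs
    exact (hasColour_maximal (Group.isSolvable_of_surjective hf) hp3 hPp a hmax').of_hom f fun _ _ => rfl
  -- blocks
  have hne : stabilizer G a ≠ ⊤ := fun h => hga (h ▸ Subgroup.mem_top g₁ : g₁ ∈ stabilizer G a)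
  obtain ⟨K, hK, hK'⟩ : ∃ K, stabilizer G a < K ∧ K ≠ ⊤ := by
    by_contra hall
    push Not at hall
    exact hmax ⟨hne, hall⟩
  choose co hco using fun x : Ω => exists_smul_eq G a x
  have hπ : ∀ (g : G) x, ((co (g • x) : G) : G ⧸ K) = g • ((co x : G) : G ⧸ K) := fun g x => by
    show _ = ((g * co x : G) : G ⧸ K)
    refine QuotientGroup.eq.2 (hK.le ?_)
    rw [mem_stabilizer_iff, mul_smul, mul_smul, hco, inv_smul_eq_iff, hco]
  have hk : ∀ k : G, ((co (k • a) : G) : G ⧸ K) = (k : G ⧸ K) := fun k => QuotientGroup.eq.2 (hK.le (by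
    rw [mem_stabilizer_iff, mul_smul, inv_smul_eq_iff, hco]))
  have hcardΩ : (stabilizer G a).index = Nat.card Ω := index_stabilizer_of_transitive G a
  refine hfibred (G ⧸ K) (fun x => (co x : G ⧸ K)) hπ (fun i => ?_) ?_ fun i => ?_
  · induction i using QuotientGroup.induction_on with
    | H k =>
      exact ⟨k • a, hk k⟩
  · rw [← Subgroup.index_eq_card, ← hcardΩ]
    exact Subgroup.index_strictAnti hK
  · haveI := Fintype.ofFinite Ω
    rw [Nat.card_eq_fintype_card, Nat.card_eq_fintype_card]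
    obtain ⟨j, hj⟩ : ∃ j : G ⧸ K, j ≠ i := by
      by_contra hall
      push Not at hall
      haveI : Subsingleton (G ⧸ K) := ⟨fun x y => (hall x).trans (hall y).symm⟩
      exact hK' (Subgroup.index_eq_one.1 (Nat.card_of_subsingleton i))
    induction j using QuotientGroup.induction_on with
    | H k =>
      exact Fintype.card_subtype_lt (x := k • a) (hk k ▸ hj)

/-- A soluble group of order prime to an odd prime `p` has a distinguishing `p`-colouring. -/
theorem exists_colour (hp3 : 3 ≤ p) {G : Type u} [Group G] [Finite G] (hs : Group.IsSolvable G)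
    (hG : ¬ p ∣ Nat.card G) (Ω : Type u) [Finite Ω] [MulAction G Ω] : HasColour p G Ω :=
  colour_upTo hp3 _ G hs hG Ω le_rfl

end CfsgLib.CoprimeBase
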