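import Mathlib
import Cfsg.Agent.Lib.FgsC.BaseTwo.Basic

/-!
# The coprime regular pair statement, as an interface for its consequences
-/

set_option autoImplicit false

universe u v

namespace CfsgLib.CoprimeBase

/-- A soluble group of order prime to `p` has a regular pair on every finite module of exponent `p`. -/
def PairProperty : Prop :=
  ∀ (A : Type u) [Group A] [Finite A], Group.IsSolvable A → ∀ (p : ℕ), p.Prime → ¬ p ∣ Nat.card A →
    ∀ (V : Type v) [AddCommGroup V] [Finite V] [DistribMulAction A V],
      (∀ x : V, p • x = 0) → CfsgLib.BaseTwo.HasPair A V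

end CfsgLib.CoprimeBase
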