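import Mathlib
import Cfsg.Agent.Lib.FgsC.BaseTwo.Main
import Cfsg.Agent.Lib.FgsC.CoprimeBase.Core
import Cfsg.Agent.Lib.FgsC.CoprimeBase.Irreducible

/-!
# Soluble groups have base two on coprime modules, modulo three base cases
-/

set_option autoImplicit false

universe u v

namespace CfsgLib.CoprimeBase

open CfsgLib.BaseTwo

/-- Averaging: modules of exponent `p` for groups of order prime to `p` are semisimple. -/
theorem semisimple_of_exponent {A : Type u} [Group A] [Finite A] {V : Type v} [AddCommGroup V] [DistribMulAction A V]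
    {p : ℕ} [Fact p.Prime] (hA : ¬ p ∣ Nat.card A) (hexp : ∀ x : V, p • x = 0) : Semisimple A V := by
  classical
  haveI := Fintype.ofFinite A
  letI : Module (ZMod p) V := AddCommGroup.zmodModule hexp
  intro U hU
  obtain ⟨C, hC⟩ := (AddSubgroup.toZModSubmodule p U).exists_isCompl
  obtain ⟨P, hPU, hPid⟩ : ∃ P : V →+ V, (∀ v, P v ∈ U) ∧ ∀ u ∈ U, P u = u := by
    let Q : V →ₗ[ZMod p] (AddSubgroup.toZModSubmodule p U) := (AddSubgroup.toZModSubmodule p U).projectionOnto C hC
    refine ⟨((AddSubgroup.toZModSubmodule p U).subtype ∘ₗ Q).toAddMonoidHom, fun v => ?_, fun u hu => ?_⟩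
    · exact (DFunLike.coe Q v).2
    · exact congrArg Subtype.val (Submodule.projectionOnto_apply_left hC ⟨u, hu⟩)
  obtain ⟨m, hm⟩ : ∃ m : ℕ, m * Nat.card A ≡ 1 [MOD p] := by
    refine ⟨((Nat.card A : ZMod p)⁻¹).val, ?_⟩
    rw [← ZMod.natCast_eq_natCast_iff, Nat.cast_mul, ZMod.natCast_zmod_val, Nat.cast_one,
      inv_mul_cancel₀ (fun h => hA ((ZMod.natCast_eq_zero_iff _ p).1 h))]
  let e : V →+ V := m • ∑ a : A, (DistribMulAction.toAddMonoidHom V a).comp
    (P.comp (DistribMulAction.toAddMonoidHom V a⁻¹))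
  have he : ∀ v, e v = m • ∑ a : A, a • P (a⁻¹ • v) := fun v => by
    simp [e, AddMonoidHom.finsetSum_apply]
  have heU : ∀ v, e v ∈ U := fun v => by
    rw [he]; exact U.nsmul_mem (U.sum_mem fun a _ => hU a _ (hPU _)) m
  have heid : ∀ u ∈ U, e u = u := fun u hu => by
    rw [he, Finset.sum_congr rfl fun a _ => show a • P (a⁻¹ • u) = u by rw [hPid _ (hU _ _ hu), smul_inv_smul],
      Finset.sum_const, Finset.card_univ, ← Nat.card_eq_fintype_card, smul_smul,
      nsmul_eq_nsmul_iff_modEq.2 (hm.of_dvd (addOrderOf_dvd_of_nsmul_eq_zero (hexp u))), one_smul]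
  have hequiv : ∀ (b : A) v, e (b • v) = b • e v := fun b v => by
    rw [he, he, smul_comm b m, Finset.smul_sum (r := b)]
    congr 1
    refine (Equiv.sum_comp (Equiv.mulLeft b) (fun a => a • P (a⁻¹ • b • v))).symm.trans ?_
    refine Finset.sum_congr rfl fun a _ => ?_
    show (b * a) • P ((b * a)⁻¹ • b • v) = b • a • P (a⁻¹ • v)
    rw [mul_inv_rev, mul_smul, mul_smul, inv_smul_smul]
  refine ⟨e.ker, fun a w (hw : e w = 0) => show e (a • w) = 0 by rw [hequiv, hw, smul_zero], ?_, ?_⟩
  · rw [AddSubgroup.eq_bot_iff_forall]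
    intro x hx
    obtain ⟨hxU, (hxk : e x = 0)⟩ := AddSubgroup.mem_inf.1 hx
    rw [← heid x hxU, hxk]
  · rw [AddSubgroup.eq_top_iff']
    intro x
    refine AddSubgroup.mem_sup.2 ⟨e x, heU x, x - e x, ?_, add_sub_cancel _ _⟩
    show e (x - e x) = 0
    rw [map_sub, heid _ (heU x), sub_self]

/-- The statement for odd primes, by induction on the order of the module. -/
theorem pairBelow {p : ℕ} [Fact p.Prime] (hb3 : FourBase.{u, u} 3) (hb5 : FourBase.{u, u} 5)
    (hb8 : EightBase.{u, u}) (hp3 : 3 ≤ p) (N : ℕ) : PairBelow.{u} p N := by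
  classical
  induction N using Nat.strong_induction_on with
  | _ N ih =>
  intro A _ _ hs hA V _ _ _ hexp hV
  rcases subsingleton_or_nontrivial V with hsub | hnt
  · exact ⟨0, 0, fun a _ _ x => Subsingleton.elim _ _⟩
  let φ : A →* (AddMonoid.End V)ˣ := (rho : A →* AddMonoid.End V).toHomUnits
  haveI : Finite (AddMonoid.End V) :=
    Finite.of_injective (fun g : AddMonoid.End V => (g : V → V)) DFunLike.coe_injective
  refine hasPair_of_range φ.range φ.rangeRestrict (fun _ _ => rfl) ?_
  have hG : ¬ p ∣ Nat.card φ.range := fun h => hA (h.trans (Subgroup.card_range_dvd φ))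
  haveI := hs
  have hGs : Group.IsSolvable φ.range := Group.isSolvable_of_surjective φ.rangeRestrict_surjective
  haveI : FaithfulSMul φ.range V := ⟨fun {x y} h => Subtype.ext (Units.ext (DFunLike.ext _ _ h))⟩
  have hbelow : PairBelow.{u} p (Nat.card V) := ih _ hV
  by_cases hirr : Irred φ.range V
  · exact hasPair_irred hb3 hb5 hb8 hGs hG hp3 hexp hbelow hirr
  · exact hasPair_reducible (semisimple_of_exponent hG hexp) hGs hG hexp hbelow hp3 hirr

/-- The pair property, given the base cases. -/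
theorem pairProperty_of_bases (hb3 : FourBase.{v, v} 3) (hb5 : FourBase.{v, v} 5) (hb8 : EightBase.{v, v}) :
    PairProperty.{u, v} := by
  intro A _ _ hs p hp hA V _ _ _ hexp
  haveI : Fact p.Prime := ⟨hp⟩
  rcases eq_or_ne p 2 with rfl | hp2
  · refine exists_pair ?_ (semisimple_of_exponent hA hexp)
    rwa [← Nat.not_even_iff_odd, even_iff_two_dvd]
  let φ : A →* (AddMonoid.End V)ˣ := (DistribMulAction.toAddMonoidEnd A V).toHomUnits
  haveI : Finite (AddMonoid.End V) :=
    Finite.of_injective (fun g : AddMonoid.End V => (g : V → V)) DFunLike.coe_injective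
  refine hasPair_of_range φ.range φ.rangeRestrict (fun _ _ => rfl) ?_
  haveI := hs
  exact pairBelow hb3 hb5 hb8 (by have := hp.two_le; omega) (Nat.card V + 1) φ.range
    (Group.isSolvable_of_surjective φ.rangeRestrict_surjective) (fun h => hA (h.trans (Subgroup.card_range_dvd φ))) V hexp
    (Nat.lt_succ_self _)

end CfsgLib.CoprimeBase
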