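import Mathlib
import Cfsg.Agent.Lib.FgsC.CoprimeBase.Main
import Cfsg.Agent.Lib.FgsC.CoprimeBase.Bases.Main

/-!
# The pair property for soluble groups of order prime to the characteristic

The towers of the induction give generators in standard position for the three base cases.
-/

set_option autoImplicit false

universe u v

namespace CfsgLib.CoprimeBase

namespace Split

variable {K : Type u} [Field K] {V : Type v} [AddCommGroup V] [Module K V] {N : Subgroup (V ≃ₗ[K] V)}
  {w t : V ≃ₗ[K] V} {r : ℕ} {ζ τ : K} (hs : Split N r w t ζ τ)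
include hs

/-- Squares of lifts. -/
theorem lift_sq {y : eig w ≃ₗ[K] eig w} {x : V ≃ₗ[K] V} (hxt : x * t = t * x) (hx : ∀ v : eig w, (y v : V) = x v)
    {a : K} (ha : a ≠ 0) (h : ∀ v, y (y v) = a • v) (v : V) : x (x v) = a • v := by
  have e : x * x = sc (Units.mk0 a ha) := by
    refine hs.eq_of_agree ((show Commute x t from hxt).mul_left hxt) ((isScalar_sc _).comm t) fun b hb => ?_
    have h1 := congrArg Subtype.val (h ⟨b, hb⟩)
    rw [hx, hx] at h1
    exact h1
  exact LinearEquiv.congr_fun e v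

/-- Twists of lifts. -/
theorem lift_twist {y y' : eig w ≃ₗ[K] eig w} {x x' : V ≃ₗ[K] V} (hxt : x * t = t * x) (hxt' : x' * t = t * x')
    (hx : ∀ v : eig w, (y v : V) = x v) (hx' : ∀ v : eig w, (y' v : V) = x' v) {a : K} (ha : a ≠ 0)
    (h : Twist y y' a) : Twist x x' a := fun v => by
  have e : x * x' = sc (Units.mk0 a ha) * (x' * x) := by
    refine hs.eq_of_agree ((show Commute x t from hxt).mul_left hxt')
      ((show Commute (sc (Units.mk0 a ha)) t from (isScalar_sc _).comm t).mul_left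
        ((show Commute x' t from hxt').mul_left hxt)) fun b hb => ?_
    have h1 := congrArg Subtype.val (h ⟨b, hb⟩)
    simp only [hx, hx', Submodule.coe_smul] at h1
    simp only [LinearEquiv.mul_apply, sc_apply, Units.val_mk0]
    exact h1
  exact LinearEquiv.congr_fun e v

/-- The generators anticommute. -/
theorem anti_apply (hζ : ζ = -1) (v : V) : w (t v) = -t (w v) := by
  rw [hs.twist, hζ, neg_one_smul]

omit hs in
theorem apply_sq (hs : Split N 2 w t ζ τ) (v : V) : w (w v) = v ∧ t (t v) = τ • v :=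
  ⟨by rw [← LinearEquiv.mul_apply, ← pow_two, hs.wr]; rfl, by rw [← hs.tr, pow_two, LinearEquiv.mul_apply]⟩

end Split

theorem eq_of_cast_eq_zero {K : Type u} [Field K] [Finite K] {p q : ℕ} (hp : p.Prime) (hq : q.Prime)
    (hK : Nat.card K = q) (h : (p : K) = 0) : p = q := by
  haveI := charP_of_natCard hK hq
  exact ((Nat.prime_dvd_prime_iff_eq hq hp).1 ((CharP.cast_eq_zero_iff K q p).1 h)).symm

section Four

variable {K : Type u} [Field K] [Finite K] {V : Type v} [AddCommGroup V] [Module K V] [Finite V] [Nontrivial V]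

/-- Generators in standard position from a tower of two split pairs. -/
theorem frame_four {N : Subgroup (V ≃ₗ[K] V)} (hN : Ext N) (hd : Module.finrank K V = 4) {w t : V ≃ₗ[K] V}
    {w0 t0 : eig w ≃ₗ[K] eig w} (hs : Split N 2 w t (-1) 1) (h0 : Split (N0 N w t) 2 w0 t0 (-1) 1) :
    ∃ e : Fin 4 → V ≃ₗ[K] V, (∀ i, e i ∈ N) ∧ (∀ i, ∀ v, e i (e i v) = v) ∧
      (∀ i j : Fin 4, i ≠ j → (i : ℕ) / 2 = (j : ℕ) / 2 → ∀ v, e i (e j v) = -e j (e i v)) ∧
      (∀ i j : Fin 4, (i : ℕ) / 2 ≠ (j : ℕ) / 2 → e i * e j = e j * e i) ∧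
      (∀ x ∈ N, (∀ i, x * e i = e i * x) → IsScalar x) := by
  haveI := hs.eig_nontrivial
  obtain ⟨W, hW, hWw, hWt, hWe⟩ := h0.hw
  obtain ⟨T, hT, hTw, hTt, hTe⟩ := h0.ht
  have hW2 : ∀ v, W (W v) = v := fun v => by
    have := hs.lift_sq hWt hWe one_ne_zero (fun a => by rw [(h0.apply_sq a).1, one_smul]) v
    rwa [one_smul] at this
  have hT2 : ∀ v, T (T v) = v := fun v => by
    have := hs.lift_sq hTt hTe one_ne_zero (fun a => (h0.apply_sq a).2) v
    rwa [one_smul] at this
  have hWT : ∀ v, W (T v) = -T (W v) := fun v => by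
    rw [hs.lift_twist hWt hTt hWe hTe (by simp) h0.twist, neg_one_smul]
  have hTW : ∀ v, T (W v) = -W (T v) := fun v => by rw [hWT, neg_neg]
  have hwt : ∀ v, w (t v) = -t (w v) := hs.anti_apply rfl
  have htw : ∀ v, t (w v) = -w (t v) := fun v => by rw [hwt, neg_neg]
  have hw2 : ∀ v, w (w v) = v := fun v => (hs.apply_sq v).1
  have ht2 : ∀ v, t (t v) = v := fun v => by rw [(hs.apply_sq v).2, one_smul]
  refine ⟨![w, t, W, T], fun i => ?_, fun i v => ?_, fun i j hij h v => ?_, fun i j h => ?_, fun x hx hc => ?_⟩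
  · fin_cases i <;> simp [hs.hw, hs.ht, hW, hT]
  · fin_cases i <;> simp [hw2, ht2, hW2, hT2]
  · fin_cases i <;> fin_cases j <;> simp at hij h ⊢ <;> first | exact hwt v | exact htw v | exact hWT v | exact hTW v
  · fin_cases i <;> fin_cases j <;> simp at h ⊢ <;>
      first | exact hWw | exact hWw.symm | exact hWt | exact hWt.symm | exact hTw | exact hTw.symm | exact hTt | exact hTt.symm
  · have h1 : x * w = w * x := hc 0
    have h2 : x * t = t * x := hc 1
    obtain ⟨y, hy, hye⟩ := hs.mem_N0_of_comm hN hx h1 h2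
    refine hs.isScalar_lift hN h2 hye ?_
    have hcomm : ∀ {z : eig w ≃ₗ[K] eig w} {Z : V ≃ₗ[K] V}, (∀ v : eig w, (z v : V) = Z v) → x * Z = Z * x →
        y * z = z * y := fun {z Z} hz hZ => LinearEquiv.ext fun v => Subtype.ext (by
      rw [LinearEquiv.mul_apply, LinearEquiv.mul_apply, hye, hz, hz, hye]
      exact LinearEquiv.congr_fun hZ v)
    have hyw := hcomm hWe (hc 2)
    have hyt := hcomm hTe (hc 3)
    have hd00 : Module.finrank K (eig w0) = 1 := by
      have := hs.dim_eq; have := h0.dim_eq; omega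
    haveI := h0.eig_nontrivial
    obtain ⟨u, hu⟩ := exists_ne (0 : eig w0)
    obtain ⟨a, ha⟩ := (finrank_eq_one_iff_of_nonzero' u hu).1 hd00 ⟨y u, h0.z_mem_eig hyw u.2⟩
    refine h0.isScalar_of_eig hyt (a := a) fun v hv => ?_
    obtain ⟨b, hb⟩ := (finrank_eq_one_iff_of_nonzero' u hu).1 hd00 ⟨v, hv⟩
    have e1 : v = b • (u : eig w) := (congrArg Subtype.val hb).symm
    have e2 : y (u : eig w) = a • (u : eig w) := (congrArg Subtype.val ha).symm
    rw [e1, map_smul, e2, smul_comm]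

/-- Generators in standard position from a tower with an anisotropic top. -/
theorem frame_eight {N : Subgroup (V ≃ₗ[K] V)} (hN : Ext N) (h2 : (2 : K) ≠ 0) {w t : V ≃ₗ[K] V}
    {w0 t0 : eig w ≃ₗ[K] eig w} {n s : eig w0 ≃ₗ[K] eig w0} (hs : Split N 2 w t (-1) 1)
    (h0 : Split (N0 N w t) 2 w0 t0 (-1) 1) (ha : Aniso (N0 (N0 N w t) w0 t0) n s) :
    ∃ e : Fin 6 → V ≃ₗ[K] V, (∀ i, e i ∈ N) ∧ (∀ i : Fin 6, (i : ℕ) < 4 → ∀ v, e i (e i v) = v) ∧
      (∀ i : Fin 6, 4 ≤ (i : ℕ) → ∀ v, e i (e i v) = -v) ∧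
      (∀ i j : Fin 6, i ≠ j → (i : ℕ) / 2 = (j : ℕ) / 2 → ∀ v, e i (e j v) = -e j (e i v)) ∧
      (∀ i j : Fin 6, (i : ℕ) / 2 ≠ (j : ℕ) / 2 → e i * e j = e j * e i) ∧
      (∀ x ∈ N, (∀ i, x * e i = e i * x) → IsScalar x) := by
  haveI := hs.eig_nontrivial
  haveI := h0.eig_nontrivial
  have hN0 := hs.ext0 hN
  obtain ⟨W, hW, hWw, hWt, hWe⟩ := h0.hw
  obtain ⟨T, hT, hTw, hTt, hTe⟩ := h0.ht
  obtain ⟨n', hn'm, hnw, hnt, hne⟩ := ha.hn
  obtain ⟨s', hs'm, hsw, hst, hse⟩ := ha.ht
  obtain ⟨P, hP, hPw, hPt, hPe⟩ := hn'm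
  obtain ⟨R, hR, hRw, hRt, hRe⟩ := hs'm
  have hm1 : (-1 : K) ≠ 0 := by simp
  have hsq : ∀ {y : eig w ≃ₗ[K] eig w} {x : V ≃ₗ[K] V}, x * t = t * x → (∀ v : eig w, (y v : V) = x v) →
      (∀ v, y (y v) = (1 : K) • v) → ∀ v, x (x v) = v := fun hxt hx h v => by
    have := hs.lift_sq hxt hx one_ne_zero h v
    rwa [one_smul] at this
  have hneg : ∀ {y : eig w ≃ₗ[K] eig w} {x : V ≃ₗ[K] V}, x * t = t * x → (∀ v : eig w, (y v : V) = x v) →
      (∀ v, y (y v) = (-1 : K) • v) → ∀ v, x (x v) = -v := fun hxt hx h v => by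
    have := hs.lift_sq hxt hx hm1 h v
    rwa [neg_one_smul] at this
  have hcm : ∀ {y y' : eig w ≃ₗ[K] eig w} {x x' : V ≃ₗ[K] V}, x * t = t * x → x' * t = t * x' →
      (∀ v : eig w, (y v : V) = x v) → (∀ v : eig w, (y' v : V) = x' v) → y * y' = y' * y → x * x' = x' * x :=
    fun a b c d h => twist_one_iff.1 (hs.lift_twist a b c d one_ne_zero (twist_one_iff.2 h))
  have hW2 := hsq hWt hWe fun a => by rw [(h0.apply_sq a).1, one_smul]
  have hT2 := hsq hTt hTe fun a => (h0.apply_sq a).2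
  have hP2 := hneg hPt hPe (h0.lift_sq hnt hne hm1 fun a => (ha.n2 a).trans (neg_one_smul K a).symm)
  have hR2 := hneg hRt hRe (h0.lift_sq hst hse hm1 fun a => (ha.t2 a).trans (neg_one_smul K a).symm)
  have hWT : ∀ v, W (T v) = -T (W v) := fun v => by
    rw [hs.lift_twist hWt hTt hWe hTe hm1 h0.twist, neg_one_smul]
  have hPR : ∀ v, P (R v) = -R (P v) := fun v => by
    rw [hs.lift_twist hPt hRt hPe hRe hm1 (h0.lift_twist hnt hst hne hse hm1 ha.anti), neg_one_smul]
  have hTW : ∀ v, T (W v) = -W (T v) := fun v => by rw [hWT, neg_neg]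
  have hRP : ∀ v, R (P v) = -P (R v) := fun v => by rw [hPR, neg_neg]
  have hwt : ∀ v, w (t v) = -t (w v) := hs.anti_apply rfl
  have htw : ∀ v, t (w v) = -w (t v) := fun v => by rw [hwt, neg_neg]
  have hPW := hcm hPt hWt hPe hWe hnw
  have hPT := hcm hPt hTt hPe hTe hnt
  have hRW := hcm hRt hWt hRe hWe hsw
  have hRT := hcm hRt hTt hRe hTe hst
  have hw2 : ∀ v, w (w v) = v := fun v => (hs.apply_sq v).1
  have ht2 : ∀ v, t (t v) = v := fun v => by rw [(hs.apply_sq v).2, one_smul]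
  refine ⟨![w, t, W, T, P, R], fun i => ?_, fun i hi v => ?_, fun i hi v => ?_, fun i j hij h v => ?_,
    fun i j h => ?_, fun x hx hc => ?_⟩
  · fin_cases i <;> simp [hs.hw, hs.ht, hW, hT, hP, hR]
  · fin_cases i <;> simp at hi ⊢ <;> first | exact hw2 v | exact ht2 v | exact hW2 v | exact hT2 v
  · fin_cases i <;> simp at hi ⊢ <;> first | exact hP2 v | exact hR2 v
  · fin_cases i <;> fin_cases j <;> simp at hij h ⊢ <;>
      first | exact hwt v | exact htw v | exact hWT v | exact hTW v | exact hPR v | exact hRP v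
  · fin_cases i <;> fin_cases j <;> simp at h ⊢ <;>
      first | exact hWw | exact hWw.symm | exact hWt | exact hWt.symm | exact hTw | exact hTw.symm | exact hTt
            | exact hTt.symm | exact hPw | exact hPw.symm | exact hPt | exact hPt.symm | exact hRw | exact hRw.symm
            | exact hRt | exact hRt.symm | exact hPW | exact hPW.symm | exact hPT | exact hPT.symm | exact hRW
            | exact hRW.symm | exact hRT | exact hRT.symm
  · have h1 : x * w = w * x := hc 0
    have h2' : x * t = t * x := hc 1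
    obtain ⟨y, hy, hye⟩ := hs.mem_N0_of_comm hN hx h1 h2'
    refine hs.isScalar_lift hN h2' hye ?_
    have hcomm : ∀ {z : eig w ≃ₗ[K] eig w} {Z : V ≃ₗ[K] V}, (∀ v : eig w, (z v : V) = Z v) → x * Z = Z * x →
        y * z = z * y := fun {z Z} hz hZ => LinearEquiv.ext fun v => Subtype.ext (by
      rw [LinearEquiv.mul_apply, LinearEquiv.mul_apply, hye, hz, hz, hye]
      exact LinearEquiv.congr_fun hZ v)
    have hyw := hcomm hWe (hc 2)
    have hyt := hcomm hTe (hc 3)
    have hyn := hcomm hPe (hc 4)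
    have hys := hcomm hRe (hc 5)
    obtain ⟨y', hy', hye'⟩ := h0.mem_N0_of_comm hN0 hy hyw hyt
    refine h0.isScalar_lift hN0 hyt hye' ((h0.ext0 hN0).centre y' hy' fun z hz => ?_)
    have hcn : y' * n = n * y' := LinearEquiv.ext fun v => Subtype.ext (by
      rw [LinearEquiv.mul_apply, LinearEquiv.mul_apply, hye', hne, hne, hye']
      exact LinearEquiv.congr_fun hyn v)
    have hcs : y' * s = s * y' := LinearEquiv.ext fun v => Subtype.ext (by
      rw [LinearEquiv.mul_apply, LinearEquiv.mul_apply, hye', hse, hse, hye']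
      exact LinearEquiv.congr_fun hys v)
    obtain ⟨a, h | h | h | h⟩ := ha.exhaust z hz <;> subst h
    · exact ((isScalar_sc a).comm y').symm
    · exact (Commute.mul_right (show Commute y' (sc a) from ((isScalar_sc a).comm y').symm) hcn).eq
    · exact (Commute.mul_right (show Commute y' (sc a) from ((isScalar_sc a).comm y').symm) hcs).eq
    · exact (Commute.mul_right (show Commute y' (sc a) from ((isScalar_sc a).comm y').symm)
        (Commute.mul_right hcn hcs)).eq

end Four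

theorem fourBase_three : FourBase.{u, v} 3 := by
  intro K _ _ V _ _ _ _ p hp N H w t w0 t0 hq hpK hN hH hd hs h0
  obtain rfl := eq_of_cast_eq_zero hp.out Nat.prime_three hq hpK
  obtain ⟨e, h1, h2, h3, h4, h5⟩ := frame_four hN hd hs h0
  exact good_threeDD hq hd hN hH e h1 h2 h3 h4 h5

theorem fourBase_five : FourBase.{u, v} 5 := by
  intro K _ _ V _ _ _ _ p hp N H w t w0 t0 hq hpK hN hH hd hs h0
  obtain rfl := eq_of_cast_eq_zero hp.out Nat.prime_five hq hpK
  obtain ⟨e, h1, h2, h3, h4, h5⟩ := frame_four hN hd hs h0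
  exact good_fiveDD hq hd hN hH e h1 h2 h3 h4 h5

theorem eightBase : EightBase.{u, v} := by
  intro K _ _ V _ _ _ _ p hp N H w t w0 t0 n s hq hpK hN hH hd hs h0 ha
  obtain rfl := eq_of_cast_eq_zero hp.out Nat.prime_three hq hpK
  have h2 : (2 : K) ≠ 0 := by
    haveI := charP_of_natCard hq Nat.prime_three
    intro h
    exact absurd ((CharP.cast_eq_zero_iff K 3 2).1 (by exact_mod_cast h)) (by decide)
  obtain ⟨e, h1, h2, h2', h3, h4, h5⟩ := frame_eight hN h2 hs h0 ha
  exact good_threeDDQ hq hd hN hH e h1 h2 h2' h3 h4 h5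

/-- A soluble group of order prime to `p` has a regular pair on every module of exponent `p`. -/
theorem pairProperty : PairProperty.{u, v} :=
  pairProperty_of_bases fourBase_three fourBase_five eightBase

end CfsgLib.CoprimeBase
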