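import Mathlib
import Cfsg.Agent.Lib.FgsC.CoprimeBase.Core
import Cfsg.Agent.Lib.Coprime.Action2
import Cfsg.Agent.Lib.PGroups.Basic

/-!
# A soluble group acting coprimely and faithfully has two points with trivial common stabiliser

Reduction of the coprime base-two statements for linear groups and for arbitrary finite groups
to the regular pair property of modules of prime exponent.
-/

set_option autoImplicit false
set_option linter.style.haveILetI false
set_option linter.unusedSectionVars false

universe u v w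

namespace CfsgLib.CoprimeBase

open scoped Pointwise commutatorElement

/-! ### Linear groups -/

/-- A soluble coprime linear group has a base of size two. -/
theorem linear_of_pairProperty (hcore : PairProperty.{w, v}) {F : Type u} [Field F] [Finite F]
    {V : Type v} [AddCommGroup V] [Module F V] [Finite V] {G : Type w} [Group G] [Finite G]
    (hsol : Group.IsSolvable G) (ρ : Representation F G V) (hfaith : Function.Injective ρ)
    (hcop : (Nat.card G).Coprime (Nat.card V)) :
    ∃ x y : V, ∀ g : G, ρ g x = x → ρ g y = y → g = 1 := by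
  have hone : ∀ g : G, (∀ z : V, ρ g z = z) → g = 1 := fun g hg =>
    hfaith ((LinearMap.ext fun z => by simpa using hg z).trans (map_one ρ).symm)
  rcases subsingleton_or_nontrivial V with hs | hs
  · exact ⟨0, 0, fun g _ _ => hone g fun z => Subsingleton.elim _ _⟩
  obtain ⟨p, hpF⟩ := CharP.exists F
  haveI : Fintype F := Fintype.ofFinite F
  have hp : p.Prime := CharP.char_is_prime F p
  have hexp : ∀ x : V, p • x = 0 := fun x => by
    rw [← Nat.cast_smul_eq_nsmul F, CharP.cast_eq_zero, zero_smul]
  obtain ⟨z, hz⟩ := exists_ne (0 : V)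
  have hpV : p ∣ Nat.card V := by
    have h := addOrderOf_dvd_natCard z
    rcases (Nat.dvd_prime hp).1 (addOrderOf_dvd_iff_nsmul_eq_zero.2 (hexp z)) with h1 | h1
    · exact absurd (AddMonoid.addOrderOf_eq_one_iff.1 h1) hz
    · rwa [h1] at h
  have hpG : ¬ p ∣ Nat.card G := fun h =>
    hp.not_dvd_one (hcop ▸ Nat.dvd_gcd h hpV)
  letI : DistribMulAction G V :=
    { smul := fun g x => ρ g x
      one_smul := fun x => show ρ 1 x = x by simp
      mul_smul := fun g h x => show ρ (g * h) x = ρ g (ρ h x) by simp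
      smul_zero := fun g => map_zero (ρ g)
      smul_add := fun g x y => map_add (ρ g) x y }
  obtain ⟨x, y, hxy⟩ := hcore G hsol p hp hpG V hexp
  exact ⟨x, y, fun g hx hy => hone g (hxy g hx hy)⟩

/-! ### Counting -/

theorem card_le_split {A : Type u} [Group A] [Fintype (Subgroup A)] {Z : Type w} [Fintype Z]
    [DecidableEq (Subgroup A)] [DecidableRel ((· < ·) : Subgroup A → Subgroup A → Prop)]
    (s : Z → Subgroup A) (B : Subgroup A) :
    Nat.card {z // B ≤ s z} = Nat.card {z // s z = B} +
      ∑ C ∈ Finset.univ.filter (fun C => B < C), Nat.card {z // s z = C} := by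
  classical
  simp only [Nat.card_eq_fintype_card, Fintype.card_subtype]
  rw [Finset.card_eq_sum_card_fiberwise (f := s)
    (t := insert B (Finset.univ.filter (fun C => B < C))) ?_]
  · rw [Finset.sum_insert (by simp)]
    congr 1
    · congr 1
      ext z
      simp only [Finset.mem_filter, Finset.mem_univ, true_and]
      exact ⟨fun hz => hz.2, fun hz => ⟨hz.ge, hz⟩⟩
    · refine Finset.sum_congr rfl fun C hC => congrArg Finset.card ?_
      ext z
      simp only [Finset.mem_filter, Finset.mem_univ, true_and] at hC ⊢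
      exact ⟨fun hz => hz.2, fun hz => ⟨hz.symm ▸ hC.le, hz⟩⟩
  · intro z hz
    simp only [Finset.coe_filter, Finset.mem_univ, true_and, Set.mem_setOf_eq] at hz
    rcases hz.eq_or_lt with h1 | h1
    · simp [← h1]
    · simp [h1]

/-- Two finite sets with stabiliser maps having the same fixed point counts have regular points
together. -/
theorem regular_transfer {A : Type u} [Group A] [Finite A] {X : Type v} {Y : Type w} [Finite X]
    [Finite Y] (sX : X → Subgroup A) (sY : Y → Subgroup A)
    (h : ∀ B : Subgroup A, Nat.card {x // B ≤ sX x} = Nat.card {y // B ≤ sY y})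
    (hY : ∃ y, sY y = ⊥) : ∃ x, sX x = ⊥ := by
  classical
  haveI : Fintype X := Fintype.ofFinite X
  haveI : Fintype Y := Fintype.ofFinite Y
  haveI : Fintype (Subgroup A) := Fintype.ofFinite _
  have heq : ∀ B : Subgroup A, Nat.card {x // sX x = B} = Nat.card {y // sY y = B} := by
    intro B
    induction B using WellFoundedGT.induction with
    | ind B ih =>
      have h1 := card_le_split sX B
      have h2 := card_le_split sY B
      have h3 : ∑ C ∈ Finset.univ.filter (fun C => B < C), Nat.card {x // sX x = C} =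
          ∑ C ∈ Finset.univ.filter (fun C => B < C), Nat.card {y // sY y = C} :=
        Finset.sum_congr rfl fun C hC => ih C (Finset.mem_filter.1 hC).2
      have := h B
      omega
  obtain ⟨y, hy⟩ := hY
  haveI : Nonempty {y // sY y = (⊥ : Subgroup A)} := ⟨⟨y, hy⟩⟩
  have hpos : 0 < Nat.card {x // sX x = (⊥ : Subgroup A)} := by rw [heq]; exact Nat.card_pos
  obtain ⟨⟨x, hx⟩⟩ := (Nat.card_pos_iff.1 hpos).1
  exact ⟨x, hx⟩

/-! ### Coprime actions on arbitrary finite groups -/

section Coprime

variable {A : Type u} {K : Type v} [Group A] [Finite A] [Group K] [Finite K]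
  [MulDistribMulAction A K]

/-- The action as a homomorphism into the automorphism group. -/
noncomputable abbrev actHom (A : Type u) (K : Type v) [Group A] [Group K]
    [MulDistribMulAction A K] : A →* MulAut K := MulDistribMulAction.toMulAut A K

/-- The fixed subgroup of a set of operators. -/
def fixSub (K : Type v) [Group K] [MulDistribMulAction A K] (B : Subgroup A) : Subgroup K where
  carrier := {x | ∀ b ∈ B, b • x = x}
  one_mem' := fun b _ => smul_one b
  mul_mem' := fun {x y} hx hy b hb => by rw [smul_mul', hx b hb, hy b hb]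
  inv_mem' := fun {x} hx b hb => by rw [smul_inv', hx b hb]

theorem inr_mul_inl (a : A) (x : K) :
    (SemidirectProduct.inr a : K ⋊[actHom A K] A) * SemidirectProduct.inl x =
      SemidirectProduct.inl (a • x) * SemidirectProduct.inr a := by
  have h := SemidirectProduct.inl_aut (φ := actHom A K) a x
  rw [show (a • x) = (actHom A K a) x from rfl, h, mul_assoc, ← map_mul, inv_mul_cancel, map_one,
    mul_one]

theorem commute_inl_inr_iff (a : A) (x : K) :
    (SemidirectProduct.inr a : K ⋊[actHom A K] A) * SemidirectProduct.inl x =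
      SemidirectProduct.inl x * SemidirectProduct.inr a ↔ a • x = x := by
  rw [inr_mul_inl, mul_left_inj, SemidirectProduct.inl_injective.eq_iff]

/-- An invariant Sylow subgroup meets every fixed subgroup in a Sylow subgroup of it. -/
theorem exists_good_sylow (hsol : Group.IsSolvable A) (hcop : (Nat.card A).Coprime (Nat.card K))
    (q : ℕ) [hq : Fact q.Prime] :
    ∃ P : Subgroup K, IsPGroup q P ∧ (∀ a : A, ∀ x ∈ P, a • x ∈ P) ∧
      ∀ B : Subgroup A, Nat.card ↥(P ⊓ fixSub K B) = q ^ (Nat.card (fixSub K B)).factorization q := by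
  classical
  set Γ := K ⋊[actHom A K] A
  haveI : Finite Γ := Finite.of_equiv _ SemidirectProduct.equivProd.symm
  set il : K →* Γ := SemidirectProduct.inl with hil
  set ir : A →* Γ := SemidirectProduct.inr with hir
  have hilinj : Function.Injective il := SemidirectProduct.inl_injective
  set K' : Subgroup Γ := il.range with hK'
  haveI : K'.Normal := by
    rw [hK', hil, SemidirectProduct.range_inl_eq_ker_rightHom]; infer_instance
  have hcK : Nat.card K' = Nat.card K := Nat.card_congr (MonoidHom.ofInjective hilinj).toEquiv.symm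
  set A' : Subgroup Γ := ir.range with hA'
  have hsolA : Group.IsSolvable A' :=
    Group.isSolvable_of_surjective ir.rangeRestrict_surjective
  have hnA : A' ≤ Subgroup.normalizer (K' : Set Γ) := Subgroup.le_normalizer_of_normal
  have hcopA : (Nat.card A').Coprime (Nat.card K') := by
    rw [hcK, Nat.card_congr (MonoidHom.ofInjective (f := ir) SemidirectProduct.inr_injective).toEquiv.symm]
    exact hcop
  obtain ⟨P', hP'⟩ := Coprime.exists_invariant_sylow (p := q) hnA hcopA (Or.inl hsolA)
  set P₁ : Subgroup Γ := (P' : Subgroup K').map K'.subtype with hP₁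
  have hP₁K : P₁ ≤ K' := Subgroup.map_subtype_le _
  refine ⟨P₁.comap il, (P'.2.map K'.subtype).comap_of_injective il hilinj, fun a x hx => ?_, fun B => ?_⟩
  · rw [Subgroup.mem_comap] at hx ⊢
    have h := (Subgroup.mem_normalizer_iff.1 (hP' ⟨a, rfl⟩) (il x)).1 hx
    rwa [show ir a * il x * (ir a)⁻¹ = il (a • x) by rw [hil, hir, inr_mul_inl, mul_inv_cancel_right]] at h
  set B' : Subgroup Γ := B.map ir with hB'
  set C' : Subgroup Γ := (fixSub K B).map il with hC'
  have hB'A : B' ≤ A' := Subgroup.map_le_range ir B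
  have hC'cent : C' = K' ⊓ Subgroup.centralizer (B' : Set Γ) := by
    refine le_antisymm (le_inf (Subgroup.map_le_range il _) ?_) ?_
    · rintro _ ⟨x, hx, rfl⟩
      rw [Subgroup.mem_centralizer_iff]
      rintro _ ⟨b, hb, rfl⟩
      exact (commute_inl_inr_iff b x).2 (hx b hb)
    · rintro _ ⟨⟨x, rfl⟩, hx⟩
      exact ⟨x, fun b hb => (commute_inl_inr_iff b x).1
        (Subgroup.mem_centralizer_iff.1 hx (ir b) ⟨b, hb, rfl⟩), rfl⟩
  obtain ⟨R⟩ : Nonempty (Sylow q C') := inferInstance
  set R₁ : Subgroup Γ := (R : Subgroup C').map C'.subtype with hR₁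
  have hR₁C : R₁ ≤ C' := Subgroup.map_subtype_le _
  have hC'K : C' ≤ K' := Subgroup.map_le_range il _
  have hnB : B' ≤ Subgroup.normalizer (K' : Set Γ) := hB'A.trans hnA
  have hcopB : (Nat.card B').Coprime (Nat.card K') :=
    hcopA.coprime_dvd_left (Subgroup.card_dvd_of_le hB'A)
  have hsolB : Group.IsSolvable B' := Coprime.isSolvable_of_le hB'A hsolA
  have hBR : B' ≤ Subgroup.normalizer (R₁ : Set Γ) := by
    intro b hb
    rw [Subgroup.mem_normalizer_iff]
    intro z
    have hfix : ∀ y ∈ R₁, b * y = y * b := fun y hy =>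
      Subgroup.mem_centralizer_iff.1 (hC'cent ▸ hR₁C hy : y ∈ K' ⊓ _).2 b hb
    constructor
    · intro hz
      rwa [hfix z hz, mul_inv_cancel_right]
    · intro hz
      have h1 := hfix _ hz
      have : b * z * b⁻¹ = z := by
        have h2 : b * (b * z * b⁻¹) = b * z := by rw [h1]; group
        exact mul_left_cancel h2
      rwa [this] at hz
  obtain ⟨S, hRS, hSB⟩ := Coprime.exists_invariant_sylow_ge hnB hcopB (Or.inl hsolB)
    (hR₁C.trans hC'K) (R.2.map C'.subtype) hBR
  obtain ⟨c, hc, hcS⟩ := Coprime.invariant_sylow_conj hnB hcopB (Or.inl hsolB) S P' hSB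
    (hB'A.trans hP')
  have hcC : (c : Γ) ∈ C' := hC'cent ▸ ⟨c.2, hc⟩
  have hle : MulAut.conj (c : Γ) • R₁ ≤ P₁ ⊓ C' := by
    refine le_inf ?_ ?_
    · rw [hP₁, ← hcS, show ((MulAut.conj c • S : Sylow q K') : Subgroup K') = MulAut.conj c • (S : Subgroup K') from rfl,
        ← Coprime.conj_smul_map]
      exact Subgroup.pointwise_smul_le_pointwise_smul_iff.2 hRS
    · rw [Coprime.conj_smul_le_iff]
      exact fun y hy => C'.mul_mem (C'.mul_mem hcC (hR₁C hy)) (C'.inv_mem hcC)
  have hcard : Nat.card ↥(P₁ ⊓ C') = q ^ (Nat.card C').factorization q := by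
    have h1 : q ^ (Nat.card C').factorization q ∣ Nat.card ↥(P₁ ⊓ C') := by
      have := Subgroup.card_dvd_of_le hle
      rwa [Coprime.card_conj_smul, hR₁, Subgroup.card_subtype, R.card_eq_multiplicity] at this
    refine Nat.dvd_antisymm ?_ h1
    obtain ⟨k, hk⟩ := IsPGroup.iff_card.1 ((P'.2.map K'.subtype).to_le (inf_le_left : P₁ ⊓ C' ≤ P₁))
    rw [hk]
    exact pow_dvd_pow q ((hq.out.pow_dvd_iff_le_factorization Nat.card_pos.ne').1
      (hk ▸ Subgroup.card_dvd_of_le (inf_le_right : P₁ ⊓ C' ≤ C')))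
  have hCc : Nat.card C' = Nat.card (fixSub K B) :=
    (Nat.card_congr (Subgroup.equivMapOfInjective _ il hilinj).toEquiv).symm
  rw [← hCc, ← hcard, Nat.card_congr (Subgroup.equivMapOfInjective _ il hilinj).toEquiv]
  refine congrArg (fun L : Subgroup Γ => Nat.card L) (le_antisymm ?_ ?_)
  · rintro _ ⟨x, ⟨hx1, hx2⟩, rfl⟩
    exact ⟨hx1, x, hx2, rfl⟩
  · rintro _ ⟨hx1, x, hx2, rfl⟩
    exact ⟨x, ⟨hx1, hx2⟩, rfl⟩

/-- Operators trivial modulo the Frattini subgroup of an invariant `q`-subgroup centralise it. -/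
theorem pair_on_sylow (hcore : PairProperty.{u, v}) (hsol : Group.IsSolvable A)
    (hcop : (Nat.card A).Coprime (Nat.card K)) {q : ℕ} [hq : Fact q.Prime] (hqK : q ∣ Nat.card K)
    (P : Subgroup K) (hP : IsPGroup q P) (hinv : ∀ a : A, ∀ x ∈ P, a • x ∈ P) :
    ∃ x y : P, ∀ a : A, a • (x : K) = x → a • (y : K) = y → ∀ z ∈ P, a • z = z := by
  classical
  let θ : A →* MulAut P :=
    { toFun := fun a =>
        { toFun := fun x => ⟨a • (x : K), hinv a x x.2⟩
          invFun := fun x => ⟨a⁻¹ • (x : K), hinv a⁻¹ x x.2⟩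
          left_inv := fun x => Subtype.ext (inv_smul_smul a (x : K))
          right_inv := fun x => Subtype.ext (smul_inv_smul a (x : K))
          map_mul' := fun x y => Subtype.ext (smul_mul' a (x : K) (y : K)) }
      map_one' := MulEquiv.ext fun x => Subtype.ext (one_smul A (x : K))
      map_mul' := fun a b => MulEquiv.ext fun x => Subtype.ext (mul_smul a b (x : K)) }
  set Φ := frattini P with hΦ
  haveI : IsMulCommutative (P ⧸ Φ) := ⟨⟨fun x y => by
    induction x using QuotientGroup.induction_on with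
    | _ x =>
      induction y using QuotientGroup.induction_on with
      | _ y =>
        rw [← QuotientGroup.mk_mul, ← QuotientGroup.mk_mul, QuotientGroup.eq]
        refine PGroups.commutator_le_frattini hP ?_
        rw [show (x * y)⁻¹ * (y * x) = ⁅y⁻¹, x⁻¹⁆ by rw [commutatorElement_def]; group]
        exact Subgroup.commutator_mem_commutator (Subgroup.mem_top _) (Subgroup.mem_top _)⟩⟩
  open scoped IsMulCommutative in
  let _ : CommGroup (P ⧸ Φ) := inferInstance
  have hmap : ∀ a : A, Φ.map (θ a).toMonoidHom = Φ := fun a =>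
    Subgroup.characteristic_iff_map_eq.1 inferInstance (θ a)
  let ψ : A → (P ⧸ Φ) ≃* (P ⧸ Φ) := fun a => QuotientGroup.congr Φ Φ (θ a) (hmap a)
  have hψ : ∀ (a : A) (x : P), ψ a (x : P ⧸ Φ) = ((θ a x : P) : P ⧸ Φ) := fun a x => rfl
  letI : DistribMulAction A (Additive (P ⧸ Φ)) :=
    { smul := fun a z => Additive.ofMul (ψ a (Additive.toMul z))
      one_smul := fun z => by
        obtain ⟨x, rfl⟩ := QuotientGroup.mk_surjective (Additive.toMul z)
        exact congrArg (fun t : P => Additive.ofMul (t : P ⧸ Φ)) (Subtype.ext (one_smul A (x : K)))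
      mul_smul := fun a b z => by
        obtain ⟨x, rfl⟩ := QuotientGroup.mk_surjective (Additive.toMul z)
        exact congrArg (fun t : P => Additive.ofMul (t : P ⧸ Φ))
          (Subtype.ext (mul_smul a b (x : K)))
      smul_zero := fun a => map_one (ψ a)
      smul_add := fun a z z' => map_mul (ψ a) _ _ }
  have hqA : ¬ q ∣ Nat.card A := fun h => hq.out.not_dvd_one (hcop ▸ Nat.dvd_gcd h hqK)
  have hexp : ∀ z : Additive (P ⧸ Φ), q • z = 0 := fun z => by
    obtain ⟨x, rfl⟩ := QuotientGroup.mk_surjective (Additive.toMul z)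
    show Additive.ofMul ((x : P ⧸ Φ) ^ q) = 0
    rw [← QuotientGroup.mk_pow, (QuotientGroup.eq_one_iff _).2 (PGroups.pow_mem_frattini hP x)]
    rfl
  obtain ⟨v, w, hvw⟩ := hcore A hsol q hq.out hqA (Additive (P ⧸ Φ)) hexp
  obtain ⟨x, hx⟩ := QuotientGroup.mk_surjective (Additive.toMul v)
  obtain ⟨y, hy⟩ := QuotientGroup.mk_surjective (Additive.toMul w)
  refine ⟨x, y, fun a hax hay z hz => ?_⟩
  let L : Subgroup A :=
    { carrier := {b | ∀ t : Additive (P ⧸ Φ), b • t = t}
      one_mem' := fun t => one_smul A t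
      mul_mem' := fun {b c} hb hc t => by rw [mul_smul, hc t, hb t]
      inv_mem' := fun {b} hb t => by rw [inv_smul_eq_iff, hb t] }
  have haL : a ∈ L := by
    refine hvw a ?_ ?_
    · show Additive.ofMul (ψ a (Additive.toMul v)) = v
      rw [← hx, hψ, show θ a x = x from Subtype.ext hax, hx]; rfl
    · show Additive.ofMul (ψ a (Additive.toMul w)) = w
      rw [← hy, hψ, show θ a y = y from Subtype.ext hay, hy]; rfl
  set Γ := K ⋊[actHom A K] A
  haveI : Finite Γ := Finite.of_equiv _ SemidirectProduct.equivProd.symm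
  set il : K →* Γ := SemidirectProduct.inl with hil
  set ir : A →* Γ := SemidirectProduct.inr with hir
  set P₁ : Subgroup Γ := P.map il with hP₁
  set L₁ : Subgroup Γ := L.map ir with hL₁
  have hnorm : L₁ ≤ Subgroup.normalizer (P₁ : Set Γ) := by
    rintro _ ⟨b, -, rfl⟩
    rw [Subgroup.mem_normalizer_iff]
    intro g
    constructor
    · rintro ⟨k, hk, rfl⟩
      exact ⟨b • k, hinv b k hk, by rw [hil, hir, inr_mul_inl, mul_inv_cancel_right]⟩
    · rintro ⟨k, hk, he⟩
      refine ⟨b⁻¹ • k, hinv b⁻¹ k hk, ?_⟩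
      have h1 := inr_mul_inl b⁻¹ k
      rw [← hil, ← hir] at h1
      have h2 : il (b⁻¹ • k) = ir b⁻¹ * il k * (ir b⁻¹)⁻¹ := by rw [h1, mul_inv_cancel_right]
      rw [h2, he, map_inv, inv_inv]; group
  let e := Subgroup.equivMapOfInjective P il SemidirectProduct.inl_injective
  have hfr : ∀ t : P, t ∈ Φ → il (t : K) ∈ (frattini P₁).map P₁.subtype := by
    intro t ht
    refine ⟨e t, ?_, rfl⟩
    rw [SetLike.mem_coe, PGroups.mem_frattini_iff]
    intro M hM
    have hM' : IsCoatom (M.comap e.toMonoidHom) :=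
      (OrderIso.isCoatom_iff (MulEquiv.comapSubgroup e) M).2 hM
    exact (PGroups.mem_frattini_iff.1 ht) _ hM'
  have hL : L₁ ≤ Subgroup.centralizer (P₁ : Set Γ) := by
    refine Coprime.le_centralizer_of_trivial_mod_frattini hnorm ?_ ?_
    · have h1 : Nat.card L₁ ∣ Nat.card A := (Subgroup.card_map_dvd L ir).trans L.card_subgroup_dvd_card
      have h2 : Nat.card (frattini P₁) ∣ Nat.card K :=
        ((frattini P₁).card_subgroup_dvd_card).trans
          ((Subgroup.card_map_dvd P il).trans P.card_subgroup_dvd_card)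
      exact (hcop.coprime_dvd_left h1).coprime_dvd_right h2
    · rintro _ ⟨b, hb, rfl⟩ _ ⟨k, hk, rfl⟩
      have h1 : Additive.ofMul (ψ b ((⟨k, hk⟩ : P) : P ⧸ Φ)) =
          Additive.ofMul ((⟨k, hk⟩ : P) : P ⧸ Φ) := hb (Additive.ofMul ((⟨k, hk⟩ : P) : P ⧸ Φ))
      have h2 : θ b ⟨k, hk⟩ * (⟨k, hk⟩ : P)⁻¹ ∈ Φ := by
        have h3 := Additive.ofMul.injective h1
        rw [hψ] at h3
        rw [← QuotientGroup.eq_one_iff, QuotientGroup.mk_mul, QuotientGroup.mk_inv, h3,
          mul_inv_cancel]
      have h4 := hfr _ h2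
      rwa [show il ((θ b ⟨k, hk⟩ * (⟨k, hk⟩ : P)⁻¹ : P) : K) = ir b * il k * (ir b)⁻¹ * (il k)⁻¹ by
        rw [hil, hir, inr_mul_inl, mul_inv_cancel_right, ← map_inv, ← map_mul]; rfl] at h4
  exact (commute_inl_inr_iff a z).1
    (Subgroup.mem_centralizer_iff.1 (hL ⟨a, haL, rfl⟩) (il z) ⟨z, hz, rfl⟩).symm

variable [FaithfulSMul A K]

/-- A soluble group acting faithfully and coprimely has two points with trivial common stabiliser. -/
theorem group_of_pairProperty (hcore : PairProperty.{u, v}) (hsol : Group.IsSolvable A)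
    (hcop : (Nat.card A).Coprime (Nat.card K)) :
    ∃ x y : K, ∀ a : A, a • x = x → a • y = y → a = 1 := by
  classical
  let ι := {q : ℕ // q ∈ (Nat.card K).primeFactors}
  have hιp : ∀ q : ι, Fact (q : ℕ).Prime := fun q => ⟨Nat.prime_of_mem_primeFactors q.2⟩
  choose P hP hinv hcard using fun q : ι => haveI := hιp q; exists_good_sylow hsol hcop (q : ℕ)
  let sK : K × K → Subgroup A := fun z => MulAction.stabilizer A z.1 ⊓ MulAction.stabilizer A z.2
  let sY : (∀ q : ι, ↥(P q) × ↥(P q)) → Subgroup A := fun t =>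
    ⨅ q, sK ((t q).1, (t q).2)
  have hmem : ∀ (B : Subgroup A) (x : K), B ≤ MulAction.stabilizer A x ↔ x ∈ fixSub K B :=
    fun B x => Iff.rfl
  have hcount : ∀ B : Subgroup A,
      Nat.card {z // B ≤ sK z} = Nat.card {t // B ≤ sY t} := by
    intro B
    have hK : Nat.card {z // B ≤ sK z} = Nat.card (fixSub K B) ^ 2 := by
      rw [pow_two, ← Nat.card_prod]
      exact Nat.card_congr
        { toFun := fun z => (⟨z.1.1, (hmem B _).1 (z.2.trans inf_le_left)⟩,
            ⟨z.1.2, (hmem B _).1 (z.2.trans inf_le_right)⟩)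
          invFun := fun z => ⟨((z.1 : K), (z.2 : K)), le_inf ((hmem B _).2 z.1.2) ((hmem B _).2 z.2.2)⟩
          left_inv := fun z => rfl
          right_inv := fun z => rfl }
    have hY : Nat.card {t // B ≤ sY t} = ∏ q : ι, Nat.card ↥(P q ⊓ fixSub K B) ^ 2 := by
      rw [Finset.prod_congr rfl fun q _ => (pow_two (Nat.card ↥(P q ⊓ fixSub K B))).trans
        (Nat.card_prod _ _).symm, ← Nat.card_pi]
      exact Nat.card_congr
        { toFun := fun t q => (⟨(t.1 q).1, (t.1 q).1.2,
              (hmem B _).1 ((t.2.trans (iInf_le _ q)).trans inf_le_left)⟩,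
            ⟨(t.1 q).2, (t.1 q).2.2, (hmem B _).1 ((t.2.trans (iInf_le _ q)).trans inf_le_right)⟩)
          invFun := fun t => ⟨fun q => (⟨(t q).1, (t q).1.2.1⟩, ⟨(t q).2, (t q).2.2.1⟩),
            le_iInf fun q => le_inf ((hmem B _).2 (t q).1.2.2) ((hmem B _).2 (t q).2.2.2)⟩
          left_inv := fun t => rfl
          right_inv := fun t => rfl }
    rw [hK, hY, Finset.prod_pow]
    congr 1
    rw [Finset.prod_congr rfl fun q _ => hcard q B,
      Finset.prod_coe_sort (Nat.card K).primeFactors
        (fun q => q ^ (Nat.card (fixSub K B)).factorization q)]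
    conv_lhs => rw [← Nat.prod_factorization_pow_eq_self (Nat.card_pos (α := fixSub K B)).ne']
    refine Finset.prod_subset ?_ fun q _ hq => ?_
    · rw [Nat.support_factorization]
      exact Nat.primeFactors_mono (fixSub K B).card_subgroup_dvd_card Nat.card_pos.ne'
    · simp only [Finsupp.notMem_support_iff.1 hq, pow_zero]
  choose x y hxy using fun q : ι => haveI := hιp q;
    pair_on_sylow hcore hsol hcop (Nat.dvd_of_mem_primeFactors q.2) (P q) (hP q) (hinv q)
  have hbot : sY (fun q => (x q, y q)) = ⊥ := by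
    rw [Subgroup.eq_bot_iff_forall]
    intro a ha
    have htop : (⨆ q, P q) = ⊤ := by
      refine Subgroup.eq_top_of_card_eq _ (Nat.dvd_antisymm (Subgroup.card_subgroup_dvd_card _) ?_)
      rw [← Nat.factorization_le_iff_dvd Nat.card_pos.ne' Nat.card_pos.ne']
      intro r
      by_cases hr : r ∈ (Nat.card K).primeFactors
      · have hfix : fixSub K (⊥ : Subgroup A) = ⊤ := by
          rw [eq_top_iff]
          intro z _ b hb
          rw [Subgroup.mem_bot.1 hb, one_smul]
        have h1 := hcard ⟨r, hr⟩ ⊥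
        rw [hfix, inf_top_eq, Subgroup.card_top] at h1
        have h2 := Subgroup.card_dvd_of_le (le_iSup P ⟨r, hr⟩)
        rw [h1] at h2
        exact ((Nat.prime_of_mem_primeFactors hr).pow_dvd_iff_le_factorization Nat.card_pos.ne').1 h2
      · rw [← Nat.support_factorization] at hr
        rw [Finsupp.notMem_support_iff.1 hr]
        exact Nat.zero_le _
    have hle : (⨆ q, P q) ≤ fixSub K (Subgroup.zpowers a) := by
      refine iSup_le fun q z hz b hb => ?_
      have ha' : a ∈ sK ((x q : K), (y q : K)) := iInf_le (fun q : ι => sK ((x q : K), (y q : K))) q ha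
      have h0 : a ∈ MulAction.stabilizer A z := hxy q a ha'.1 ha'.2 z hz
      exact (Subgroup.zpowers_le.2 h0) hb
    exact eq_of_smul_eq_smul (α := K) fun z => by
      rw [one_smul]
      exact (htop ▸ hle) (Subgroup.mem_top z) a (Subgroup.mem_zpowers a)
  obtain ⟨⟨x', y'⟩, h⟩ := regular_transfer sK sY hcount ⟨_, hbot⟩
  exact ⟨x', y', fun a hx hy =>
    (Subgroup.eq_bot_iff_forall _).1 h a ⟨hx, hy⟩⟩

end Coprime

end CfsgLib.CoprimeBase
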