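import Mathlib
import Cfsg.Agent.Lib.FgsC.CoprimeBase.Reduction
import Cfsg.Agent.Lib.FTCons.PiSeparable
import Cfsg.Agent.Lib.Base.Cores

/-!
# Three conjugates of a Hall subgroup of a π-soluble group meet in the π-core
-/

set_option autoImplicit false
set_option linter.style.haveILetI false

universe u

namespace CfsgLib.CoprimeBase

open scoped Pointwise
open CfsgLib.FTCons

variable {G : Type u} [Group G]

/-- In a π-separable group with trivial π-core the π'-core contains its centraliser. -/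
theorem centralizer_le_piCoreCompl [Finite G] {π : Set ℕ} (hsep : PiSep π G)
    (hcore : Cfsg.piCore π G = ⊥) :
    Subgroup.centralizer (Cfsg.piCore πᶜ G : Set G) ≤ Cfsg.piCore πᶜ G := by
  set Q := Cfsg.piCore πᶜ G with hQ
  set C := Subgroup.centralizer (Q : Set G) with hC
  by_contra hCQ
  obtain ⟨n, N, h0, hn, hmono, hnormal, hstep⟩ := hsep
  obtain ⟨i, hi, hi'⟩ : ∃ i : Fin n, C ⊓ N i.castSucc ≤ Q ∧ ¬ C ⊓ N i.succ ≤ Q := by
    by_contra hcon
    simp only [not_exists, not_and, not_not] at hcon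
    have : ∀ i : Fin (n + 1), C ⊓ N i ≤ Q := by
      intro i
      induction i using Fin.induction with
      | zero => rw [h0, inf_bot_eq]; exact bot_le
      | succ i ih => exact hcon i ih
    exact hCQ (by simpa [hn] using this (Fin.last n))
  haveI := hnormal i.castSucc
  haveI := hnormal i.succ
  haveI hQn : Q.Normal := Cfsg.piCore_normal πᶜ G
  haveI hCn : C.Normal := Subgroup.normal_centralizer
  set Z := C ⊓ Q with hZ
  haveI hZn : Z.Normal := inferInstance
  set M := (C ⊓ N i.succ) ⊔ Z with hM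
  have hMC : M ≤ C := sup_le inf_le_left inf_le_left
  -- the section `M / Z` is a section of the chain
  have hsec : Z.relIndex M ∣ (N i.castSucc).relIndex (N i.succ) := by
    have h1 : Z.relIndex M ∣ (C ⊓ N i.castSucc).relIndex (C ⊓ N i.succ) := by
      rw [hM, Subgroup.relIndex_sup_right]
      rw [← Subgroup.inf_relIndex_right]
      refine Subgroup.relIndex_dvd_of_le_left _ (le_inf ?_ ?_)
      · exact le_inf inf_le_left hi
      · exact inf_le_inf_left C (hmono (Fin.castSucc_le_succ i))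
    refine h1.trans ?_
    rw [show C ⊓ N i.castSucc = N i.castSucc ⊓ (C ⊓ N i.succ) by
      rw [inf_comm (N i.castSucc), inf_assoc, inf_of_le_right (hmono (Fin.castSucc_le_succ i))],
      Subgroup.inf_relIndex_right, inf_comm C]
    exact relIndex_inf_dvd _ _ _
  have hZM : Z ≤ M := le_sup_right
  have hcard : Nat.card M = Z.relIndex M * Nat.card Z := by
    rw [← (Z.subgroupOf M).index_mul_card,
      Nat.card_congr (Subgroup.subgroupOfEquivOfLe hZM).toEquiv]
    rfl
  have hZp : ∀ q : ℕ, q.Prime → q ∣ Nat.card Z → q ∉ π := fun q hq hd =>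
    Base.piCore_primes πᶜ G q hq (hd.trans (Subgroup.card_dvd_of_le inf_le_right))
  haveI : M.Normal := inferInstance
  rcases hstep i with h | h
  · -- the π-part is a normal π-subgroup
    have hπ : ∀ q : ℕ, q.Prime → q ∣ Z.relIndex M → q ∈ π := fun q hq hd => h q hq (hd.trans hsec)
    have hcop : (Nat.card Z).Coprime (Z.relIndex M) :=
      (Coprime.coprime_of_pi hπ fun q hq hqπ hd => hZp q hq hd hqπ).symm
    haveI : (Z.subgroupOf M).Normal := inferInstance
    obtain ⟨U, hU⟩ := Subgroup.exists_right_complement'_of_coprime (N := Z.subgroupOf M)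
      (by rw [Nat.card_congr (Subgroup.subgroupOfEquivOfLe hZM).toEquiv]; exact hcop)
    have hUcard : Nat.card U = Z.relIndex M := hU.symm.index_eq_card.symm
    have hcent : ∀ z ∈ Z.subgroupOf M, ∀ m : M, z * m = m * z := fun z hz m =>
      Subtype.ext (Subgroup.mem_centralizer_iff.1 (hMC m.2) (z : G) (Subgroup.mem_subgroupOf.1 hz).2)
    haveI hUn : U.Normal := ⟨fun u hu m => by
      obtain ⟨⟨⟨z, hz⟩, ⟨v, hv⟩⟩, rfl⟩ := hU.2 m
      have hc := hcent z hz (v * u * v⁻¹)
      have : z * v * u * (z * v)⁻¹ = v * u * v⁻¹ := by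
        rw [show z * v * u * (z * v)⁻¹ = z * (v * u * v⁻¹) * z⁻¹ by group, hc, mul_inv_cancel_right]
      simp only
      rw [this]
      exact U.mul_mem (U.mul_mem hv hu) (U.inv_mem hv)⟩
    have hUπ : ∀ q : ℕ, q.Prime → q ∣ Nat.card U → q ∈ π := fun q hq hd => hπ q hq (hUcard ▸ hd)
    have h2 : U ≤ Cfsg.piCore π M := Base.le_piCore hUπ
    have h3 : (Cfsg.piCore π M).map M.subtype = ⊥ := by
      rw [Base.map_piCore_eq_inf, hcore, bot_inf_eq]
    have h4 : U = ⊥ := le_bot_iff.1 (h2.trans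
      ((Subgroup.map_eq_bot_iff_of_injective _ M.subtype_injective).1 h3).le)
    rw [h4, Subgroup.card_bot] at hUcard
    refine hi' ((le_sup_left : _ ≤ M).trans ?_)
    exact (Subgroup.relIndex_eq_one.1 hUcard.symm).trans inf_le_right
  · -- a normal π'-subgroup
    refine hi' ((le_sup_left : _ ≤ M).trans (Base.le_piCore fun q hq hd => ?_))
    rw [hcard] at hd
    exact (hq.dvd_mul.1 hd).elim (fun h' => h q hq (h'.trans hsec)) (hZp q hq)

/-- A Hall π-subgroup of a π-soluble group is soluble. -/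
theorem hall_isSolvable [Finite G] {π : Set ℕ} {n : ℕ} (N : Fin (n + 1) → Subgroup G)
    (h0 : N 0 = ⊥) (hn : N (Fin.last n) = ⊤) (hmono : Monotone N) (hnormal : ∀ i, (N i).Normal)
    (hstep : ∀ i : Fin n, (∃ p ∈ π, p.Prime ∧ ∃ k : ℕ, (N i.castSucc).relIndex (N i.succ) = p ^ k) ∨
        (∀ q : ℕ, q.Prime → q ∣ (N i.castSucc).relIndex (N i.succ) → q ∉ π))
    (H : Subgroup G) (hH : ∀ q : ℕ, q.Prime → q ∣ Nat.card H → q ∈ π) : Group.IsSolvable H := by
  have key : ∀ i : Fin (n + 1), Group.IsSolvable ((N i).subgroupOf H) := by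
    intro i
    induction i using Fin.induction with
    | zero =>
      have : (N 0).subgroupOf H = ⊥ := by rw [h0, Subgroup.bot_subgroupOf]
      haveI : Subsingleton ((N 0).subgroupOf H) := by rw [this]; infer_instance
      infer_instance
    | succ i ih =>
      haveI := hnormal i.castSucc
      haveI := ih
      have hle : (N i.castSucc).subgroupOf H ≤ (N i.succ).subgroupOf H :=
        Subgroup.comap_mono (hmono (Fin.castSucc_le_succ i))
      set S := ((N i.castSucc).subgroupOf H).subgroupOf ((N i.succ).subgroupOf H) with hS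
      have hsolS : Group.IsSolvable S :=
        Group.isSolvable_of_surjective (f := (Subgroup.subgroupOfEquivOfLe hle).symm.toMonoidHom)
          (Subgroup.subgroupOfEquivOfLe hle).symm.surjective
      have hd : S.index ∣ (N i.castSucc).relIndex (N i.succ) := by
        rw [hS, ← Subgroup.relIndex, Subgroup.subgroupOf, Subgroup.relIndex_comap,
          Subgroup.subgroupOf_map_subtype]
        exact relIndex_inf_dvd _ _ _
      have hdH : S.index ∣ Nat.card H :=
        (S.index_dvd_card).trans (((N i.succ).subgroupOf H).card_subgroup_dvd_card)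
      haveI : S.Normal := inferInstance
      have hq : Group.IsSolvable ((N i.succ).subgroupOf H ⧸ S) := by
        rcases hstep i with ⟨p, -, hp, k, hk⟩ | h
        · haveI := Fact.mk hp
          obtain ⟨j, -, hj⟩ := (Nat.dvd_prime_pow hp).1 (hk ▸ hd)
          have : IsPGroup p ((N i.succ).subgroupOf H ⧸ S) := IsPGroup.of_card hj
          haveI := this.isNilpotent
          infer_instance
        · have h1 : S.index = 1 := by
            by_contra hne
            obtain ⟨q, hq, hqd⟩ := Nat.exists_prime_and_dvd hne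
            exact h q hq (hqd.trans hd) (hH q hq (hqd.trans hdH))
          haveI : Subsingleton ((N i.succ).subgroupOf H ⧸ S) :=
            (Nat.card_eq_one_iff_unique.1 h1).1
          infer_instance
      exact (Group.isSolvable_iff_subgroup_quotient S).2 ⟨hsolS, hq⟩
  have h := key (Fin.last n)
  rw [hn, Subgroup.top_subgroupOf] at h
  exact Group.isSolvable_of_surjective (f := (Subgroup.topEquiv : (⊤ : Subgroup H) ≃* H).toMonoidHom)
    (Subgroup.topEquiv : (⊤ : Subgroup H) ≃* H).surjective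

/-- Three conjugates of a Hall π-subgroup of a π-soluble group meet in the π-core. -/
theorem hall_of_pairProperty (hcore : PairProperty.{u, u}) [Finite G] (π : Set ℕ)
    (hsolv : (∃ (n : ℕ) (N : Fin (n + 1) → Subgroup G), N 0 = ⊥ ∧ N (Fin.last n) = ⊤ ∧ Monotone N ∧
      (∀ i, (N i).Normal) ∧
      ∀ i : Fin n, (∃ p ∈ π, p.Prime ∧ ∃ k : ℕ, (N i.castSucc).relIndex (N i.succ) = p ^ k) ∨
        (∀ q : ℕ, q.Prime → q ∣ (N i.castSucc).relIndex (N i.succ) → q ∉ π)))
    (H : Subgroup G) (hH : Cfsg.IsPiHall π H) :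
    ∃ x y : G, H ⊓ MulAut.conj x • H ⊓ MulAut.conj y • H = Cfsg.piCore π G := by
  obtain ⟨n, N, h0, hn, hmono, hnormal, hstep⟩ := hsolv
  have hsolH := hall_isSolvable N h0 hn hmono hnormal hstep H hH.1
  have hsep : PiSep π G := ⟨n, N, h0, hn, hmono, hnormal, fun i => (hstep i).imp
    (fun ⟨p, hpπ, hp, k, hk⟩ q hq hd => by
      rw [(Nat.prime_dvd_prime_iff_eq hq hp).1 (hq.dvd_of_dvd_pow (hk ▸ hd))]; exact hpπ)
    id⟩
  set O := Cfsg.piCore π G with hO
  set f := QuotientGroup.mk' O with hf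
  have hsurj : Function.Surjective f := QuotientGroup.mk'_surjective O
  set H₁ := H.map f with hH₁
  have hOH : O ≤ H := by
    have h1 : H ⊔ O = H := (Coprime.piHall_eq_of_le hH
      (show Cfsg.IsPiSubgroup π (H ⊔ O) from fun q hq hd =>
        (hq.dvd_mul.1 (hd.trans (Coprime.card_sup_dvd Subgroup.le_normalizer_of_normal))).elim
          (hH.1 q hq) (Base.piCore_primes π G q hq))
      le_sup_left).symm
    exact h1 ▸ le_sup_right
  set Q := Cfsg.piCore πᶜ (G ⧸ O) with hQ
  have hcent : Subgroup.centralizer (Q : Set (G ⧸ O)) ≤ Q :=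
    centralizer_le_piCoreCompl (hsep.quotient O) (Base.piCore_quotient_piCore π G)
  have hH₁π : ∀ q : ℕ, q.Prime → q ∣ Nat.card H₁ → q ∈ π := fun q hq hd =>
    hH.1 q hq (hd.trans (Subgroup.card_map_dvd H f))
  have hcop : (Nat.card H₁).Coprime (Nat.card Q) :=
    Coprime.coprime_of_pi hH₁π (fun q hq hqπ hd => Base.piCore_primes πᶜ _ q hq hd hqπ)
  have hbot : H₁ ⊓ Q = ⊥ := Coprime.inf_eq_bot_of_coprime hcop
  letI : MulDistribMulAction H₁ Q :=
    { smul := fun h q => ⟨(h : G ⧸ O) * q * (h : G ⧸ O)⁻¹,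
        (Cfsg.piCore_normal πᶜ (G ⧸ O)).conj_mem _ q.2 _⟩
      one_smul := fun q => Subtype.ext (show (1 : G ⧸ O) * q * (1 : G ⧸ O)⁻¹ = q by group)
      mul_smul := fun a b q => Subtype.ext (show ((a : G ⧸ O) * b) * q * ((a : G ⧸ O) * b)⁻¹ =
        (a : G ⧸ O) * ((b : G ⧸ O) * q * (b : G ⧸ O)⁻¹) * (a : G ⧸ O)⁻¹ by group)
      smul_mul := fun a x y => Subtype.ext (show (a : G ⧸ O) * ((x : G ⧸ O) * y) * (a : G ⧸ O)⁻¹ =
        (a : G ⧸ O) * x * (a : G ⧸ O)⁻¹ * ((a : G ⧸ O) * y * (a : G ⧸ O)⁻¹) by group)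
      smul_one := fun a => Subtype.ext (show (a : G ⧸ O) * 1 * (a : G ⧸ O)⁻¹ = 1 by group) }
  haveI : FaithfulSMul H₁ Q := by
    refine ⟨fun {a b} hab => ?_⟩
    have hc : ∀ q : Q, (b⁻¹ * a) • q = q := fun q => by rw [mul_smul, hab, inv_smul_smul]
    have h1 : ((b⁻¹ * a : H₁) : G ⧸ O) ∈ Subgroup.centralizer (Q : Set (G ⧸ O)) := by
      rw [Subgroup.mem_centralizer_iff]
      intro q hq
      have h2 : ((b⁻¹ * a : H₁) : G ⧸ O) * q * ((b⁻¹ * a : H₁) : G ⧸ O)⁻¹ = q :=
        congrArg Subtype.val (hc ⟨q, hq⟩)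
      exact (mul_inv_eq_iff_eq_mul.1 h2).symm
    have h3 : ((b⁻¹ * a : H₁) : G ⧸ O) ∈ H₁ ⊓ Q := ⟨(b⁻¹ * a).2, hcent h1⟩
    rw [hbot, Subgroup.mem_bot, OneMemClass.coe_eq_one] at h3
    exact (inv_mul_eq_one.1 h3).symm
  haveI : Group.IsSolvable H := hsolH
  have hsol₁ : Group.IsSolvable H₁ :=
    Group.isSolvable_of_surjective (f := f.subgroupMap H) (f.subgroupMap_surjective H)
  obtain ⟨x, y, hxy⟩ := group_of_pairProperty hcore hsol₁ hcop
  obtain ⟨g, hg⟩ := hsurj (x : G ⧸ O)
  obtain ⟨g', hg'⟩ := hsurj (y : G ⧸ O)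
  refine ⟨g, g', le_antisymm (fun z hz => ?_) ?_⟩
  · obtain ⟨⟨hz1, hz2⟩, hz3⟩ := hz
    have hfix : ∀ (t : Q) (s : G), f s = t → z ∈ MulAut.conj s • H →
        (⟨f z, z, hz1, rfl⟩ : H₁) • t = t := by
      intro t s hs hzs
      rw [Coprime.mem_conj_smul] at hzs
      set k : G ⧸ O := (t : G ⧸ O)⁻¹ * f z * t with hk
      have hkH : k ∈ H₁ := ⟨s⁻¹ * z * s, hzs, by rw [map_mul, map_mul, map_inv, hs]⟩
      have h1 : f z * k⁻¹ ∈ H₁ ⊓ Q := by
        refine ⟨H₁.mul_mem ⟨z, hz1, rfl⟩ (H₁.inv_mem hkH), ?_⟩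
        rw [hk, show f z * ((t : G ⧸ O)⁻¹ * f z * t)⁻¹ = (f z * (t : G ⧸ O)⁻¹ * (f z)⁻¹) * t by group]
        exact Q.mul_mem ((Cfsg.piCore_normal πᶜ (G ⧸ O)).conj_mem _ (Q.inv_mem t.2) _) t.2
      rw [hbot, Subgroup.mem_bot, mul_inv_eq_one, hk] at h1
      refine Subtype.ext (show f z * t * (f z)⁻¹ = t from ?_)
      have h2 : (t : G ⧸ O) * f z = f z * t := by
        rw [← mul_inv_cancel_left (t : G ⧸ O) (f z * t)]
        calc (t : G ⧸ O) * f z = t * ((t : G ⧸ O)⁻¹ * f z * t) := congrArg _ h1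
          _ = _ := by group
      rw [← h2, mul_inv_cancel_right]
    have h := congrArg Subtype.val (hxy ⟨f z, z, hz1, rfl⟩ (hfix x g hg hz2) (hfix y g' hg' hz3))
    exact (QuotientGroup.eq_one_iff z).1 h
  · have hc : ∀ s : G, O ≤ MulAut.conj s • H := fun s z hz => by
      rw [Coprime.mem_conj_smul]
      exact hOH (by simpa using (Cfsg.piCore_normal π G).conj_mem z hz s⁻¹)
    exact le_inf (le_inf hOH (hc g)) (hc g')

end CfsgLib.CoprimeBase
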